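import Mathlib
import Cfsg.Agent.Lib.Blocks.DefectProps
import Cfsg.Agent.Lib.Blocks.Covering
import Cfsg.Agent.Lib.Blocks.HeightZero
import Cfsg.Agent.Lib.Chars.DefectZero
import Cfsg.Agent.Lib.Chars.Ops

/-!
# Blocks and characters with a central `p`-subgroup in the kernel
-/

set_option autoImplicit false

namespace Cfsg.Agent.Lib.Blocks.CentralKernel

open Cfsg MonoidAlgebra
open Cfsg.Agent.Lib
open Cfsg.Agent.Lib.Blocks
open scoped ComplexConjugate

universe u

variable {C : Type u} [Group C] [Finite C] {p : ℕ} [Fact p.Prime] {M : Ideal AlgInt} [M.IsPrime]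
  {Z : Subgroup C}

omit [Fact p.Prime] [M.IsPrime] in
/-- A central element acts by a scalar. -/
theorem irr_mul_central (χ : IrrCharacter C) {z : C} (hz : z ∈ Subgroup.center C) (g : C) :
    (χ : C → ℂ) (g * z) = (χ : C → ℂ) g * (χ : C → ℂ) z / (χ : C → ℂ) 1 := by
  classical
  obtain ⟨n, ρ, hρ, hχ⟩ := χ.2
  have hmem : (single z (1 : ℂ)) ∈ Subalgebra.center ℂ (MonoidAlgebra ℂ C) := by
    refine mem_center_iff.2 fun a b => ?_
    simp only [coeff_single, Finsupp.single_apply]
    refine if_congr ⟨fun h => ?_, fun h => ?_⟩ rfl rfl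
    · have := congrArg (fun t => b⁻¹ * t * b) h
      rw [show b⁻¹ * z * b = z by rw [mul_assoc, ← Subgroup.mem_center_iff.1 hz b, ← mul_assoc,
        inv_mul_cancel, one_mul]] at this
      rw [this]; group
    · rw [← h, Subgroup.mem_center_iff.1 hz b, mul_inv_cancel_right]
  have h1 := asAlgebraHom_center_eq_omega ρ hmem
  rw [Representation.asAlgebraHom_single_one, omega_single, one_mul,
    Algebra.algebraMap_eq_smul_one, hχ] at h1
  rw [← hχ]
  show LinearMap.trace ℂ _ (ρ (g * z)) = _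
  rw [map_mul, h1, mul_smul_comm, mul_one, map_smul, smul_eq_mul]
  show _ * ρ.character g = _
  rw [hχ]
  ring

/-- A block has a member trivial on any central `p`-subgroup. -/
theorem exists_mem_kernel (hM : IsPModular p M) (hZc : Z ≤ Subgroup.center C)
    (hZ : IsPGroup p Z) {e : Set (IrrCharacter C)} (he : IsPBlock M e) :
    ∃ θ ∈ e, ∀ z ∈ Z, (θ : C → ℂ) z = (θ : C → ℂ) 1 := by
  classical
  cases nonempty_fintype C
  have : Fintype Z := Fintype.ofFinite _
  haveI : Z.Normal := ⟨fun z hz g => by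
    rw [Subgroup.mem_center_iff.1 (hZc hz) g, mul_inv_cancel_right]; exact hz⟩
  by_contra hno
  push Not at hno
  have h0 : ∀ χ ∈ e, ∑ z : Z, (χ : C → ℂ) z = 0 := fun χ hχ => by
    by_contra h
    obtain ⟨z, hz, hne⟩ := hno χ hχ
    exact hne (Covering.eq_one_of_sum_ne_zero χ h ⟨z, hz⟩)
  have hsum : ∑ z : Z, blockCoeff e (z : C) = 0 := by
    simp only [blockCoeff_eq_sum, ← Finset.mul_sum]
    rw [Finset.sum_comm]
    refine mul_eq_zero_of_right _ (Finset.sum_eq_zero fun χ _ => ?_)
    by_cases hχ : χ ∈ e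
    · simp only [if_pos hχ]
      rw [← Finset.mul_sum, ← map_sum, h0 χ hχ, map_zero, mul_zero]
    · simp [if_neg hχ]
  rw [Finset.sum_eq_single (1 : Z)] at hsum
  · obtain ⟨χ₀, hχ₀⟩ := Blocks.isPBlock_nonempty he
    rw [OneMemClass.coe_one, blockCoeff_eq_sum, mul_eq_zero,
      inv_eq_zero, Nat.cast_eq_zero] at hsum
    rcases hsum with h | h
    · exact Nat.card_pos.ne' h
    · have h' : ((∑ χ : IrrCharacter C,
          if χ ∈ e then charDegree (χ : C → ℂ) * charDegree (χ : C → ℂ) else 0 : ℕ) : ℂ) = 0 := by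
        rw [← h, Nat.cast_sum]
        refine Finset.sum_congr rfl fun χ _ => ?_
        rw [(exists_degree_eq χ).1]
        by_cases hχ : χ ∈ e <;> simp [hχ]
      rw [Nat.cast_eq_zero, Finset.sum_eq_zero_iff] at h'
      have := h' χ₀ (Finset.mem_univ _)
      rw [if_pos hχ₀, mul_self_eq_zero] at this
      exact (exists_degree_eq χ₀).2.1 this
  · intro z _ hz
    refine blockCoeff_eq_zero_of_pSingular hM he ?_
    obtain ⟨k, hk⟩ := IsPGroup.iff_orderOf.1 hZ z
    rw [Subgroup.orderOf_coe, hk]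
    refine dvd_pow_self p fun hk0 => hz ?_
    rwa [hk0, pow_zero, orderOf_eq_one_iff] at hk
  · exact fun h => absurd (Finset.mem_univ _) h

variable {θ : IrrCharacter C}

omit [M.IsPrime] in
/-- A character inflated from one of defect zero vanishes off the elements with `p`-part in the
kernel. -/
theorem apply_eq_zero [Z.Normal] (hker : ∀ z ∈ Z, (θ : C → ℂ) z = (θ : C → ℂ) 1)
    (hdeg : (charDegree (θ : C → ℂ)).factorization p + (Nat.card Z).factorization p =
      (Nat.card C).factorization p) {x : C} (hx : x ^ pPartExp C p ∉ Z) :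
    (θ : C → ℂ) x = 0 := by
  have hp := (Fact.out : p.Prime)
  obtain ⟨ψ, hψ⟩ := Chars.exists_irr_quotient Z θ hker
  rw [← hψ x]
  obtain ⟨m, σ, hσ, hσψ⟩ := ψ.2
  rw [← hσψ]
  have hcard : (Nat.card C).factorization p =
      (Nat.card (C ⧸ Z)).factorization p + (Nat.card Z).factorization p := by
    rw [← Finsupp.add_apply, ← Nat.factorization_mul Nat.card_pos.ne' Nat.card_pos.ne',
      ← Subgroup.card_eq_card_quotient_mul_card_subgroup]
  have hm : charDegree (θ : C → ℂ) = m := by
    have h1 := hψ 1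
    rw [QuotientGroup.mk_one, ← hσψ, Representation.char_one, Module.finrank_fintype_fun_eq_card,
      Fintype.card_fin] at h1
    simp [charDegree, ← h1]
  have hn : m.factorization p = (Nat.card (C ⧸ Z)).factorization p := by rw [← hm]; omega
  refine Chars.char_eq_zero_of_defect_zero σ hp (n := (Nat.card (C ⧸ Z)).factorization p)
    (Nat.ordProj_dvd _ _) (Nat.pow_succ_factorization_not_dvd Nat.card_pos.ne' hp)
    (by rw [Module.finrank_fintype_fun_eq_card, Fintype.card_fin, ← hn]; exact Nat.ordProj_dvd _ _)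
    _ ?_
  by_contra hreg
  refine hx ((QuotientGroup.eq_one_iff _).1 (orderOf_eq_one_iff.1 ?_))
  obtain ⟨-, -, -, ⟨k, hk⟩, -⟩ := (isPPart_iff (p := p) (g := x)).2 rfl
  have h1 : orderOf ((x ^ pPartExp C p : C) : C ⧸ Z) ∣ p ^ k :=
    hk ▸ orderOf_map_dvd (QuotientGroup.mk' Z) _
  have h2 : orderOf ((x ^ pPartExp C p : C) : C ⧸ Z) ∣ orderOf (x : C ⧸ Z) := by
    rw [QuotientGroup.mk_pow]; exact orderOf_pow_dvd _
  exact Nat.eq_one_of_dvd_coprimes
    (((hp.coprime_iff_not_dvd).2 hreg).pow_left k) h1 h2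

/-- Sums over the elements with `p`-part in a central `p`-subgroup reduce to `p`-regular ones. -/
theorem sum_pPart_mem [Fintype C] (hZc : Z ≤ Subgroup.center C) (hZ : IsPGroup p Z)
    [DecidablePred (· ∈ Z)] {F : C → ℂ} (hF : ∀ x, ∀ z ∈ Z, F (x * z) = F x) :
    (∑ x : C, if x ^ pPartExp C p ∈ Z then F x else 0) =
      (Nat.card Z : ℂ) * ∑ y : C, if p ∣ orderOf y then 0 else F y := by
  classical
  have hreg : ∀ y : C, ¬ p ∣ orderOf y ↔ y ^ pPartExp C p = 1 := fun y =>
    ⟨pow_pPartExp_of_pRegular, fun h hd => isPPart_ne_one (isPPart_iff.2 rfl) hd h⟩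
  have hpow : ∀ (x : C), ∀ z ∈ Z, (x * z) ^ pPartExp C p = x ^ pPartExp C p * z := by
    intro x z hz
    rw [(show Commute x z from Subgroup.mem_center_iff.1 (hZc hz) x).mul_pow,
      pow_pPartExp_of_pElement ⟨_, (Subgroup.orderOf_coe ⟨z, hz⟩).trans
        (IsPGroup.iff_orderOf.1 hZ ⟨z, hz⟩).choose_spec⟩]
  have key : ∀ x : C, (if x ^ pPartExp C p ∈ Z then F x else 0) =
      ∑ z : Z, if p ∣ orderOf (x * (z : C)) then 0 else F (x * (z : C)) := by
    intro x
    simp only [← ite_not (p := p ∣ orderOf _), hreg]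
    by_cases hx : x ^ pPartExp C p ∈ Z
    · rw [if_pos hx, Finset.sum_eq_single (⟨_, inv_mem hx⟩ : Z)]
      · rw [if_pos (by rw [hpow _ _ (inv_mem hx), mul_inv_cancel]), hF _ _ (inv_mem hx)]
      · intro z _ hz
        rw [if_neg fun h => hz (Subtype.ext ?_)]
        rw [hpow _ _ z.2] at h
        exact eq_inv_of_mul_eq_one_right h
      · exact fun h => absurd (Finset.mem_univ _) h
    · rw [if_neg hx, Finset.sum_eq_zero]
      intro z _
      rw [if_neg fun h => hx ?_]
      rw [hpow _ _ z.2, mul_eq_one_iff_eq_inv] at h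
      exact h ▸ inv_mem z.2
  rw [Finset.sum_congr rfl fun x _ => key x, Finset.sum_comm, Nat.card_eq_fintype_card,
    ← nsmul_eq_mul, ← Finset.card_univ, ← Finset.sum_const]
  exact Finset.sum_congr rfl fun z _ =>
    Fintype.sum_equiv (Equiv.mulRight (z : C)) _ _ fun x => rfl

/-- A block containing a character inflated from one of defect zero modulo a central
`p`-subgroup has that subgroup as its defect group. -/
theorem defectGroup_eq (hM : IsPModular p M) (hZc : Z ≤ Subgroup.center C)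
    (hZ : IsPGroup p Z) {e : Set (IrrCharacter C)} (he : IsPBlock M e) (hθ : θ ∈ e)
    (hker : ∀ z ∈ Z, (θ : C → ℂ) z = (θ : C → ℂ) 1)
    (hdeg : (charDegree (θ : C → ℂ)).factorization p + (Nat.card Z).factorization p =
      (Nat.card C).factorization p) {D : Subgroup C} (hD : IsDefectGroup p M e D) :
    D = Z := by
  classical
  cases nonempty_fintype C
  have : Fintype Z := Fintype.ofFinite _
  have hp := (Fact.out : p.Prime)
  haveI hn : Z.Normal := ⟨fun z hz g => by
    rw [Subgroup.mem_center_iff.1 (hZc hz) g, mul_inv_cancel_right]; exact hz⟩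
  have hZD : Z ≤ D := normal_le_defectGroup hM hZ he hD
  have hinv : ∀ (χ : IrrCharacter C), (∀ z ∈ Z, (χ : C → ℂ) z = (χ : C → ℂ) 1) →
      ∀ x, ∀ z ∈ Z, (χ : C → ℂ) (x * z) = (χ : C → ℂ) x := fun χ hχ x z hz => by
    rw [irr_mul_central χ (hZc hz), hχ z hz, mul_div_assoc,
      div_self (Chars.irr_apply_one_ne_zero χ), mul_one]
  set n := (Nat.card C : ℂ) with hn'
  have hn0 : n ≠ 0 := Nat.cast_ne_zero.2 Nat.card_pos.ne'
  set k : ℂ := ((charDegree (θ : C → ℂ) * Nat.card Z : ℕ) : ℂ) / (Nat.card C : ℕ) with hk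
  have hkmem : MemLocalRing M k := mem_localRing.1 (natCast_div_mem_localRing hM Nat.card_pos.ne'
    (Or.inl (by
      rw [Nat.factorization_mul (exists_degree_eq θ).2.1 Nat.card_pos.ne', Finsupp.add_apply]
      omega)))
  have hθ1 := (exists_degree_eq θ).1
  set w : C → ℂ := fun x => if p ∣ orderOf x then 0 else k * (θ : C → ℂ) x⁻¹ with hw
  have hwc : IsClassFunction C w := fun g h => by
    simp only [hw]
    rw [show orderOf (h * g * h⁻¹) = orderOf g from
      orderOf_injective (MulAut.conj h).toMonoidHom (MulAut.conj h).injective g,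
      show (h * g * h⁻¹)⁻¹ = h * g⁻¹ * h⁻¹ by group, Chars.irr_isClassFunction θ g⁻¹ h]
  have hwR : ∀ x, MemLocalRing M (w x) := fun x => by
    simp only [hw]
    split_ifs
    · exact mem_localRing.1 (zero_mem _)
    · exact mem_localRing.1 (mul_mem (mem_localRing.2 hkmem)
        (isIntegral_mem_localRing (Chars.irr_isIntegral θ _)))
  have hinv' : ∀ (ψ : IrrCharacter C), (∀ z ∈ Z, (ψ : C → ℂ) z = (ψ : C → ℂ) 1) → ∀ x, ∀ z ∈ Z,
      (fun x => (θ : C → ℂ) x⁻¹ * (ψ : C → ℂ) x) (x * z) =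
        (fun x => (θ : C → ℂ) x⁻¹ * (ψ : C → ℂ) x) x := fun ψ hψ x z hz => by
    show (θ : C → ℂ) (x * z)⁻¹ * _ = _
    rw [hinv ψ hψ x z hz, mul_inv_rev, ← Subgroup.mem_center_iff.1 (hZc (inv_mem hz)) x⁻¹,
      hinv θ hker _ _ (inv_mem hz)]
  have heval : ∀ ψ : IrrCharacter C, (∀ z ∈ Z, (ψ : C → ℂ) z = (ψ : C → ℂ) 1) →
      ∑ x : C, w x * (ψ : C → ℂ) x / (ψ : C → ℂ) 1 = if ψ = θ then 1 else 0 := by
    intro ψ hψ
    have h1 := sum_pPart_mem (p := p) hZc hZ (F := fun x => (θ : C → ℂ) x⁻¹ * (ψ : C → ℂ) x) (hinv' ψ hψ)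
    rw [Finset.sum_congr rfl (g := fun x => (θ : C → ℂ) x⁻¹ * (ψ : C → ℂ) x) fun x _ => by
      split_ifs with h
      · rfl
      · rw [apply_eq_zero (p := p) hker hdeg (x := x⁻¹) (by rwa [inv_pow, inv_mem_iff]), zero_mul]]
      at h1
    have h2 := Chars.classInner_irr ψ θ
    rw [classInner, Finset.sum_congr rfl (g := fun x => (θ : C → ℂ) x⁻¹ * (ψ : C → ℂ) x)
      (fun x _ => by rw [← Chars.irr_inv θ x, mul_comm]), h1] at h2
    calc ∑ x : C, w x * (ψ : C → ℂ) x / (ψ : C → ℂ) 1
        = (k / (ψ : C → ℂ) 1) * ∑ x : C, if p ∣ orderOf x then 0 else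
            (θ : C → ℂ) x⁻¹ * (ψ : C → ℂ) x := by
          rw [Finset.mul_sum]
          refine Finset.sum_congr rfl fun x _ => ?_
          simp only [hw]
          split_ifs
          · simp
          · ring
      _ = ((θ : C → ℂ) 1 / (ψ : C → ℂ) 1) * if ψ = θ then 1 else 0 := by
          rw [← h2, hk, hθ1]
          push_cast
          ring
      _ = _ := by
          split_ifs with h
          · rw [h, div_self (Chars.irr_apply_one_ne_zero θ), one_mul]
          · rw [mul_zero]
  have huniq : ∀ ψ ∈ e, (∀ z ∈ Z, (ψ : C → ℂ) z = (ψ : C → ℂ) 1) → ψ = θ := by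
    intro ψ hψe hψ
    by_contra hne
    have h := HeightZero.eval_congr_self hwc hwR (Chars.irr_isClassFunction θ)
      (Chars.irr_isClassFunction ψ) (sameBlock_of_mem he hθ hψe)
    rw [heval θ hker, heval ψ hψ, if_pos rfl, if_neg hne, sub_zero] at h
    exact not_memLocalIdeal_one h
  obtain ⟨g, hg, hgD⟩ := isDefectGroup_iff.1 hD
  have hgreg : ¬ p ∣ orderOf g := fun h =>
    hg.2.1 (by rw [blockCoeff_eq_zero_of_pSingular hM he h]; exact memLocalIdeal_zero)
  have hge : blockCoeff e g = k * (θ : C → ℂ) g⁻¹ := by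
    have h1 : ∑ z : Z, blockCoeff e (g * (z : C)) = blockCoeff e g := by
      rw [Finset.sum_eq_single (1 : Z)]
      · simp
      · intro z _ hz
        refine blockCoeff_eq_zero_of_pSingular hM he ?_
        by_contra hreg
        have h2 := pow_pPartExp_of_pRegular hreg
        rw [(show Commute g (z : C) from Subgroup.mem_center_iff.1 (hZc z.2) g).mul_pow,
          pow_pPartExp_of_pRegular hgreg, one_mul, pow_pPartExp_of_pElement
            ⟨_, (Subgroup.orderOf_coe z).trans (IsPGroup.iff_orderOf.1 hZ z).choose_spec⟩]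
          at h2
        exact hz (Subtype.ext h2)
      · exact fun h => absurd (Finset.mem_univ _) h
    rw [← h1]
    simp only [blockCoeff_eq_sum, ← Finset.mul_sum]
    rw [Finset.sum_comm, Finset.sum_eq_single θ]
    · simp only [if_pos hθ, hinv θ hker g _ (Subtype.property _), Finset.sum_const, Finset.card_univ,
        ← Chars.irr_inv, ← Nat.card_eq_fintype_card, nsmul_eq_mul, hk, hθ1]
      push_cast
      ring
    · intro χ _ hne
      by_cases hχ : χ ∈ e
      · simp only [if_pos hχ]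
        rw [← Finset.mul_sum, ← map_sum]
        have h0 : ∑ z : Z, (χ : C → ℂ) z = 0 := by
          by_contra h
          exact hne (huniq χ hχ fun z hz => Covering.eq_one_of_sum_ne_zero χ h ⟨z, hz⟩)
        rw [Finset.sum_congr rfl fun z _ => irr_mul_central χ (hZc z.2) g, ← Finset.sum_div,
          ← Finset.mul_sum, h0]
        simp
      · simp [if_neg hχ]
    · exact fun h => absurd (Finset.mem_univ _) h
  by_contra hne
  have hlt : (Nat.card Z).factorization p < (Nat.card D).factorization p := by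
    have hcard : Nat.card Z < Nat.card D := by
      refine lt_of_le_of_ne (Subgroup.card_le_of_le hZD) fun h => hne ?_
      exact (Subgroup.eq_of_le_of_card_ge hZD h.ge).symm
    obtain ⟨a, ha⟩ := IsPGroup.iff_card.1 hZ
    obtain ⟨b, hb⟩ := IsPGroup.iff_card.1 hgD.1
    rw [ha, hb] at hcard ⊢
    rw [hp.factorization_pow, hp.factorization_pow, Finsupp.single_eq_same, Finsupp.single_eq_same]
    exact (Nat.pow_lt_pow_iff_right hp.one_lt).1 hcard
  have : Fintype D := Fintype.ofFinite _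
  have hgc : g⁻¹ ∈ Subgroup.centralizer (D : Set C) :=
    inv_mem (le_centralizer_singleton_iff.1 hgD.2.1)
  obtain ⟨c, hc, hsum⟩ := exists_sum_translate_eq (Chars.irr_isCharacter θ) D hgc
  have hval : ∑ u : D, (θ : C → ℂ) (g⁻¹ * (u : C)) = (Nat.card Z : ℂ) * (θ : C → ℂ) g⁻¹ := by
    rw [← Finset.sum_filter_add_sum_filter_not Finset.univ (fun u : D => (u : C) ∈ Z),
      Finset.sum_congr rfl fun u hu => hinv θ hker _ _ (Finset.mem_filter.1 hu).2,
      Finset.sum_const, nsmul_eq_mul, Finset.sum_eq_zero (s := Finset.univ.filter _), add_zero]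
    · rw [← Fintype.card_subtype, ← Nat.card_eq_fintype_card]
      congr 2
      exact Nat.card_congr ⟨fun u => ⟨_, u.2⟩, fun z => ⟨⟨_, hZD z.2⟩, z.2⟩, fun _ => rfl,
        fun _ => rfl⟩
    · intro u hu
      refine apply_eq_zero (p := p) hker hdeg ?_
      rw [(show Commute g⁻¹ (u : C) from
          (Subgroup.mem_centralizer_iff.1 hgc _ u.2).symm).mul_pow, inv_pow,
        pow_pPartExp_of_pRegular hgreg, inv_one, one_mul, pow_pPartExp_of_pElement
          ⟨_, (Subgroup.orderOf_coe u).trans (IsPGroup.iff_orderOf.1 hgD.1 u).choose_spec⟩]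
      exact (Finset.mem_filter.1 hu).2
  rw [hval] at hsum
  refine hg.2.1 ?_
  rw [hge]
  refine memLocalIdeal_mul_left hkmem ?_
  rw [show (θ : C → ℂ) g⁻¹ = ((Nat.card D : ℂ) / (Nat.card Z : ℂ)) * c by
    rw [div_mul_eq_mul_div, ← hsum, mul_div_cancel_left₀ _ (Nat.cast_ne_zero.2 Nat.card_pos.ne')]]
  exact memLocalIdeal_mul_right (memLocalIdeal_natCast_div hM Nat.card_pos.ne' hlt)
    (mem_localRing.1 (isIntegral_mem_localRing hc))

end Cfsg.Agent.Lib.Blocks.CentralKernel
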