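import Mathlib
import Cfsg.Agent.Lib.Blocks.CentralKernel
import Cfsg.Agent.Lib.BrauerPairs.Saturation
import Cfsg.Agent.Lib.Codegree
import Cfsg.Agent.S0887

/-!
# Brauer pairs carrying a character of defect zero modulo the centre of the subgroup
-/

set_option autoImplicit false

namespace Cfsg.Agent.Lib.Blocks.PairDefectZero

open Cfsg
open Cfsg.Agent.Lib
open Cfsg.Agent.Lib.BrauerMap (core)
open Cfsg.Agent.Lib.BrauerPairs

universe u

variable {G : Type u} [Group G] [Finite G] {p : ℕ} [Fact p.Prime] {M : Ideal AlgInt} [M.IsPrime]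
  {Q : Subgroup G}

/-- The centre of `Q` as a subgroup of the centralizer of `Q`. -/
abbrev zOf (Q : Subgroup G) : Subgroup (Subgroup.centralizer (Q : Set G)) :=
  (Q ⊓ Subgroup.centralizer (Q : Set G)).subgroupOf (Subgroup.centralizer (Q : Set G))

omit [Finite G] in
theorem zOf_le_center (Q : Subgroup G) : zOf Q ≤ Subgroup.center _ := fun z hz =>
  Subgroup.mem_center_iff.2 fun c =>
    Subtype.ext (Subgroup.mem_centralizer_iff.1 c.2 (z : G) hz.1).symm

omit [Finite G] in
theorem isPGroup_zOf (hQ : IsPGroup p Q) : IsPGroup p (zOf Q) :=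
  (hQ.to_le inf_le_left).of_equiv (Subgroup.subgroupOfEquivOfLe inf_le_right).symm

omit [Finite G] in
theorem card_zOf (Q : Subgroup G) :
    Nat.card (zOf Q) = Nat.card ↥(Q ⊓ Subgroup.centralizer (Q : Set G)) :=
  Nat.card_congr (Subgroup.subgroupOfEquivOfLe inf_le_right).toEquiv

/-- The block of a maximal pair has a character of defect zero modulo the centre of `Q`, and its
stabilizer is `Q C(Q)` up to elements of order prime to `p`. -/
theorem of_isMaximal (hM : IsPModular p M)
    {e : Set (IrrCharacter (Subgroup.centralizer (Q : Set G)))}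
    {B : Set (IrrCharacter G)} (hmax : IsMaximalBrauerPair p M B Q e) :
    (∃ θ ∈ e, (∀ z ∈ zOf Q, (θ : Subgroup.centralizer (Q : Set G) → ℂ) z =
        (θ : Subgroup.centralizer (Q : Set G) → ℂ) 1) ∧
      (charDegree (θ : Subgroup.centralizer (Q : Set G) → ℂ)).factorization p +
          (Nat.card (zOf Q)).factorization p =
        (Nat.card (Subgroup.centralizer (Q : Set G))).factorization p) ∧
    ∀ g : G, g ∈ Subgroup.normalizer (Q : Set G) →
      StabilizesBlock (Subgroup.centralizer (Q : Set G)) e g → (∃ k : ℕ, orderOf g = p ^ k) →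
      g ∈ Q ⊔ Subgroup.centralizer (Q : Set G) := by
  classical
  have hp := (Fact.out : p.Prime)
  set a : BrauerPairIdx G := ⟨Q, e⟩ with hadef
  have haB : IsBrauerPairOf p M B a.1 a.2 := hmax.1
  have hap : IsPair p M a := haB.1
  have hb : IsMaximalBrauerPair p M B a.1 a.2 := hmax
  have hrefl : PairLE p M a a := Relation.ReflTransGen.refl
  have heq : ∀ x : G, PairLE p M (conjPair x a) a → (conjPair x a).1 = a.1 := fun x hx =>
    Subgroup.eq_of_le_of_card_ge (pairLE_fst_le hx) (by rw [conjPair_fst, card_map_conj])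
  have hZD : IsDefectGroup p M e (zOf Q) :=
    (isDefectGroup_inf_centralizer_iff (a := a) (b := a) hM hb hrefl).2 fun x hx => by rw [heq x hx]
  refine ⟨?_, ?_⟩
  · obtain ⟨θ, hθ, hker⟩ := CentralKernel.exists_mem_kernel hM (zOf_le_center Q)
      (isPGroup_zOf hap.1) hap.2
    refine ⟨θ, hθ, hker, le_antisymm ?_ ?_⟩
    · have hle : zOf Q ≤ Codegree.kerIrr θ := fun z hz => (Codegree.mem_kerIrr θ).2 (hker z hz)
      have hdvd := (Codegree.degree_dvd_index_ker θ (exists_degree_eq θ).1).trans
        (Subgroup.index_dvd_of_le hle)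
      have h1 := Finsupp.le_def.1 ((Nat.factorization_le_iff_dvd (exists_degree_eq θ).2.1
        Subgroup.index_ne_zero_of_finite).2 hdvd) p
      rw [← (zOf Q).index_mul_card, Nat.factorization_mul Subgroup.index_ne_zero_of_finite
        Nat.card_pos.ne', Finsupp.add_apply]
      omega
    · have h1 := factorization_degree_add_blockDefect hM hap.2 hθ
      rw [card_defectGroup hM hap.2 hZD, hp.factorization_pow, Finsupp.single_eq_same]
      exact le_of_le_of_eq (Nat.le_add_right _ _) h1
  · intro g hgN hgst hgp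
    set C := Subgroup.centralizer (Q : Set G) with hC
    set T := pairStab hap.2 with hT
    have hcore : core Q ≤ T := core_le_pairStab hap.2
    have hCT : C ≤ T := le_sup_right.trans hcore
    have hQT : Q ≤ T := le_sup_left.trans hcore
    have hTN : T ≤ Subgroup.normalizer (Q : Set G) := fun x hx =>
      ((mem_pairStab_iff hap.2).1 hx).1
    haveI := centralizer_normal_subgroupOf hCT hTN
    haveI : (Q.subgroupOf T).Normal := (Subgroup.normal_subgroupOf_iff_le_normalizer hQT).2 hTN
    obtain ⟨F, hF, hFc⟩ := exists_block_of_le_pairStab hM hap (core_le_pairStab hap.2) (le_refl T)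
    have hD0 : IsDefectGroup p M F
        ((Q ⊓ Subgroup.normalizer (Q : Set G)).subgroupOf T) :=
      (isDefectGroup_inf_normalizer_iff (a := a) (b := a) hM hb hrefl hap.2 rfl hF hFc).2
        fun x hx => by rw [heq x hx]
    rw [inf_eq_left.2 Subgroup.le_normalizer] at hD0
    set ι := Subgroup.subgroupOfEquivOfLe hCT with hι
    have hιc : ∀ n : C.subgroupOf T, ((ι n : C) : G) = ((n : T) : G) := fun n => rfl
    obtain ⟨hidx, -⟩ := not_dvd_index_of_supported (N := C.subgroupOf T) hM hF
      (BrauerMap.isPBlock_image_irrCongr ι hap.2)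
      (fun n => by
        rw [hFc, BrauerMap.blockCoeff_image_irrCongr, ← hιc, coeffFun,
          BrauerMap.subgroupBlockCoeff_of_mem])
      (fun t ht => (hFc t).trans (coeffFun_of_notMem ht)) hD0
    set K := Q.subgroupOf T ⊔ C.subgroupOf T with hK
    have hgT : g ∈ T := (mem_pairStab_iff_stabilizesBlock hap.2).2 ⟨hgN, hgst⟩
    obtain ⟨k, hk⟩ := hgp
    have hgK : (⟨g, hgT⟩ : T) ∈ K := by
      rw [← QuotientGroup.eq_one_iff, ← orderOf_eq_one_iff]
      refine Nat.eq_one_of_dvd_coprimes (a := p ^ k) (b := K.index)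
        ((hp.coprime_iff_not_dvd.2 hidx).pow_left k) ?_ ?_
      · rw [← hk]
        exact (orderOf_map_dvd (QuotientGroup.mk' K) (⟨g, hgT⟩ : T)).trans
          (dvd_of_eq (Subgroup.orderOf_mk g hgT))
      · rw [Subgroup.index_eq_card]
        exact orderOf_dvd_natCard _
    have hle : K.map T.subtype ≤ Q ⊔ C := by
      rw [hK, Subgroup.map_sup, Subgroup.map_subgroupOf_eq_of_le hQT,
        Subgroup.map_subgroupOf_eq_of_le hCT]
    exact hle ⟨_, hgK, rfl⟩

/-- A pair with a character of defect zero modulo the centre of `Q` and small stabilizer is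
maximal. -/
theorem isMaximal (hM : IsPModular p M)
    {e : Set (IrrCharacter (Subgroup.centralizer (Q : Set G)))} (he : IsBrauerPair p M Q e)
    {θ : IrrCharacter (Subgroup.centralizer (Q : Set G))} (hθ : θ ∈ e)
    (hker : ∀ z ∈ zOf Q, (θ : Subgroup.centralizer (Q : Set G) → ℂ) z =
      (θ : Subgroup.centralizer (Q : Set G) → ℂ) 1)
    (hdeg : (charDegree (θ : Subgroup.centralizer (Q : Set G) → ℂ)).factorization p +
          (Nat.card (zOf Q)).factorization p =
        (Nat.card (Subgroup.centralizer (Q : Set G))).factorization p)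
    (hst : ∀ g : G, g ∈ Subgroup.normalizer (Q : Set G) →
      StabilizesBlock (Subgroup.centralizer (Q : Set G)) e g → (∃ k : ℕ, orderOf g = p ^ k) →
      g ∈ Q ⊔ Subgroup.centralizer (Q : Set G)) :
    ∃ B : Set (IrrCharacter G), IsMaximalBrauerPair p M B Q e := by
  classical
  obtain ⟨B, hB, -⟩ := BrauerMap.existsUnique_isBrauerPairOf hM he
  refine ⟨B, hB, fun R f hR hle => ?_⟩
  set a : BrauerPairIdx G := ⟨Q, e⟩ with hadef
  set b : BrauerPairIdx G := ⟨R, f⟩ with hbdef
  have hbp : IsPair p M b := hR.1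
  have hab : PairLE p M a b := hle
  have hQR : Q ≤ R := pairLE_fst_le hab
  by_contra hne
  set C := Subgroup.centralizer (Q : Set G) with hC
  have hlt := BrauerMap.lt_inf_normalizer_of_lt hM.1 hR.1.1
    (lt_of_le_of_ne hQR fun h => hne h.symm)
  obtain ⟨g, hg, -⟩ := exists_normal_between hM hbp hab
    (R := R ⊓ Subgroup.normalizer (Q : Set G)) hlt.le inf_le_left inf_le_right
  obtain ⟨D, hD, hDle⟩ := exists_defect_ge_inf hM hbp hab
  have hDZ : D = zOf Q := CentralKernel.defectGroup_eq hM (zOf_le_center Q) (isPGroup_zOf he.1)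
    he.2 hθ hker hdeg hD
  refine hlt.not_ge fun x hx => ?_
  have hxo : ∃ k : ℕ, orderOf x = p ^ k := by
    obtain ⟨k, hk⟩ := IsPGroup.iff_orderOf.1 hR.1.1 ⟨x, hx.1⟩
    exact ⟨k, by rwa [Subgroup.orderOf_mk] at hk⟩
  have hxQC := hst x hx.2 (hg.2.2.2.2.1 x hx) hxo
  rw [sup_comm, ← SetLike.mem_coe,
    Subgroup.coe_mul_of_left_le_normalizer_right C Q (Subgroup.centralizer_le_normalizer _)] at hxQC
  obtain ⟨c, hc, q, hq, hcq⟩ := Set.mem_mul.1 hxQC
  have hcq' : c * q = x := hcq
  have hcR : c ∈ R := by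
    rw [show c = x * q⁻¹ by rw [← hcq', mul_inv_cancel_right]]
    exact R.mul_mem hx.1 (R.inv_mem (hQR hq))
  have hcD : (⟨c, hc⟩ : C) ∈ D := hDle (Subgroup.mem_subgroupOf.2 ⟨hcR, hc⟩)
  rw [hDZ] at hcD
  rw [← hcq']
  exact Q.mul_mem hcD.1 hq

/-- A pair carrying a weight: the centre of `Q` is a defect group of its block, and `Q` is the
largest normal `p`-subgroup of the stabilizer. -/
theorem of_weight (hM : IsPModular p M)
    {e : Set (IrrCharacter (Subgroup.centralizer (Q : Set G)))} (he : IsBrauerPair p M Q e)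
    {T : Subgroup G} (hCT : Subgroup.centralizer (Q : Set G) ≤ T) (hQT : Q ≤ T)
    (hTN : T ≤ Subgroup.normalizer (Q : Set G))
    {F : Set (IrrCharacter T)} (hF : IsPBlock M F)
    (hFc : ∀ t : T, blockCoeff F t = subgroupBlockCoeff (Subgroup.centralizer (Q : Set G)) e (t : G))
    {χ : IrrCharacter T} (hχ : χ ∈ F)
    (hχQ : ∀ x ∈ Q.subgroupOf T, (χ : T → ℂ) x = (χ : T → ℂ) 1)
    (hdeg : (charDegree (χ : T → ℂ)).factorization p + (Nat.card Q).factorization p =
      (Nat.card T).factorization p) :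
    IsDefectGroup p M e (zOf Q) ∧
      ∀ R : Subgroup G, R ≤ T → IsPGroup p R → (∀ t ∈ T, t ∈ Subgroup.normalizer (R : Set G)) →
        R ≤ Q := by
  classical
  have hp := (Fact.out : p.Prime)
  set Qt := Q.subgroupOf T with hQt
  set N := (Subgroup.centralizer (Q : Set G)).subgroupOf T with hN
  haveI hQn : Qt.Normal := (Subgroup.normal_subgroupOf_iff_le_normalizer hQT).2 hTN
  haveI hNn : N.Normal := centralizer_normal_subgroupOf hCT hTN
  have hQtcard : Nat.card Qt = Nat.card Q :=
    Nat.card_congr (Subgroup.subgroupOfEquivOfLe hQT).toEquiv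
  have hdeg' : (charDegree (χ : T → ℂ)).factorization p + (Nat.card Qt).factorization p =
      (Nat.card T).factorization p := by rw [hQtcard, hdeg]
  cases nonempty_fintype T
  refine ⟨?_, fun R hRT hRp hRn => ?_⟩
  · obtain ⟨ψ, hψ⟩ := Chars.exists_irr_quotient Qt χ hχQ
    have : Fintype (T ⧸ Qt) := Fintype.ofFinite _
    set π := QuotientGroup.mk' Qt with hπ
    haveI : (N.map π).Normal := hNn.map π (QuotientGroup.mk'_surjective Qt)
    have : Fintype (N.map π) := Fintype.ofFinite _
    have : Fintype N := Fintype.ofFinite _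
    obtain ⟨φ, hφ⟩ := Covering.exists_constituent (N := N.map π) ψ
    set f : N →* N.map π := π.subgroupMap N with hf
    have hfs : Function.Surjective f := π.subgroupMap_surjective N
    set θ : IrrCharacter N := ⟨fun x => (φ : N.map π → ℂ) (f x),
      Chars.isIrrCharacter_comp_surjective f hfs φ.2⟩ with hθdef
    have hθ : classInner (Clifford.resFun N (χ : T → ℂ)) (θ : N → ℂ) ≠ 0 := by
      rw [show Clifford.resFun N (χ : T → ℂ) =
        fun x => Clifford.resFun (N.map π) (ψ : T ⧸ Qt → ℂ) (f x) from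
          funext fun x => (hψ x).symm]
      rwa [Chars.classInner_comp_of_surjective f hfs]
    set ι := Subgroup.subgroupOfEquivOfLe hCT with hι
    have hιc : ∀ n : N, ((ι n : (Subgroup.centralizer (Q : Set G))) : G) = ((n : T) : G) := fun n => rfl
    have hmem := constituent_mem_of_supported (f := Chars.irrCongr ι '' e) hF
      (fun n => by
        rw [hFc, BrauerMap.blockCoeff_image_irrCongr, ← hιc, BrauerMap.subgroupBlockCoeff_of_mem])
      (fun t ht => (hFc t).trans (coeffFun_of_notMem (a := ⟨Q, e⟩) ht)) hχ hθ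
    obtain ⟨ξ, hξe, hξ⟩ := hmem
    have hval : ∀ x : N, (ξ : (Subgroup.centralizer (Q : Set G)) → ℂ) (ι x) = (φ : N.map π → ℂ) (f x) := fun x =>
      congrFun (congrArg Subtype.val hξ) x
    have hker : ∀ z ∈ zOf Q, (ξ : (Subgroup.centralizer (Q : Set G)) → ℂ) z = (ξ : (Subgroup.centralizer (Q : Set G)) → ℂ) 1 := by
      intro z hz
      have hx : f (ι.symm z) = 1 := Subtype.ext ((QuotientGroup.eq_one_iff _).2
        (Subgroup.mem_subgroupOf.2 hz.1))
      have h1 := hval (ι.symm z)
      have h2 := hval 1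
      rw [MulEquiv.apply_symm_apply, hx] at h1
      rw [map_one, map_one] at h2
      rw [h1, h2]
    have hd1 : charDegree (ξ : (Subgroup.centralizer (Q : Set G)) → ℂ) = charDegree (φ : N.map π → ℂ) := by
      have h2 := hval 1
      rw [map_one, map_one] at h2
      simp [charDegree, h2]
    have hd2 : charDegree (χ : T → ℂ) = charDegree (ψ : T ⧸ Qt → ℂ) := by
      have h2 := hψ 1
      rw [QuotientGroup.mk_one] at h2
      simp [charDegree, h2]
    obtain ⟨h1, h2⟩ := Cfsg.Agent.S0887.result (N.map π) (ψ : T ⧸ Qt → ℂ) ψ.2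
      (φ : N.map π → ℂ) φ.2 hφ _ _ (exists_degree_eq ψ).1 (exists_degree_eq φ).1
    obtain ⟨m, hm⟩ := h1
    rw [hm, Nat.mul_div_cancel_left _ (Nat.pos_of_ne_zero (exists_degree_eq φ).2.1)] at h2
    have hm0 : m ≠ 0 := fun h => (exists_degree_eq ψ).2.1 (by rw [hm, h, mul_zero])
    have hle1 := Finsupp.le_def.1 ((Nat.factorization_le_iff_dvd hm0
      Subgroup.index_ne_zero_of_finite).2 h2) p
    have hle2 := Finsupp.le_def.1 ((Nat.factorization_le_iff_dvd (exists_degree_eq φ).2.1
      Nat.card_pos.ne').2 (exists_degree_eq φ).2.2) p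
    have hkereq : f.ker = (zOf Q).comap ι.toMonoidHom := by
      ext x
      rw [MonoidHom.mem_ker, ← OneMemClass.coe_eq_one, hf]
      show π (x : T) = 1 ↔ _
      rw [hπ, QuotientGroup.mk'_apply, QuotientGroup.eq_one_iff]
      exact ⟨fun h => ⟨h, (ι x).2⟩, fun h => h.1⟩
    have hZcard : Nat.card f.ker = Nat.card (zOf Q) := by
      rw [hkereq]
      exact Nat.card_congr (ι.toEquiv.subtypeEquiv fun x => Iff.rfl)
    have hCcard : Nat.card (Subgroup.centralizer (Q : Set G)) = Nat.card (N.map π) * Nat.card (zOf Q) := by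
      rw [← Nat.card_congr ι.toEquiv, f.ker.card_eq_card_quotient_mul_card_subgroup, ← hZcard,
        Nat.card_congr (QuotientGroup.quotientKerEquivOfSurjective f hfs).toEquiv]
    have hTcard : Nat.card T = (N.map π).index * Nat.card (N.map π) * Nat.card Qt := by
      rw [Subgroup.index_mul_card, ← Subgroup.card_eq_card_quotient_mul_card_subgroup]
    have hdegξ : (charDegree (ξ : (Subgroup.centralizer (Q : Set G)) → ℂ)).factorization p + (Nat.card (zOf Q)).factorization p =
        (Nat.card (Subgroup.centralizer (Q : Set G))).factorization p := by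
      rw [hTcard, hd2, hm, Nat.factorization_mul (mul_ne_zero Subgroup.index_ne_zero_of_finite
        Nat.card_pos.ne') Nat.card_pos.ne', Finsupp.add_apply,
        Nat.factorization_mul Subgroup.index_ne_zero_of_finite Nat.card_pos.ne',
        Finsupp.add_apply, Nat.factorization_mul (exists_degree_eq φ).2.1 hm0,
        Finsupp.add_apply] at hdeg'
      rw [hCcard, Nat.factorization_mul Nat.card_pos.ne' Nat.card_pos.ne', Finsupp.add_apply, hd1]
      omega
    obtain ⟨D, hD⟩ := exists_isDefectGroup (p := p) he.2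
    rw [← CentralKernel.defectGroup_eq hM (zOf_le_center Q) (isPGroup_zOf he.1) he.2 hξe hker
      hdegξ hD]
    exact hD
  · haveI hRnt : (R.subgroupOf T).Normal :=
      (Subgroup.normal_subgroupOf_iff_le_normalizer hRT).2 fun t ht => hRn t ht
    set S := R.subgroupOf T ⊔ Qt with hS
    have hSp : IsPGroup p S :=
      (hRp.of_equiv (Subgroup.subgroupOfEquivOfLe hRT).symm).to_sup_of_normal_right
        (he.1.of_equiv (Subgroup.subgroupOfEquivOfLe hQT).symm)
    have : Fintype S := Fintype.ofFinite _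
    have hvan : ∀ x ∈ S, x ∉ Qt → (χ : T → ℂ) x = 0 := by
      intro x hxS hx
      refine CentralKernel.apply_eq_zero (p := p) (Z := Qt) hχQ hdeg' ?_
      obtain ⟨k, hk⟩ := IsPGroup.iff_orderOf.1 hSp ⟨x, hxS⟩
      rwa [pow_pPartExp_of_pElement ⟨k, by rwa [Subgroup.orderOf_mk] at hk⟩]
    have hsum : ∑ s : S, (χ : T → ℂ) s =
        ((Finset.univ.filter fun s : S => (s : T) ∈ Qt).card : ℂ) * (χ : T → ℂ) 1 := by
      rw [← Finset.sum_filter_add_sum_filter_not Finset.univ (fun s : S => (s : T) ∈ Qt),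
        Finset.sum_congr rfl (fun (s : S) hs => hχQ (s : T) (Finset.mem_filter.1 hs).2), Finset.sum_const,
        nsmul_eq_mul, Finset.sum_eq_zero (s := Finset.univ.filter _)
        (fun (s : S) hs => hvan (s : T) s.2 (Finset.mem_filter.1 hs).2), add_zero]
    have hne : ∑ s : S, (χ : T → ℂ) s ≠ 0 := by
      rw [hsum]
      refine mul_ne_zero (Nat.cast_ne_zero.2 (Finset.card_pos.2 ⟨1, ?_⟩).ne')
        (Chars.irr_apply_one_ne_zero χ)
      simp [Qt.one_mem]
    intro x hx
    by_contra hxQ
    have hxS : (⟨x, hRT hx⟩ : T) ∈ S := Subgroup.mem_sup_left hx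
    have h0 := hvan _ hxS hxQ
    rw [Covering.eq_one_of_sum_ne_zero χ hne ⟨_, hxS⟩] at h0
    exact Chars.irr_apply_one_ne_zero χ h0

end Cfsg.Agent.Lib.Blocks.PairDefectZero
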