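import Cfsg.Agent.Lib.Blocks.CentralKernel
import Cfsg.Agent.Lib.Blocks.DefectCard
import Cfsg.Agent.Lib.BrauerFeit.Orth
import Mathlib

/-!
# Blocks with a central defect group have p-regular rank one
-/

set_option autoImplicit false

namespace Cfsg.Agent.Lib.Blocks.CentralRank

open Cfsg MonoidAlgebra
open Cfsg.Agent.Lib
open Cfsg.Agent.Lib.Blocks
open Cfsg.Agent.Lib.Blocks.CentralKernel
open scoped ComplexConjugate

universe u

variable {C : Type u} [Group C] [Finite C] {p : ℕ} [Fact p.Prime] {M : Ideal AlgInt} [M.IsPrime]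
  {Z : Subgroup C} {θ : IrrCharacter C}

/-- Only one member of the block is trivial on a central defect group. -/
theorem eq_of_kernel (hM : IsPModular p M) (hZc : Z ≤ Subgroup.center C)
    (hZ : IsPGroup p Z) {e : Set (IrrCharacter C)} (he : IsPBlock M e) (hθ : θ ∈ e)
    (hker : ∀ z ∈ Z, (θ : C → ℂ) z = (θ : C → ℂ) 1)
    (hdeg : (charDegree (θ : C → ℂ)).factorization p + (Nat.card Z).factorization p =
      (Nat.card C).factorization p) :
    ∀ ψ ∈ e, (∀ z ∈ Z, (ψ : C → ℂ) z = (ψ : C → ℂ) 1) → ψ = θ := by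
  classical
  cases nonempty_fintype C
  have : Fintype Z := Fintype.ofFinite _
  have hp := (Fact.out : p.Prime)
  haveI hn : Z.Normal := ⟨fun z hz g => by
    rw [Subgroup.mem_center_iff.1 (hZc hz) g, mul_inv_cancel_right]; exact hz⟩
  have hinv : ∀ (χ : IrrCharacter C), (∀ z ∈ Z, (χ : C → ℂ) z = (χ : C → ℂ) 1) →
      ∀ x, ∀ z ∈ Z, (χ : C → ℂ) (x * z) = (χ : C → ℂ) x := fun χ hχ x z hz => by
    rw [irr_mul_central χ (hZc hz), hχ z hz, mul_div_assoc,
      div_self (Chars.irr_apply_one_ne_zero χ), mul_one]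
  set n := (Nat.card C : ℂ) with hn'
  have hn0 : n ≠ 0 := Nat.cast_ne_zero.2 Nat.card_pos.ne'
  set k : ℂ := ((charDegree (θ : C → ℂ) * Nat.card Z : ℕ) : ℂ) / (Nat.card C : ℕ) with hk
  have hkmem : MemLocalRing M k := mem_localRing.1 (natCast_div_mem_localRing hM Nat.card_pos.ne'
    (Or.inl (by
      rw [Nat.factorization_mul (exists_degree_eq θ).2.1 Nat.card_pos.ne', Finsupp.add_apply]
      omega)))
  have hθ1 := (exists_degree_eq θ).1
  set w : C → ℂ := fun x => if p ∣ orderOf x then 0 else k * (θ : C → ℂ) x⁻¹ with hw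
  have hwc : IsClassFunction C w := fun g h => by
    simp only [hw]
    rw [show orderOf (h * g * h⁻¹) = orderOf g from
      orderOf_injective (MulAut.conj h).toMonoidHom (MulAut.conj h).injective g,
      show (h * g * h⁻¹)⁻¹ = h * g⁻¹ * h⁻¹ by group, Chars.irr_isClassFunction θ g⁻¹ h]
  have hwR : ∀ x, MemLocalRing M (w x) := fun x => by
    simp only [hw]
    split_ifs
    · exact mem_localRing.1 (zero_mem _)
    · exact mem_localRing.1 (mul_mem (mem_localRing.2 hkmem)
        (isIntegral_mem_localRing (Chars.irr_isIntegral θ _)))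
  have hinv' : ∀ (ψ : IrrCharacter C), (∀ z ∈ Z, (ψ : C → ℂ) z = (ψ : C → ℂ) 1) → ∀ x, ∀ z ∈ Z,
      (fun x => (θ : C → ℂ) x⁻¹ * (ψ : C → ℂ) x) (x * z) =
        (fun x => (θ : C → ℂ) x⁻¹ * (ψ : C → ℂ) x) x := fun ψ hψ x z hz => by
    show (θ : C → ℂ) (x * z)⁻¹ * _ = _
    rw [hinv ψ hψ x z hz, mul_inv_rev, ← Subgroup.mem_center_iff.1 (hZc (inv_mem hz)) x⁻¹,
      hinv θ hker _ _ (inv_mem hz)]
  have heval : ∀ ψ : IrrCharacter C, (∀ z ∈ Z, (ψ : C → ℂ) z = (ψ : C → ℂ) 1) →
      ∑ x : C, w x * (ψ : C → ℂ) x / (ψ : C → ℂ) 1 = if ψ = θ then 1 else 0 := by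
    intro ψ hψ
    have h1 := sum_pPart_mem (p := p) hZc hZ (F := fun x => (θ : C → ℂ) x⁻¹ * (ψ : C → ℂ) x) (hinv' ψ hψ)
    rw [Finset.sum_congr rfl (g := fun x => (θ : C → ℂ) x⁻¹ * (ψ : C → ℂ) x) fun x _ => by
      split_ifs with h
      · rfl
      · rw [apply_eq_zero (p := p) hker hdeg (x := x⁻¹) (by rwa [inv_pow, inv_mem_iff]), zero_mul]]
      at h1
    have h2 := Chars.classInner_irr ψ θ
    rw [classInner, Finset.sum_congr rfl (g := fun x => (θ : C → ℂ) x⁻¹ * (ψ : C → ℂ) x)
      (fun x _ => by rw [← Chars.irr_inv θ x, mul_comm]), h1] at h2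
    calc ∑ x : C, w x * (ψ : C → ℂ) x / (ψ : C → ℂ) 1
        = (k / (ψ : C → ℂ) 1) * ∑ x : C, if p ∣ orderOf x then 0 else
            (θ : C → ℂ) x⁻¹ * (ψ : C → ℂ) x := by
          rw [Finset.mul_sum]
          refine Finset.sum_congr rfl fun x _ => ?_
          simp only [hw]
          split_ifs
          · simp
          · ring
      _ = ((θ : C → ℂ) 1 / (ψ : C → ℂ) 1) * if ψ = θ then 1 else 0 := by
          rw [← h2, hk, hθ1]
          push_cast
          ring
      _ = _ := by
          split_ifs with h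
          · rw [h, div_self (Chars.irr_apply_one_ne_zero θ), one_mul]
          · rw [mul_zero]
  have huniq : ∀ ψ ∈ e, (∀ z ∈ Z, (ψ : C → ℂ) z = (ψ : C → ℂ) 1) → ψ = θ := by
    intro ψ hψe hψ
    by_contra hne
    have h := HeightZero.eval_congr_self hwc hwR (Chars.irr_isClassFunction θ)
      (Chars.irr_isClassFunction ψ) (sameBlock_of_mem he hθ hψe)
    rw [heval θ hker, heval ψ hψ, if_pos rfl, if_neg hne, sub_zero] at h
    exact not_memLocalIdeal_one h
  exact huniq

/-- A block with a central defect group has p-regular rank one. -/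
theorem blockRank_eq_one (hM : IsPModular p M) (hZc : Z ≤ Subgroup.center C)
    {B : Set (IrrCharacter C)} (hB : IsPBlock M B) (hD : IsDefectGroup p M B Z) :
    blockRank p B = 1 := by
  classical
  cases nonempty_fintype C
  haveI : Fintype Z := Fintype.ofFinite Z
  haveI : Z.Normal := ⟨fun z hz g => by
    rw [Subgroup.mem_center_iff.1 (hZc hz) g, mul_inv_cancel_right]; exact hz⟩
  have hp := (Fact.out : p.Prime)
  have hZ : IsPGroup p Z := isPGroup_of_isDefectGroup hD
  obtain ⟨θ, hθ, hker⟩ := exists_mem_kernel hM hZc hZ hB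
  have hd : (Nat.card Z).factorization p = blockDefect p B := by
    rw [card_defectGroup hM hB hD, hp.factorization_pow, Finsupp.single_eq_same]
  have hdeg : (charDegree (θ : C → ℂ)).factorization p + (Nat.card Z).factorization p =
      (Nat.card C).factorization p := by
    obtain ⟨ψ, hψ⟩ := Chars.exists_irr_quotient Z θ hker
    have h1 : charDegree (θ : C → ℂ) = charDegree (ψ : C ⧸ Z → ℂ) := by
      have := hψ 1
      rw [QuotientGroup.mk_one] at this
      rw [charDegree, charDegree, this]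
    have h2 := blockDefect_le (p := p) (blockOf M (ψ : C ⧸ Z → ℂ))
    have h3 := factorization_degree_add_blockDefect hM (isPBlock_blockOf (M := M) ψ)
      (mem_blockOf_self ψ)
    have h4 := factorization_degree_add_blockDefect hM hB hθ
    have h5 : (Nat.card C).factorization p =
        (Nat.card (C ⧸ Z)).factorization p + (Nat.card Z).factorization p := by
      rw [← Finsupp.add_apply, ← Nat.factorization_mul Nat.card_pos.ne' Nat.card_pos.ne',
        ← Subgroup.card_eq_card_quotient_mul_card_subgroup]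
    have h6 : (charDegree (ψ : C ⧸ Z → ℂ)).factorization p ≤
        (Nat.card (C ⧸ Z)).factorization p := by
      obtain ⟨-, h0, hd⟩ := exists_degree_eq ψ
      exact (Nat.factorization_le_iff_dvd h0 Nat.card_pos.ne').2 hd p
    rw [h1] at h4 ⊢
    omega
  have huniq := eq_of_kernel hM hZc hZ hB hθ hker hdeg
  have key : ∀ χ ∈ B, pRegularPart p (χ : C → ℂ) =
      ((Nat.card Z : ℂ) * BrauerFeit.regCoef p χ θ) • pRegularPart p (θ : C → ℂ) := by
    intro χ hχ
    funext x
    rw [Pi.smul_apply, smul_eq_mul, BrauerFeit.pRegularPart_apply, BrauerFeit.pRegularPart_apply]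
    by_cases hx : p ∣ orderOf x
    · rw [if_pos hx, if_pos hx, mul_zero]
    rw [if_neg hx, if_neg hx]
    have hsum : ∑ z : Z, pRegularPart p (χ : C → ℂ) (x * (z : C)) = (χ : C → ℂ) x := by
      rw [Finset.sum_eq_single (1 : Z)]
      · rw [OneMemClass.coe_one, mul_one, BrauerFeit.pRegularPart_apply, if_neg hx]
      · intro z _ hz
        rw [BrauerFeit.pRegularPart_apply, if_pos]
        by_contra hreg
        have h2 := pow_pPartExp_of_pRegular hreg
        rw [(show Commute x (z : C) from Subgroup.mem_center_iff.1 (hZc z.2) x).mul_pow,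
          pow_pPartExp_of_pRegular hx, one_mul, pow_pPartExp_of_pElement
            ⟨_, (Subgroup.orderOf_coe z).trans (IsPGroup.iff_orderOf.1 hZ z).choose_spec⟩] at h2
        exact hz (Subtype.ext h2)
      · exact fun h => absurd (Finset.mem_univ _) h
    rw [← hsum]
    simp only [BrauerFeit.pRegularPart_eq_sum]
    rw [Finset.sum_comm, Finset.sum_eq_single θ]
    · rw [← Finset.mul_sum, Finset.sum_congr rfl fun z _ => irr_mul_central θ (hZc (Subtype.property z)) x,
        Finset.sum_congr rfl (g := fun _ => (θ : C → ℂ) x) fun z _ => by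
          rw [hker _ (Subtype.property z), mul_div_assoc,
            div_self (Chars.irr_apply_one_ne_zero θ), mul_one],
        Finset.sum_const, Finset.card_univ, nsmul_eq_mul, Nat.card_eq_fintype_card]
      ring
    · intro ψ _ hne
      by_cases hψ : ψ ∈ B
      · have h0 : ∑ z : Z, (ψ : C → ℂ) z = 0 := by
          by_contra h
          exact hne (huniq ψ hψ fun z hz => Covering.eq_one_of_sum_ne_zero ψ h ⟨z, hz⟩)
        rw [← Finset.mul_sum, Finset.sum_congr rfl fun z _ => irr_mul_central ψ (hZc (Subtype.property z)) x,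
          ← Finset.sum_div, ← Finset.mul_sum, h0]
        simp
      · refine Finset.sum_eq_zero fun z _ => ?_
        rw [BrauerFeit.regCoef_eq_zero_of_not_mem (BrauerFeit.regOrth hM) hB hχ hψ, zero_mul]
    · exact fun h => absurd (Finset.mem_univ _) h
  have hv : pRegularPart p (θ : C → ℂ) ≠ 0 := by
    intro h
    have h1 := congrFun h 1
    rw [BrauerFeit.pRegularPart_apply, orderOf_one, if_neg hp.not_dvd_one] at h1
    exact Chars.irr_apply_one_ne_zero θ h1
  rw [blockRank, show Submodule.span ℂ _ = Submodule.span ℂ {pRegularPart p (θ : C → ℂ)} from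
    le_antisymm ?_ ?_, finrank_span_singleton hv]
  · rw [Submodule.span_le]
    rintro _ ⟨χ, hχ, rfl⟩
    simp only []
    rw [key χ hχ]
    exact Submodule.smul_mem _ _ (Submodule.mem_span_singleton_self _)
  · rw [Submodule.span_singleton_le_iff_mem]
    exact Submodule.subset_span ⟨θ, hθ, rfl⟩

end Cfsg.Agent.Lib.Blocks.CentralRank
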