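import Mathlib
import Cfsg.Agent.Lib.Blocks.DefectCard

/-!
# Blocks do not depend on the maximal ideal above `p`
-/

set_option autoImplicit false

namespace Cfsg.Agent.Lib.Blocks

open Cfsg Polynomial IntermediateField

universe u

variable {G : Type u} [Group G] [Finite G]

theorem centralizer_pow_of_coprime (g : G) {k : ℕ} (hk : k.Coprime (Nat.card G)) :
    Subgroup.centralizer ({g ^ k} : Set G) = Subgroup.centralizer ({g} : Set G) := by
  obtain ⟨m, hm⟩ := exists_pow_eq_self_of_coprime (hk.coprime_dvd_right (orderOf_dvd_natCard g))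
  ext w
  rw [Subgroup.mem_centralizer_singleton_iff, Subgroup.mem_centralizer_singleton_iff]
  constructor
  · intro h
    have h1 := ((show Commute w (g ^ k) from h).pow_right m).eq
    rwa [hm] at h1
  · exact fun h => ((show Commute w g from h).pow_right k).eq

/-- A central character value lies in the cyclotomic field, where the Galois action is given by
powers. -/
theorem exists_cyclotomic_centralChar {ζ : ℂ} (hζ : IsPrimitiveRoot ζ (Nat.card G))
    (χ : IrrCharacter G) (g : G) :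
    ∃ e : ℚ⟮ζ⟯, (e : ℂ) = centralChar (χ : G → ℂ) g ∧
      ∀ (φ : ℚ⟮ζ⟯ →ₐ[ℚ] ℂ) (k : ℕ), k.Coprime (Nat.card G) →
        φ (AdjoinSimple.gen ℚ ζ) = ζ ^ k → φ e = centralChar (χ : G → ℂ) (g ^ k) := by
  classical
  haveI : NeZero (Nat.card G) := ⟨Nat.card_pos.ne'⟩
  obtain ⟨hdeg, -, -⟩ := exists_degree_eq χ
  obtain ⟨n, ρ, hρ⟩ := Chars.irr_isCharacter χ
  obtain ⟨ι, _, b, μ, hμ, hb⟩ := Chars.exists_eigenbasis ρ g
  have hbk : ∀ (k : ℕ) (i : ι), ρ (g ^ k) (b i) = μ i ^ k • b i := by
    intro k i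
    induction k with
    | zero => simp
    | succ k ih => rw [pow_succ', map_mul, Module.End.mul_apply, ih, map_smul, hb, smul_smul,
        ← pow_succ]
  have hex : ∀ i, ∃ a < Nat.card G, ζ ^ a = μ i := fun i => hζ.eq_pow_of_pow_eq_one (by
    obtain ⟨c, hc⟩ := orderOf_dvd_natCard g
    rw [hc, pow_mul, hμ i, one_pow])
  choose a _ ha using hex
  have h1 : (χ : G → ℂ) g = ∑ i, μ i := by
    rw [← hρ]; exact Chars.trace_eq_sum_of_eigenbasis _ b μ hb
  refine ⟨((Subgroup.centralizer ({g} : Set G)).index : ℚ⟮ζ⟯) *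
    (∑ i, AdjoinSimple.gen ℚ ζ ^ a i) / (charDegree (χ : G → ℂ) : ℚ⟮ζ⟯), ?_, ?_⟩
  · rw [centralChar, h1, hdeg]
    simp [ha]
  · intro φ k hk hφ
    have h2 : (χ : G → ℂ) (g ^ k) = ∑ i, μ i ^ k := by
      rw [← hρ]; exact Chars.trace_eq_sum_of_eigenbasis _ b _ (hbk k)
    rw [centralChar, centralizer_pow_of_coprime g hk, h2, hdeg]
    simp only [map_div₀, map_mul, map_natCast, map_sum, map_pow, hφ, ← ha]
    simp only [← pow_mul, mul_comm k]

/-- Two characters in one block have central characters congruent modulo every maximal ideal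
above `p`. -/
theorem centralChar_sub_mem {p : ℕ} {M M' : Ideal AlgInt} [M.IsPrime] (hM : IsPModular p M)
    (hM' : IsPModular p M') {χ ψ : IrrCharacter G} (h : SameBlock M (χ : G → ℂ) (ψ : G → ℂ))
    (g : G) : ∃ r : AlgInt, r ∈ M' ∧
      (r : ℂ) = centralChar (χ : G → ℂ) g - centralChar (ψ : G → ℂ) g := by
  classical
  haveI := hM'.2.1.isPrime
  haveI : NeZero (Nat.card G) := ⟨Nat.card_pos.ne'⟩
  have hζ := Complex.isPrimitiveRoot_exp (Nat.card G) (NeZero.ne _)
  set ζ := Complex.exp (2 * Real.pi * Complex.I / Nat.card G)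
  set d := centralChar (χ : G → ℂ) g - centralChar (ψ : G → ℂ) g with hd
  have hdint : IsIntegral ℤ d := (centralChar_isIntegral χ g).sub (centralChar_isIntegral ψ g)
  set P := minpoly ℤ d
  have hPm : P.Monic := minpoly.monic hdint
  -- every root of `P` lies in `M`
  have hroot : ∀ r : ℂ, r ∈ (P.map (algebraMap ℤ ℂ)).roots →
      ∃ r' : AlgInt, (r' : ℂ) = r ∧ r' ∈ M := by
    intro r hr
    rw [mem_roots (hPm.map _).ne_zero, IsRoot.def, eval_map, ← aeval_def] at hr
    have hrQ : aeval r (minpoly ℚ d) = 0 := by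
      rw [minpoly.isIntegrallyClosed_eq_field_fractions' ℚ hdint, aeval_map_algebraMap]
      exact hr
    obtain ⟨e₁, he₁, hφ₁⟩ := exists_cyclotomic_centralChar hζ χ g
    obtain ⟨e₂, he₂, hφ₂⟩ := exists_cyclotomic_centralChar hζ ψ g
    have hgint : IsIntegral ℚ ζ := (hζ.isIntegral Nat.card_pos).tower_top
    haveI : FiniteDimensional ℚ ℚ⟮ζ⟯ := adjoin.finiteDimensional hgint
    have hde : ((e₁ - e₂ : ℚ⟮ζ⟯) : ℂ) = d := by
      rw [AddSubgroupClass.coe_sub, he₁, he₂, hd]
    obtain ⟨φ, hφ⟩ := IntermediateField.exists_algHom_of_splits_of_aeval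
      (F := ℚ) (E := ℚ⟮ζ⟯) (K := ℂ)
      (fun s => ⟨Algebra.IsIntegral.isIntegral s, IsAlgClosed.splits _⟩)
      (x := e₁ - e₂) (y := r) (by
        rw [← minpoly.algebraMap_eq (A := ℚ) (RingHom.injective (algebraMap ℚ⟮ζ⟯ ℂ))]
        rwa [IntermediateField.algebraMap_apply, hde])
    have hgen : IsPrimitiveRoot (AdjoinSimple.gen ℚ ζ) (Nat.card G) :=
      IsPrimitiveRoot.of_map_of_injective (f := algebraMap ℚ⟮ζ⟯ ℂ) hζ (RingHom.injective _)
    obtain ⟨k, hk, hkc, hkeq⟩ := (IsPrimitiveRoot.isPrimitiveRoot_iff hζ).1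
      (hgen.map_of_injective φ.injective)
    have hval : r = centralChar (χ : G → ℂ) (g ^ k) - centralChar (ψ : G → ℂ) (g ^ k) := by
      rw [← hφ, map_sub, hφ₁ φ k hkc hkeq.symm, hφ₂ φ k hkc hkeq.symm]
    refine ⟨⟨r, hval ▸ (centralChar_isIntegral χ _).sub (centralChar_isIntegral ψ _)⟩, rfl, ?_⟩
    rw [← memLocalIdeal_algInt_iff]
    change MemLocalIdeal M r
    rw [hval]
    exact h _
  set s := (P.map (algebraMap ℤ ℂ)).roots with hs
  choose r' hr'1 hr'2 using hroot
  have hsplit : P.map (algebraMap ℤ ℂ) = (s.map fun r => X - C r).prod :=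
    (IsAlgClosed.splits _).eq_prod_roots_of_monic (hPm.map _)
  set s' : Multiset AlgInt := s.attach.map fun r => r' r.1 r.2
  have hs' : s'.map (fun a : AlgInt => (a : ℂ)) = s := by
    rw [Multiset.map_map]
    exact (Multiset.map_congr rfl fun r _ => hr'1 r.1 r.2).trans (Multiset.attach_map_val s)
  have hlift : P.map (Int.castRingHom AlgInt) = (s'.map fun a => X - C a).prod := by
    refine map_injective (algebraMap AlgInt ℂ) Subtype.coe_injective ?_
    rw [Polynomial.map_map, Polynomial.map_multiset_prod, Multiset.map_map,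
      show (algebraMap AlgInt ℂ).comp (Int.castRingHom AlgInt) = algebraMap ℤ ℂ from
        RingHom.ext_int _ _, hsplit, ← hs', Multiset.map_map]
    congr 1
    exact Multiset.map_congr rfl fun a _ => by simp
  have hmod : P.map (Int.castRingHom (AlgInt ⧸ M)) = X ^ P.natDegree := by
    have h2 := congrArg (Polynomial.map (Ideal.Quotient.mk M)) hlift
    rw [Polynomial.map_map, show (Ideal.Quotient.mk M).comp (Int.castRingHom AlgInt) =
      Int.castRingHom (AlgInt ⧸ M) from RingHom.ext_int _ _, Polynomial.map_multiset_prod,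
      Multiset.map_map] at h2
    rw [h2, Multiset.map_congr rfl (g := fun _ => X) (fun a ha => ?_), Multiset.map_const',
      Multiset.prod_replicate]
    · congr 1
      rw [← Multiset.card_map (fun a : AlgInt => (a : ℂ)), hs', hs,
        IsAlgClosed.card_roots_eq_natDegree, hPm.natDegree_map]
    · obtain ⟨r, -, rfl⟩ := Multiset.mem_map.1 ha
      simp [Ideal.Quotient.eq_zero_iff_mem.2 (hr'2 r.1 r.2)]
  have hcoeff : ∀ i < P.natDegree, (p : ℤ) ∣ P.coeff i := fun i hi => by
    have h3 := congrArg (fun Q => Q.coeff i) hmod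
    simp only [coeff_map, eq_intCast, coeff_X_pow, hi.ne, if_false] at h3
    rw [← intCast_mem_iff hM, ← Ideal.Quotient.eq_zero_iff_mem, map_intCast]
    exact h3
  refine ⟨⟨d, hdint⟩, ?_, rfl⟩
  refine Ideal.IsPrime.mem_of_pow_mem inferInstance P.natDegree ?_
  have hzero : ((⟨d, hdint⟩ : AlgInt)) ^ P.natDegree +
      ∑ i ∈ Finset.range P.natDegree, (P.coeff i : AlgInt) * (⟨d, hdint⟩ : AlgInt) ^ i = 0 := by
    refine Subtype.ext ?_
    have h4 : aeval d P = 0 := minpoly.aeval ℤ d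
    rw [hPm.as_sum] at h4
    simpa using h4
  rw [eq_neg_of_add_eq_zero_left hzero]
  exact neg_mem (sum_mem fun i hi => Ideal.mul_mem_right _ _
    ((intCast_mem_iff hM' _).2 (hcoeff i (Finset.mem_range.1 hi))))

end Cfsg.Agent.Lib.Blocks
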