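import Cfsg.Agent.Lib.Blocks.DefectCard

/-!
# Reduced central characters of distinct blocks are independent on classes of large defect
-/

set_option autoImplicit false
set_option linter.unusedSectionVars false

namespace Cfsg.Agent.Lib.Blocks.BlockCount

open Cfsg
open Cfsg.Agent.Lib.Blocks

universe u

variable {G : Type u} [Group G] [Finite G] {p : ℕ} [Fact p.Prime] {M : Ideal AlgInt} [M.IsPrime]

/-- The values of the reduced central character on a set of classes. -/
noncomputable def omegaVec (M : Ideal AlgInt) [M.IsPrime] (S : Set (ConjClasses G))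
    (χ : IrrCharacter G) : S → Residue M :=
  fun C => omegaBar M χ (classSumR M (classRep (C : ConjClasses G)))

theorem omegaVec_congr (S : Set (ConjClasses G)) {χ ψ : IrrCharacter G}
    (h : SameBlock M (χ : G → ℂ) (ψ : G → ℂ)) : omegaVec M S χ = omegaVec M S ψ := by
  funext C
  rw [omegaVec, omegaVec, omegaBar_eq_of_sameBlock h]

/-- Reduced central characters in distinct blocks stay independent on any set of classes outside of
which each of them vanishes at every `p`-regular class. -/
theorem linearIndependent_omegaVec (hM : IsPModular p M) {ι : Type*} [Finite ι]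
    (f : ι → IrrCharacter G)
    (hf : ∀ i j, SameBlock M (f i : G → ℂ) (f j : G → ℂ) → i = j)
    (S : Set (ConjClasses G))
    (hS : ∀ (i : ι) (C : ConjClasses G), C ∉ S → ¬ p ∣ orderOf (classRep C) →
      omegaBar M (f i) (classSumR M (classRep C)) = 0) :
    LinearIndependent (Residue M) (fun i => omegaVec M S (f i)) := by
  classical
  cases nonempty_fintype ι
  haveI := Fintype.ofFinite (ConjClasses G)
  rw [Fintype.linearIndependent_iff]
  intro c hc j
  have hB := isPBlock_blockOf (M := M) (f j)
  set z := blockIdem M hB with hz
  have h1 : ∀ i, omegaBar M (f i) z = if i = j then 1 else 0 := by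
    intro i
    rw [hz, omegaBar_blockIdem]
    by_cases hij : i = j
    · subst hij
      rw [if_pos rfl, if_pos (mem_blockOf_self (M := M) (f i))]
    · rw [if_neg hij, if_neg]
      exact fun h => hij (hf i j (sameBlock_symm (mem_blockOf.1 h)))
  have h2 : ∑ i, c i * omegaBar M (f i) z = c j := by simp [h1]
  rw [← h2]
  simp only [omegaBar_eq_sum _ z, Finset.mul_sum]
  rw [Finset.sum_comm]
  refine Finset.sum_eq_zero fun C _ => ?_
  by_cases hC : C ∈ S
  · have h3 : ∑ i, c i * omegaBar M (f i) (classSumR M (classRep C)) = 0 := by
      simpa [omegaVec, Finset.sum_apply] using congrFun hc ⟨C, hC⟩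
    rw [Finset.sum_congr rfl (g := fun i => residue M
        ((z : MonoidAlgebra (localRing M) G).coeff (classRep C)) *
          (c i * omegaBar M (f i) (classSumR M (classRep C)))) (fun i _ => by ring),
      ← Finset.mul_sum, h3, mul_zero]
  · by_cases hp : p ∣ orderOf (classRep C)
    · have h4 : residue M ((z : MonoidAlgebra (localRing M) G).coeff (classRep C)) = 0 := by
        rw [residue_eq_zero_iff, hz, coe_coeff_blockIdem,
          blockCoeff_eq_zero_of_pSingular hM hB hp]
        exact memLocalIdeal_zero
      simp [h4]
    · exact Finset.sum_eq_zero fun i _ => by rw [hS i C hC hp, mul_zero, mul_zero]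

/-- A class with nonzero reduced central character on a block meets the centralizer of a defect
group, so has at least the defect of the block. -/
theorem blockDefect_le_of_omegaBar_ne_zero (hM : IsPModular p M) {B : Set (IrrCharacter G)}
    (hB : IsPBlock M B) {χ : IrrCharacter G} (hχ : χ ∈ B) {g : G}
    (hg : omegaBar M χ (classSumR M g) ≠ 0) :
    blockDefect p B ≤ (Nat.card (Subgroup.centralizer ({g} : Set G))).factorization p := by
  obtain ⟨D, hD⟩ := exists_isDefectGroup (p := p) hB
  obtain ⟨x, hgx, hx⟩ := exists_conj_mem_centralizer_defectGroup hM hB hD hχ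
    fun h => hg ((omegaBar_classSumR_eq_zero_iff χ g).2 h)
  obtain ⟨a, rfl⟩ := isConj_iff.1 hgx
  have hle : D ≤ Subgroup.centralizer ({a * g * a⁻¹} : Set G) :=
    le_centralizer_singleton_iff.2 hx
  have hdvd := Subgroup.card_dvd_of_le hle
  rw [card_defectGroup hM hB hD, ← map_centralizer_singleton,
    Subgroup.card_map_of_injective (MulAut.conj a).injective] at hdvd
  exact ((Fact.out : p.Prime).pow_dvd_iff_le_factorization Nat.card_pos.ne').1 hdvd

end Cfsg.Agent.Lib.Blocks.BlockCount
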