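import Cfsg.Agent.Lib.Blocks.DefectProps
import Cfsg.Agent.Lib.BrauerMap.NormalP
import Mathlib

/-!
# The Brauer correspondence over a subgroup containing the normalizer
-/

set_option autoImplicit false

namespace Cfsg.Agent.Lib.Blocks.Correspondence

open Cfsg MonoidAlgebra
open Cfsg.Agent.Lib
open Cfsg.Agent.Lib.BrauerMap (isPBlock_image_irrCongr blockCoeff_image_irrCongr)

universe u

variable {G : Type u} [Group G] [Finite G] {M : Ideal AlgInt} [M.IsPrime] {p : ℕ}

section Transport

variable {K : Type u} [Group K] [Finite K]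

/-- Defect groups travel along isomorphisms. -/
theorem isDefectGroup_image [Fact p.Prime] (e : K ≃* G) {B : Set (IrrCharacter G)}
    {D : Subgroup G} (h : IsDefectGroup p M B D) :
    IsDefectGroup p M (Chars.irrCongr e '' B) (D.comap e.toMonoidHom) := by
  obtain ⟨g, ⟨h1, h2, h3⟩, hp, hle, hcard⟩ := isDefectGroup_iff.1 h
  have hcent : Subgroup.centralizer ({e.symm g} : Set K) =
      (Subgroup.centralizer ({g} : Set G)).comap e.toMonoidHom := by
    ext x
    simp only [Subgroup.mem_comap, Subgroup.mem_centralizer_singleton_iff,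
      MulEquiv.coe_toMonoidHom]
    exact ⟨fun hx => by simpa using congrArg e hx, fun hx => e.injective (by simpa using hx)⟩
  refine isDefectGroup_iff.2 ⟨e.symm g, ⟨?_, ?_, ?_⟩, hp.comap_of_injective _ e.injective, ?_, ?_⟩
  · rwa [blockCoeff_image_irrCongr, e.apply_symm_apply]
  · rwa [blockCoeff_image_irrCongr, e.apply_symm_apply]
  · rintro _ ⟨χ, hχ, rfl⟩
    rw [show (Chars.irrCongr e χ : K → ℂ) = fun y => (χ : G → ℂ) (e y) from rfl,
      BrauerMap.centralChar_comp_mulEquiv, e.apply_symm_apply]
    exact h3 χ hχ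
  · rw [hcent]
    exact Subgroup.comap_mono hle
  · rw [hcent]
    have hc1 : Nat.card ((Subgroup.centralizer ({g} : Set G)).comap e.toMonoidHom) =
        Nat.card (Subgroup.centralizer ({g} : Set G)) :=
      Nat.card_congr
        { toFun := fun x => ⟨e (x : K), x.2⟩
          invFun := fun y => ⟨e.symm (y : G), by simp⟩
          left_inv := fun x => Subtype.ext (e.symm_apply_apply _)
          right_inv := fun y => Subtype.ext (e.apply_symm_apply _) }
    have hc2 : Nat.card (D.comap e.toMonoidHom) = Nat.card D :=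
      Nat.card_congr
        { toFun := fun x => ⟨e (x : K), x.2⟩
          invFun := fun y => ⟨e.symm (y : G), by simp⟩
          left_inv := fun x => Subtype.ext (e.symm_apply_apply _)
          right_inv := fun y => Subtype.ext (e.apply_symm_apply _) }
    rw [hc1, hc2, hcard]

end Transport

/-- The congruence of idempotents on the centralizer of `P`. -/
def Agree (M : Ideal AlgInt) (P : Subgroup G) {H : Subgroup G} (B : Set (IrrCharacter G))
    (c : Set (IrrCharacter H)) : Prop :=
  ∀ x : G, x ∈ Subgroup.centralizer (P : Set G) →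
    MemLocalIdeal M (blockCoeff B x - subgroupBlockCoeff H c x)

variable [Fact p.Prime]

/-- The Brauer correspondent is recognised by the congruence on the centralizer. -/
theorem agree_iff_induced (hM : IsPModular p M) {P : Subgroup G} (hP : IsPGroup p P)
    {B : Set (IrrCharacter G)} (hB : IsPBlock M B)
    {b : Set (IrrCharacter (Subgroup.normalizer (P : Set G)))} (hb : IsPBlock M b)
    (hbP : IsDefectGroup p M b (P.subgroupOf (Subgroup.normalizer (P : Set G)))) :
    Agree M P B b ↔ IsDefectGroup p M B P ∧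
      IsInducedBlock M (Subgroup.normalizer (P : Set G)) b B := by
  classical
  have hle : P ≤ (Subgroup.normalizer (P : Set G)) := Subgroup.le_normalizer
  have hC : Subgroup.centralizer (P : Set G) ≤ (Subgroup.normalizer (P : Set G)) := Subgroup.centralizer_le_normalizer _
  haveI : (P.subgroupOf (Subgroup.normalizer (P : Set G))).Normal :=
    (Subgroup.normal_subgroupOf_iff_le_normalizer hle).2 le_rfl
  have hPN : IsPGroup p (P.subgroupOf (Subgroup.normalizer (P : Set G))) := hP.of_equiv (Subgroup.subgroupOfEquivOfLe hle).symm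
  set z := brR M P (Subgroup.normalizer (P : Set G)) le_rfl (blockIdem M hB) with hz
  have hzc : ∀ h : (Subgroup.normalizer (P : Set G)), ((z : MonoidAlgebra (localRing M) (Subgroup.normalizer (P : Set G))).coeff h : ℂ) =
      if (h : G) ∈ Subgroup.centralizer (P : Set G) then blockCoeff B h else 0 := fun h => by
    rw [hz, coe_brR, coeff_trunc]
    split_ifs
    · exact coe_coeff_blockIdem hB _
    · rfl
  have hbc : ∀ h : (Subgroup.normalizer (P : Set G)), (h : G) ∉ Subgroup.centralizer (P : Set G) → blockCoeff b h = 0 := by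
    intro h hh
    refine BrauerMap.blockCoeff_eq_zero_of_notMem_centralizer hM (P := P.subgroupOf (Subgroup.normalizer (P : Set G))) hPN hb
      fun hc => hh (Subgroup.mem_centralizer_iff.2 fun w hw => ?_)
    exact congrArg Subtype.val (Subgroup.mem_centralizer_iff.1 hc ⟨w, hle hw⟩ hw)
  have hagree : Agree M P B b ↔ toF M (Subgroup.normalizer (P : Set G)) (z : MonoidAlgebra (localRing M) (Subgroup.normalizer (P : Set G))) =
      toF M (Subgroup.normalizer (P : Set G)) (blockIdem M hb : MonoidAlgebra (localRing M) (Subgroup.normalizer (P : Set G))) := by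
    constructor
    · intro h
      ext k
      simp only [coeff_mapRingHom]
      rw [residue_eq_iff, hzc, coe_coeff_blockIdem]
      split_ifs with hk
      · have := h k hk
        rwa [BrauerMap.subgroupBlockCoeff_of_mem] at this
      · rw [hbc k hk, sub_zero]
        exact memLocalIdeal_zero
    · intro h x hx
      have h1 := congrArg (fun y => y.coeff (⟨x, hC hx⟩ : (Subgroup.normalizer (P : Set G)))) h
      simp only [coeff_mapRingHom] at h1
      rw [residue_eq_iff, hzc, coe_coeff_blockIdem, if_pos hx] at h1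
      rwa [show x = ((⟨x, hC hx⟩ : (Subgroup.normalizer (P : Set G))) : G) from rfl, BrauerMap.subgroupBlockCoeff_of_mem]
  have hω : ∀ (ξ : IrrCharacter (Subgroup.normalizer (P : Set G))) {B' : Set (IrrCharacter G)},
      IsInducedBlock M (Subgroup.normalizer (P : Set G)) (blockOf M (ξ : (Subgroup.normalizer (P : Set G)) → ℂ)) B' →
        omegaBar M ξ z = if B' = B then 1 else 0 := by
    intro ξ B' h'
    obtain ⟨χ, hχ⟩ := exists_omegaBar_eq_brPhi hM hP hC le_rfl ξ
    have h'' := isInducedBlock_of_brPhi_eq hM hP hle hC le_rfl (isPBlock_blockOf ξ)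
      (isPBlock_blockOf χ) (mem_blockOf_self ξ) (mem_blockOf_self χ) hχ
    rw [isInducedBlock_unique h' h'', hz, ← brPhi_apply hM hP hC le_rfl, hχ, omegaBar_blockIdem]
    refine if_congr ⟨fun hm => (eq_blockOf_of_mem hB hm).symm, fun he => he ▸ mem_blockOf_self χ⟩
      rfl rfl
  constructor
  · intro h
    rw [hagree] at h
    obtain ⟨ξ, hξ⟩ := isPBlock_nonempty hb
    obtain ⟨B', hB'⟩ := inducedBlockDefined hM hP hle hC le_rfl hb
    have h1 : omegaBar M ξ z = 1 := by
      rw [omegaBar_congr ξ h, omegaBar_blockIdem, if_pos hξ]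
    have h2 := hω ξ (B' := B') (by rwa [← eq_blockOf_of_mem hb hξ])
    rw [h1] at h2
    obtain ⟨B'', hB'', hB''D, hind⟩ := firstMain_exists hM hP hb hbP
    have he : B' = B := by
      by_contra hne
      rw [if_neg hne] at h2
      exact one_ne_zero h2
    subst he
    obtain rfl := isInducedBlock_unique hB' hind
    exact ⟨hB''D, hind⟩
  · rintro ⟨hBP, hind⟩
    rw [hagree]
    have key : ∀ ξ : IrrCharacter (Subgroup.normalizer (P : Set G)), omegaBar M ξ (z - blockIdem M hb) = 0 := by
      intro ξ
      obtain ⟨B', hB'⟩ := inducedBlockDefined hM hP hle hC le_rfl (isPBlock_blockOf (M := M) ξ)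
      rw [map_sub, hω ξ hB', omegaBar_blockIdem, sub_eq_zero]
      refine if_congr ⟨fun he => ?_, fun hm => ?_⟩ rfl rfl
      · subst he
        obtain ⟨D₀, hD₀⟩ := exists_isDefectGroup (p := p) (isPBlock_blockOf (M := M) ξ)
        have hD₀eq : D₀ = P.subgroupOf (Subgroup.normalizer (P : Set G)) := by
          refine Subgroup.map_injective (Subgroup.normalizer (P : Set G)).subtype_injective ?_
          rw [Subgroup.map_subgroupOf_eq_of_le hle]
          exact map_defectGroup_eq hM hP hle le_rfl hB' hBP hD₀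
        have := (firstMain_unique hM hP hB hBP).unique
          ⟨isPBlock_blockOf (M := M) ξ, hD₀eq ▸ hD₀, hB'⟩ ⟨hb, hbP, hind⟩
        rw [← this]
        exact mem_blockOf_self ξ
      · refine isInducedBlock_unique ?_ hind
        rwa [eq_blockOf_of_mem hb hm]
    obtain ⟨n, hn⟩ := isNilpotent_of_omegaBar_eq_zero key
    have h1 : toF M (Subgroup.normalizer (P : Set G)) ((z * z : RCenter M (Subgroup.normalizer (P : Set G))) : MonoidAlgebra (localRing M) (Subgroup.normalizer (P : Set G))) =
        toF M (Subgroup.normalizer (P : Set G)) (z : MonoidAlgebra (localRing M) (Subgroup.normalizer (P : Set G))) := by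
      rw [hz, ← toF_brR_mul hM hP hC le_rfl, blockIdem_mul_self]
    rw [MulMemClass.coe_mul, map_mul] at h1
    have h2 : toF M (Subgroup.normalizer (P : Set G)) (blockIdem M hb : MonoidAlgebra (localRing M) (Subgroup.normalizer (P : Set G))) *
        toF M (Subgroup.normalizer (P : Set G)) (blockIdem M hb : MonoidAlgebra (localRing M) (Subgroup.normalizer (P : Set G))) =
        toF M (Subgroup.normalizer (P : Set G)) (blockIdem M hb : MonoidAlgebra (localRing M) (Subgroup.normalizer (P : Set G))) := by
      rw [← map_mul, ← MulMemClass.coe_mul, blockIdem_mul_self]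
    have hcomm : Commute (toF M (Subgroup.normalizer (P : Set G)) (z : MonoidAlgebra (localRing M) (Subgroup.normalizer (P : Set G))))
        (toF M (Subgroup.normalizer (P : Set G)) (blockIdem M hb : MonoidAlgebra (localRing M) (Subgroup.normalizer (P : Set G)))) :=
      Commute.map (show Commute _ _ from (Subalgebra.mem_center_iff.1 z.2 _).symm) (toF M (Subgroup.normalizer (P : Set G)))
    rw [AddSubgroupClass.coe_sub, map_sub] at hn
    set U := toF M (Subgroup.normalizer (P : Set G)) (z : MonoidAlgebra (localRing M) (Subgroup.normalizer (P : Set G))) with hU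
    set V := toF M (Subgroup.normalizer (P : Set G)) (blockIdem M hb : MonoidAlgebra (localRing M) (Subgroup.normalizer (P : Set G))) with hV
    have h3 : ∀ m : ℕ, (U - V) ^ (2 * m + 1) = U - V := by
      have hsq : (U - V) * (U - V) * (U - V) = U - V := by
        have hUV := hcomm.eq
        have a1 : U * V * V = U * V := by rw [mul_assoc, h2]
        have a2 : U * V * U = U * V := by rw [mul_assoc, ← hUV, ← mul_assoc, h1]
        simp only [sub_mul, mul_sub, h1, h2, ← hUV, a1, a2]
        abel
      intro m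
      induction m with
      | zero => simp
      | succ m ih =>
        rw [show 2 * (m + 1) + 1 = 2 + (2 * m + 1) by ring, pow_add, ih, pow_two, hsq]
    have h4 := h3 n
    rw [show 2 * n + 1 = n + (n + 1) by ring, pow_add, hn, zero_mul] at h4
    exact sub_eq_zero.1 h4.symm

/-- The correspondence at the normalizer, in congruence form. -/
theorem existsUnique_normalizer (hM : IsPModular p M) {P : Subgroup G} (hP : IsPGroup p P)
    {B : Set (IrrCharacter G)} (hB : IsPBlock M B) (hBP : IsDefectGroup p M B P) :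
    ∃! b : Set (IrrCharacter (Subgroup.normalizer (P : Set G))), IsPBlock M b ∧
      IsDefectGroup p M b (P.subgroupOf (Subgroup.normalizer (P : Set G))) ∧ Agree M P B b := by
  obtain ⟨b, ⟨h1, h2, h3⟩, hu⟩ := firstMain_unique hM hP hB hBP
  refine ⟨b, ⟨h1, h2, (agree_iff_induced hM hP hB h1 h2).2 ⟨hBP, h3⟩⟩, ?_⟩
  rintro b' ⟨h1', h2', h3'⟩
  exact hu b' ⟨h1', h2', ((agree_iff_induced hM hP hB h1' h2').1 h3').2⟩

theorem existsUnique_group (hM : IsPModular p M) {P : Subgroup G} (hP : IsPGroup p P)
    {b : Set (IrrCharacter (Subgroup.normalizer (P : Set G)))} (hb : IsPBlock M b)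
    (hbP : IsDefectGroup p M b (P.subgroupOf (Subgroup.normalizer (P : Set G)))) :
    ∃! B : Set (IrrCharacter G), IsPBlock M B ∧ IsDefectGroup p M B P ∧ Agree M P B b := by
  obtain ⟨B, h1, h2, h3⟩ := firstMain_exists hM hP hb hbP
  refine ⟨B, ⟨h1, h2, (agree_iff_induced hM hP h1 hb hbP).2 ⟨h2, h3⟩⟩, ?_⟩
  rintro B' ⟨h1', -, h3'⟩
  exact isInducedBlock_unique ((agree_iff_induced hM hP h1' hb hbP).1 h3').2 h3

theorem main (hM : IsPModular p M) {P H : Subgroup G} (hP : IsPGroup p P)
    (hH : Subgroup.normalizer (P : Set G) ≤ H) :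
    (∀ B : Set (IrrCharacter G), IsPBlock M B → IsDefectGroup p M B P →
      ∃! c : Set (IrrCharacter H),
        IsPBlock M c ∧ IsDefectGroup p M c (P.subgroupOf H) ∧ Agree M P B c) ∧
    ∀ c : Set (IrrCharacter H), IsPBlock M c → IsDefectGroup p M c (P.subgroupOf H) →
      ∃! B : Set (IrrCharacter G), IsPBlock M B ∧ IsDefectGroup p M B P ∧ Agree M P B c := by
  have hPH : P ≤ H := Subgroup.le_normalizer.trans hH
  have hP' : IsPGroup p (P.subgroupOf H) := hP.of_equiv (Subgroup.subgroupOfEquivOfLe hPH).symm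
  have hmem : ∀ x : H, x ∈ (Subgroup.normalizer ((P.subgroupOf H : Subgroup H) : Set H)) ↔ (x : G) ∈ (Subgroup.normalizer (P : Set G)) := by
    intro x
    rw [Subgroup.mem_normalizer_iff, Subgroup.mem_normalizer_iff]
    constructor
    · intro h y
      constructor
      · intro hy
        exact (h ⟨y, hPH hy⟩).1 hy
      · intro hy
        have hyH : y ∈ H := by
          have := H.mul_mem (H.mul_mem (H.inv_mem x.2) (hPH hy)) x.2
          simpa [mul_assoc] using this
        exact (h ⟨y, hyH⟩).2 hy
    · intro h y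
      exact h y
  let e : (Subgroup.normalizer ((P.subgroupOf H : Subgroup H) : Set H)) ≃* (Subgroup.normalizer (P : Set G)) :=
    { toFun := fun x => ⟨((x : H) : G), (hmem x).1 x.2⟩
      invFun := fun n => ⟨⟨(n : G), hH n.2⟩, (hmem _).2 n.2⟩
      left_inv := fun _ => rfl
      right_inv := fun _ => rfl
      map_mul' := fun _ _ => rfl }
  have hdefT : ∀ b : Set (IrrCharacter (Subgroup.normalizer (P : Set G))), IsDefectGroup p M b (P.subgroupOf (Subgroup.normalizer (P : Set G))) →
      IsDefectGroup p M (Chars.irrCongr e '' b) ((P.subgroupOf H).subgroupOf (Subgroup.normalizer ((P.subgroupOf H : Subgroup H) : Set H))) := fun b hb =>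
    isDefectGroup_image e hb
  have hdefT' : ∀ b' : Set (IrrCharacter (Subgroup.normalizer ((P.subgroupOf H : Subgroup H) : Set H))), IsDefectGroup p M b' ((P.subgroupOf H).subgroupOf (Subgroup.normalizer ((P.subgroupOf H : Subgroup H) : Set H))) →
      IsDefectGroup p M (Chars.irrCongr e.symm '' b') (P.subgroupOf (Subgroup.normalizer (P : Set G))) := fun b hb =>
    isDefectGroup_image e.symm hb
  have hcen : ∀ x : H, x ∈ Subgroup.centralizer ((P.subgroupOf H) : Set H) ↔
      (x : G) ∈ Subgroup.centralizer (P : Set G) := by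
    intro x
    rw [Subgroup.mem_centralizer_iff, Subgroup.mem_centralizer_iff]
    exact ⟨fun h y hy => congrArg Subtype.val (h ⟨y, hPH hy⟩ hy),
      fun h y hy => Subtype.ext (h y hy)⟩
  -- the congruences compose
  have htrans : ∀ (B : Set (IrrCharacter G)) (c : Set (IrrCharacter H)) (b : Set (IrrCharacter (Subgroup.normalizer (P : Set G)))),
      Agree (G := H) M (P.subgroupOf H) c (Chars.irrCongr e '' b) → (Agree M P B b ↔ Agree M P B c) := by
    intro B c b hcb
    refine forall₂_congr fun x hx => ?_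
    have hxH : x ∈ H := hH (Subgroup.centralizer_le_normalizer _ hx)
    have hxN : x ∈ (Subgroup.normalizer (P : Set G)) := Subgroup.centralizer_le_normalizer _ hx
    have h1 := hcb ⟨x, hxH⟩ ((hcen _).2 hx)
    have hxN' : (⟨x, hxH⟩ : H) ∈ (Subgroup.normalizer ((P.subgroupOf H : Subgroup H) : Set H)) := (hmem _).2 hxN
    rw [show (⟨x, hxH⟩ : H) = ((⟨⟨x, hxH⟩, hxN'⟩ : (Subgroup.normalizer ((P.subgroupOf H : Subgroup H) : Set H))) : H) from rfl,
      BrauerMap.subgroupBlockCoeff_of_mem, blockCoeff_image_irrCongr] at h1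
    rw [show subgroupBlockCoeff (Subgroup.normalizer (P : Set G)) b x = blockCoeff b (⟨x, hxN⟩ : (Subgroup.normalizer (P : Set G))) from
        BrauerMap.subgroupBlockCoeff_of_mem (Subgroup.normalizer (P : Set G)) b ⟨x, hxN⟩,
      show subgroupBlockCoeff H c x = blockCoeff c (⟨x, hxH⟩ : H) from
        BrauerMap.subgroupBlockCoeff_of_mem H c ⟨x, hxH⟩]
    constructor <;> intro h2
    · have := memLocalIdeal_add h2 (memLocalIdeal_neg h1)
      convert this using 1
      show _ = blockCoeff B x - blockCoeff b ⟨x, hxN⟩ + -(blockCoeff c ⟨x, hxH⟩ -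
        blockCoeff b ⟨x, hxN⟩)
      ring
    · have := memLocalIdeal_add h2 h1
      convert this using 1
      show _ = blockCoeff B x - blockCoeff c ⟨x, hxH⟩ + (blockCoeff c ⟨x, hxH⟩ -
        blockCoeff b ⟨x, hxN⟩)
      ring
  have hinv : ∀ b' : Set (IrrCharacter (Subgroup.normalizer ((P.subgroupOf H : Subgroup H) : Set H))), Chars.irrCongr e '' (Chars.irrCongr e.symm '' b') = b' := by
    intro b'
    rw [Set.image_image]
    convert Set.image_id b' using 1
    refine Set.image_congr fun χ _ => Subtype.ext (funext fun y => ?_)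
    simp [BrauerMap.irrCongr_apply]
  -- the correspondent of `c` in the normalizer
  have hloc : ∀ c : Set (IrrCharacter H), IsPBlock M c → IsDefectGroup p M c (P.subgroupOf H) →
      ∃ b : Set (IrrCharacter (Subgroup.normalizer (P : Set G))), IsPBlock M b ∧ IsDefectGroup p M b (P.subgroupOf (Subgroup.normalizer (P : Set G))) ∧
        Agree (G := H) M (P.subgroupOf H) c (Chars.irrCongr e '' b) := by
    intro c hc hcP
    obtain ⟨b', ⟨h1, h2, h3⟩, -⟩ := existsUnique_normalizer hM hP' hc hcP
    refine ⟨Chars.irrCongr e.symm '' b', isPBlock_image_irrCongr _ h1, hdefT' b' h2, ?_⟩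
    rwa [hinv]
  constructor
  · intro B hB hBP
    obtain ⟨b, ⟨hb, hbP, hBb⟩, hbu⟩ := existsUnique_normalizer hM hP hB hBP
    obtain ⟨c, ⟨hc, hcP, hcb⟩, hcu⟩ :=
      existsUnique_group (G := H) hM hP' (isPBlock_image_irrCongr e hb) (hdefT b hbP)
    refine ⟨c, ⟨hc, hcP, (htrans B c b hcb).1 hBb⟩, ?_⟩
    rintro c' ⟨hc', hc'P, hBc'⟩
    obtain ⟨b₁, hb₁, hb₁P, hcb₁⟩ := hloc c' hc' hc'P
    obtain rfl := hbu b₁ ⟨hb₁, hb₁P, (htrans B c' b₁ hcb₁).2 hBc'⟩
    exact hcu c' ⟨hc', hc'P, hcb₁⟩
  · intro c hc hcP
    obtain ⟨b, hb, hbP, hcb⟩ := hloc c hc hcP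
    obtain ⟨B, ⟨h1, h2, h3⟩, hu⟩ := existsUnique_group hM hP hb hbP
    exact ⟨B, ⟨h1, h2, (htrans B c b hcb).1 h3⟩,
      fun B' h => hu B' ⟨h.1, h.2.1, (htrans B' c b hcb).2 h.2.2⟩⟩

end Cfsg.Agent.Lib.Blocks.Correspondence
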