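import Cfsg.Agent.Lib.Blocks.BrauerCorrespondence
import Cfsg.Agent.Lib.Blocks.Covering
import Mathlib

/-!
# Block induction from subgroups containing the centralizer of a defect group
-/

set_option autoImplicit false

namespace Cfsg.Agent.Lib.Blocks.InducedCentralizer

open Cfsg
open Cfsg.Agent.Lib
open Cfsg.Agent.Lib.BrauerMap (isPBlock_image_irrCongr)

universe u

variable {G : Type u} [Group G] [Finite G] {M : Ideal AlgInt} [M.IsPrime] {p : ℕ}

omit [M.IsPrime] in
theorem sum_indicator_eq {H : Type u} [Group H] [Fintype H] [Fintype (ConjClasses H)]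
    (f F : H → ℂ) (hf : ∀ a b : H, IsConj a b → f a = f b) :
    ∑ h : H, f h * F h =
      ∑ c : ConjClasses H, f (Quotient.out c) *
        ∑ h : H, Chars.classIndicator (Quotient.out c) h * F h := by
  classical
  simp only [Finset.mul_sum]
  rw [Finset.sum_comm]
  refine Finset.sum_congr rfl fun h _ => ?_
  have key : ∀ c : ConjClasses H, IsConj (Quotient.out c) h ↔ c = ConjClasses.mk h := fun c => by
    rw [← ConjClasses.mk_eq_mk_iff_isConj,
      show ConjClasses.mk (Quotient.out c) = c from Quotient.out_eq c]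
  rw [Finset.sum_eq_single (ConjClasses.mk h)]
  · have := (key (ConjClasses.mk h)).2 rfl
    rw [Chars.classIndicator, if_pos this, one_mul, hf _ _ this]
  · intro c _ hc
    rw [Chars.classIndicator, if_neg (mt (key c).1 hc), zero_mul, mul_zero]
  · intro h'
    exact absurd (Finset.mem_univ _) h'

/-- Induced central characters are transitive modulo `M`. -/
theorem trans_congr {H N : Subgroup G} {K : Subgroup H} (e : K ≃* N)
    (he : ∀ k : K, ((e k : N) : G) = ((k : H) : G)) (ξ : IrrCharacter H) (ζ : N → ℂ)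
    (hcong : ∀ h : H, MemLocalIdeal M
      (inducedCentralChar K (fun k => ζ (e k)) h - centralChar (ξ : H → ℂ) h)) (g : G) :
    MemLocalIdeal M (inducedCentralChar N ζ g - inducedCentralChar H (ξ : H → ℂ) g) := by
  classical
  haveI := Fintype.ofFinite G
  haveI := Fintype.ofFinite H
  haveI := Fintype.ofFinite N
  haveI := Fintype.ofFinite K
  haveI := Fintype.ofFinite (ConjClasses H)
  let f : H → ℂ := fun h => Chars.classIndicator g (h : G)
  have hf : ∀ a b : H, IsConj a b → f a = f b := by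
    intro a b h
    have h' : IsConj (a : G) b := H.subtype.map_isConj h
    have : IsConj g (a : G) ↔ IsConj g (b : G) :=
      ⟨fun x => x.trans h', fun x => x.trans h'.symm⟩
    simp only [f, Chars.classIndicator, this]; convert rfl
  have hH : inducedCentralChar H (ξ : H → ℂ) g =
      ∑ c : ConjClasses H, f (Quotient.out c) * centralChar (ξ : H → ℂ) (Quotient.out c) := by
    rw [Covering.inducedCentralChar_eq_sum_indicator]
    simp only [mul_div_assoc]
    rw [sum_indicator_eq f (fun h => (ξ : H → ℂ) h / (ξ : H → ℂ) 1) hf]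
    refine Finset.sum_congr rfl fun c _ => ?_
    rw [Covering.centralChar_eq_sum_indicator (Chars.irr_isClassFunction ξ)]
    simp only [mul_div_assoc]
  have hN : inducedCentralChar N ζ g = ∑ c : ConjClasses H,
      f (Quotient.out c) * inducedCentralChar K (fun k => ζ (e k)) (Quotient.out c) := by
    simp only [Covering.inducedCentralChar_eq_sum_indicator, Finset.mul_sum]
    rw [Finset.sum_comm, ← e.toEquiv.sum_comp]
    refine Finset.sum_congr rfl fun k _ => ?_
    have h1 := sum_indicator_eq f (fun h => if h = (k : H) then 1 else 0) hf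
    simp only [mul_ite, mul_one, mul_zero, Finset.sum_ite_eq', Finset.mem_univ, if_true] at h1
    simp only [MulEquiv.toEquiv_eq_coe, MulEquiv.coe_toEquiv, map_one, he]
    change f (k : H) * ζ (e k) / ζ 1 = _
    rw [h1, Finset.sum_mul, Finset.sum_div]
    refine Finset.sum_congr rfl fun c _ => ?_
    ring
  rw [hH, hN, ← Finset.sum_sub_distrib]
  refine memLocalIdeal_sum _ _ fun c _ => ?_
  rw [← mul_sub]
  simp only [f, Chars.classIndicator]
  split_ifs
  · rw [one_mul]; exact hcong _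
  · rw [zero_mul]; exact memLocalIdeal_zero

variable [Fact p.Prime]

/-- A block of `H` with defect group `D₀` comes from one of `N_G(D₀) ∩ H`. -/
theorem exists_local (hM : IsPModular p M) {H : Subgroup G} {b : Set (IrrCharacter H)}
    (hb : IsPBlock M b) {D₀ : Subgroup H} (hD₀ : IsDefectGroup p M b D₀) :
    ∃ b₁ : Set (IrrCharacter
        ↥(Subgroup.normalizer ((D₀.map H.subtype : Subgroup G) : Set G) ⊓ H)),
      IsPBlock M b₁ ∧
      IsDefectGroup p M b₁ ((D₀.map H.subtype).subgroupOf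
        (Subgroup.normalizer ((D₀.map H.subtype : Subgroup G) : Set G) ⊓ H)) ∧
      ∀ ζ ∈ b₁, ∀ ξ ∈ b, ∀ g : G, MemLocalIdeal M
        (inducedCentralChar (Subgroup.normalizer ((D₀.map H.subtype : Subgroup G) : Set G) ⊓ H)
          (ζ : _ → ℂ) g - inducedCentralChar H (ξ : H → ℂ) g) := by
  have hPH : D₀.map H.subtype ≤ H := Subgroup.map_subtype_le D₀
  have hmemP : ∀ h : H, (h : G) ∈ D₀.map H.subtype ↔ h ∈ D₀ := fun h =>
    ⟨fun ⟨h', h1, h2⟩ => by rwa [← Subtype.ext h2], fun h1 => ⟨h, h1, rfl⟩⟩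
  have hmem : ∀ h : H, h ∈ Subgroup.normalizer (D₀ : Set H) ↔
      (h : G) ∈ Subgroup.normalizer ((D₀.map H.subtype : Subgroup G) : Set G) := by
    intro h
    rw [Subgroup.mem_normalizer_iff, Subgroup.mem_normalizer_iff]
    constructor
    · intro hh y
      constructor
      · intro hy
        exact (hmemP (h * ⟨y, hPH hy⟩ * h⁻¹)).2 ((hh _).1 ((hmemP ⟨y, hPH hy⟩).1 hy))
      · intro hy
        have hyH : y ∈ H := by
          have := H.mul_mem (H.mul_mem (H.inv_mem h.2) (hPH hy)) h.2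
          simpa [mul_assoc] using this
        exact (hmemP ⟨y, hyH⟩).2 ((hh ⟨y, hyH⟩).2 ((hmemP (h * ⟨y, hyH⟩ * h⁻¹)).1 hy))
    · intro hh y
      rw [← hmemP, ← hmemP]
      exact hh y
  let e : Subgroup.normalizer (D₀ : Set H) ≃*
      ↥(Subgroup.normalizer ((D₀.map H.subtype : Subgroup G) : Set G) ⊓ H) :=
    { toFun := fun x => ⟨((x : H) : G), (hmem x).1 x.2, (x : H).2⟩
      invFun := fun n => ⟨⟨(n : G), n.2.2⟩, (hmem _).2 n.2.1⟩
      left_inv := fun _ => rfl
      right_inv := fun _ => rfl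
      map_mul' := fun _ _ => rfl }
  obtain ⟨b', ⟨hb', hb'D, hind⟩, -⟩ := firstMain_unique hM (isPGroup_of_isDefectGroup hD₀) hb hD₀
  refine ⟨Chars.irrCongr e.symm '' b', isPBlock_image_irrCongr _ hb', ?_, ?_⟩
  · have h1 := Correspondence.isDefectGroup_image e.symm hb'D
    refine (congrArg (IsDefectGroup p M _) (Subgroup.ext fun n => ?_)).mp h1
    exact (hmemP ⟨(n : G), n.2.2⟩).symm
  · rintro _ ⟨ζ', hζ', rfl⟩ ξ hξ g
    refine trans_congr e (fun _ => rfl) ξ _ (fun h => ?_) g
    have hf : (fun k => (Chars.irrCongr e.symm ζ' : _ → ℂ) (e k)) = (ζ' : _ → ℂ) :=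
      funext fun k => by
        show (ζ' : _ → ℂ) (e.symm (e k)) = _
        rw [e.symm_apply_apply]
    rw [hf]
    exact hind.2.2 ζ' hζ' ξ hξ h

theorem defined (hM : IsPModular p M) {H : Subgroup G} {b : Set (IrrCharacter H)}
    (hb : IsPBlock M b) {D₀ : Subgroup H} (hD₀ : IsDefectGroup p M b D₀)
    (hC : Subgroup.centralizer ((D₀.map H.subtype : Subgroup G) : Set G) ≤ H) :
    InducedBlockDefined M H b := by
  have hP := (isPGroup_of_isDefectGroup hD₀).map H.subtype
  obtain ⟨b₁, hb₁, -, ht⟩ := exists_local hM hb hD₀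
  obtain ⟨B, hB⟩ := inducedBlockDefined hM hP
    (le_inf Subgroup.le_normalizer (Subgroup.map_subtype_le D₀))
    (le_inf (Subgroup.centralizer_le_normalizer _) hC) inf_le_left hb₁
  obtain ⟨ζ, hζ⟩ := isPBlock_nonempty hb₁
  refine ⟨B, hb, hB.2.1, fun ξ hξ χ hχ g => ?_⟩
  have := memLocalIdeal_add (memLocalIdeal_neg (ht ζ hζ ξ hξ g)) (hB.2.2 ζ hζ χ hχ g)
  convert this using 1
  ring

/-- Along an induced block the centre of the defect group shrinks. -/
theorem exists_defectGroup (hM : IsPModular p M) :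
    ∀ (n : ℕ) (H : Subgroup G) (b : Set (IrrCharacter H)) (D₀ : Subgroup H)
      (B : Set (IrrCharacter G)), Nat.card G ≤ Nat.card D₀ + n → IsDefectGroup p M b D₀ →
      Subgroup.centralizer ((D₀.map H.subtype : Subgroup G) : Set G) ≤ H →
      IsInducedBlock M H b B →
      ∃ D : Subgroup G, IsDefectGroup p M B D ∧ D₀.map H.subtype ≤ D ∧
        ∀ x ∈ D, (∀ w ∈ D, x * w = w * x) → x ∈ D₀.map H.subtype := by
  intro n
  induction n using Nat.strong_induction_on with
  | _ n IH =>
  intro H b D₀ B hn hD₀ hC hind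
  have hP := (isPGroup_of_isDefectGroup hD₀).map H.subtype
  obtain ⟨b₁, hb₁, hb₁P, ht⟩ := exists_local hM hind.1 hD₀
  have hcard : Nat.card (D₀.map H.subtype) = Nat.card D₀ :=
    Subgroup.card_map_of_injective H.subtype_injective
  generalize hPdef : D₀.map H.subtype = P at hP hC b₁ hb₁ hb₁P ht hcard ⊢
  have hPH : P ≤ H := hPdef ▸ Subgroup.map_subtype_le D₀
  have hPM : P ≤ Subgroup.normalizer (P : Set G) := Subgroup.le_normalizer
  let N := Subgroup.normalizer (P : Set G) ⊓ H
  have hNM : N ≤ Subgroup.normalizer (P : Set G) := inf_le_left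
  have hPN : P ≤ N := le_inf hPM hPH
  have hCN : Subgroup.centralizer (P : Set G) ≤ N :=
    le_inf (Subgroup.centralizer_le_normalizer _) hC
  let e₂ := Subgroup.subgroupOfEquivOfLe hNM
  haveI hPn : (P.subgroupOf (Subgroup.normalizer (P : Set G))).Normal :=
    (Subgroup.normal_subgroupOf_iff_le_normalizer hPM).2 le_rfl
  have hb₂ : IsPBlock M (Chars.irrCongr e₂ '' b₁) := isPBlock_image_irrCongr _ hb₁
  have hb₂D : IsDefectGroup p M (Chars.irrCongr e₂ '' b₁)
      ((P.subgroupOf (Subgroup.normalizer (P : Set G))).subgroupOf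
        (N.subgroupOf (Subgroup.normalizer (P : Set G)))) :=
    (congrArg (IsDefectGroup p M _) (Subgroup.ext fun _ => Iff.rfl)).mp
      (Correspondence.isDefectGroup_image e₂ hb₁P)
  obtain ⟨B₂, hB₂⟩ := inducedBlockDefined hM
    (hP.of_equiv (Subgroup.subgroupOfEquivOfLe hPM).symm)
    (H := N.subgroupOf (Subgroup.normalizer (P : Set G))) (fun x hx => hPN hx)
    (fun x hx => hCN (Subgroup.mem_centralizer_iff.2 fun w hw =>
      congrArg Subtype.val (Subgroup.mem_centralizer_iff.1 hx ⟨w, hPM hw⟩ hw)))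
    (le_top.trans (Subgroup.normalizer_eq_top_iff.2 inferInstance).ge) hb₂
  obtain ⟨ξ, hξ⟩ := isPBlock_nonempty hind.1
  obtain ⟨ζ, hζ⟩ := isPBlock_nonempty hb₁
  -- the block of the normalizer induces `B`
  have hB₂B : IsInducedBlock M (Subgroup.normalizer (P : Set G)) B₂ B := by
    refine ⟨hB₂.2.1, hind.2.1, fun η hη χ hχ g => ?_⟩
    have h1 : MemLocalIdeal M (inducedCentralChar N (ζ : _ → ℂ) g -
        inducedCentralChar (Subgroup.normalizer (P : Set G)) (η : _ → ℂ) g) :=
      trans_congr e₂ (fun _ => rfl) η _ (fun h => hB₂.2.2 _ ⟨ζ, hζ, rfl⟩ η hη h) g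
    have h2 := memLocalIdeal_add (memLocalIdeal_add (memLocalIdeal_neg h1) (ht ζ hζ ξ hξ g))
      (hind.2.2 ξ hξ χ hχ g)
    convert h2 using 1
    ring
  obtain ⟨Q, hQ⟩ := exists_isDefectGroup (p := p) hB₂.2.1
  have hPQ : P.subgroupOf (Subgroup.normalizer (P : Set G)) ≤ Q :=
    normal_le_defectGroup hM (hP.of_equiv (Subgroup.subgroupOfEquivOfLe hPM).symm) hB₂.2.1 hQ
  have hPQ' : P ≤ Q.map (Subgroup.normalizer (P : Set G)).subtype :=
    fun x hx => ⟨⟨x, hPM hx⟩, hPQ hx, rfl⟩
  -- the centre of `Q` lies in `P`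
  have hZQ : ∀ x ∈ Q.map (Subgroup.normalizer (P : Set G)).subtype,
      (∀ w ∈ Q.map (Subgroup.normalizer (P : Set G)).subtype, x * w = w * x) → x ∈ P := by
    rintro _ ⟨x, hx, rfl⟩ hxc
    obtain ⟨g, ⟨z, hz, hgz⟩, -⟩ := exists_conj_mem_center_defectGroup hM hB₂ hb₂D hQ hx
      (fun w hw => Subtype.ext (hxc _ ⟨w, hw, rfl⟩))
    have h3 := hPn.conj_mem _ hz g⁻¹
    simp only [Subgroup.coe_subtype] at hgz h3
    rw [hgz] at h3
    simpa [mul_assoc, Subgroup.mem_subgroupOf] using h3
  by_cases heq : Q.map (Subgroup.normalizer (P : Set G)).subtype = P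
  · have hQeq : Q = P.subgroupOf (Subgroup.normalizer (P : Set G)) :=
      Subgroup.map_injective (Subgroup.subtype_injective _)
        (by rw [heq, Subgroup.map_subgroupOf_eq_of_le hPM])
    subst hQeq
    obtain ⟨B', -, hB'D, hB'⟩ := firstMain_exists hM hP hB₂.2.1 hQ
    obtain rfl := isInducedBlock_unique hB' hB₂B
    exact ⟨P, hB'D, le_rfl, fun x hx _ => hx⟩
  have hlt : Nat.card D₀ < Nat.card Q := by
    rw [← hcard, ← Subgroup.card_map_of_injective
      (f := (Subgroup.normalizer (P : Set G)).subtype) (Subgroup.subtype_injective _) (K := Q)]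
    refine (Subgroup.card_le_of_le hPQ').lt_of_ne fun h => heq ?_
    exact (Subgroup.eq_of_le_of_card_ge hPQ' h.ge).symm
  have hle : Nat.card Q ≤ Nat.card G :=
    (Subgroup.card_le_card_group Q).trans (Subgroup.card_le_card_group _)
  obtain ⟨D, hD, hQD, hZ⟩ := IH (n - (Nat.card Q - Nat.card D₀)) (by omega)
    (Subgroup.normalizer (P : Set G)) B₂ Q B (by omega) hQ
    ((Subgroup.centralizer_le hPQ').trans (Subgroup.centralizer_le_normalizer _)) hB₂B
  refine ⟨D, hD, hPQ'.trans hQD, fun x hx hxc => hZQ x (hZ x hx hxc) fun w hw => ?_⟩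
  exact hxc w (hQD hw)

/-- The centre of a suitable defect group of the induced block lies in that of `D₀`. -/
theorem main (hM : IsPModular p M) {H : Subgroup G} {b : Set (IrrCharacter H)} {D₀ : Subgroup H}
    (hD₀ : IsDefectGroup p M b D₀)
    (hC : Subgroup.centralizer ((D₀.map H.subtype : Subgroup G) : Set G) ≤ H)
    {B : Set (IrrCharacter G)} (hind : IsInducedBlock M H b B) :
    (∃ D : Subgroup G, IsDefectGroup p M B D ∧
      (Subgroup.center ↥D).map D.subtype ≤
        ((Subgroup.center ↥D₀).map D₀.subtype).map H.subtype ∧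
      ((Subgroup.center ↥D₀).map D₀.subtype).map H.subtype ≤ D₀.map H.subtype ∧
      D₀.map H.subtype ≤ D) ∧
    (∀ D : Subgroup G, IsDefectGroup p M B D → IsMulCommutative ↥D →
      IsDefectGroup p M B (D₀.map H.subtype)) := by
  obtain ⟨E, hE, hle, hZ⟩ := exists_defectGroup hM (Nat.card G) H b D₀ B (by omega) hD₀ hC hind
  refine ⟨⟨E, hE, ?_, Subgroup.map_mono (Subgroup.map_subtype_le _), hle⟩, fun D hD hab => ?_⟩
  · rintro _ ⟨x, hx, rfl⟩
    have hxc : ∀ w ∈ E, (x : G) * w = w * x := fun w hw =>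
      (congrArg Subtype.val (Subgroup.mem_center_iff.1 hx ⟨w, hw⟩)).symm
    obtain ⟨h, hh, he⟩ := hZ x x.2 hxc
    refine ⟨h, ⟨⟨h, hh⟩, Subgroup.mem_center_iff.2 fun w => ?_, rfl⟩, he⟩
    refine Subtype.ext (Subtype.ext ?_)
    have h1 := hxc _ (hle ⟨w.1, w.2, rfl⟩)
    rw [show (x : G) = (h : G) from he.symm] at h1
    exact h1.symm
  · obtain ⟨c, hc⟩ := isDefectGroup_conjugate hM hind.2.1 hD hE
    have hEab : ∀ a ∈ E, ∀ w ∈ E, a * w = w * a := by
      intro a ha w hw
      rw [hc] at ha hw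
      obtain ⟨a', ha', rfl⟩ := ha
      obtain ⟨w', hw', rfl⟩ := hw
      have hcm : a' * w' = w' * a' :=
        congrArg Subtype.val (hab.is_comm.comm ⟨a', ha'⟩ ⟨w', hw'⟩)
      rw [← map_mul, ← map_mul, hcm]
    rwa [le_antisymm hle fun x hx => hZ x hx (hEab x hx)]

end Cfsg.Agent.Lib.Blocks.InducedCentralizer
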