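import Cfsg.Agent.S4511
import Cfsg.Agent.Lib.Blocks.InducedCentralizer
import Cfsg.Agent.Lib.Blocks.InducedBlock
import Cfsg.Agent.Lib.ChainSum.Basic
import Mathlib

/-!
# The count k − l of a block through chains of p-subgroups
-/

set_option autoImplicit false
set_option linter.unusedSectionVars false

namespace Cfsg.Agent.Lib.Blocks.ChainCount

open Cfsg
open Cfsg.Agent.Lib Cfsg.Agent.Lib.Blocks
open scoped ComplexConjugate

universe u

variable {p : ℕ} [Fact p.Prime] {M : Ideal AlgInt} [M.IsPrime]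

/-! ### Saturated sets -/

section Saturated

variable {H : Type u} [Group H] [Fintype H]

/-- The p-regular rank of a union of blocks is the trace of the coefficient matrix. -/
theorem blockRank_eq_sum (hM : IsPModular p M) {A : Set (IrrCharacter H)} [Fintype A]
    (hA : ∀ χ ∈ A, ∀ ψ : IrrCharacter H, SameBlock M (χ : H → ℂ) (ψ : H → ℂ) → ψ ∈ A) :
    (blockRank p A : ℂ) = ∑ χ ∈ A.toFinset, BrauerFeit.regCoef p χ χ := by
  classical
  have hzero : ∀ χ ∈ A, ∀ ψ, ψ ∉ A → BrauerFeit.regCoef p χ ψ = 0 := fun χ hχ ψ hψ =>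
    BrauerFeit.regCoef_eq_zero (BrauerFeit.regOrth hM) fun h => hψ (hA χ hχ ψ h)
  let X : (A → ℂ) →ₗ[ℂ] (A → ℂ) := Matrix.toLin'
    (Matrix.of fun ψ χ : A => BrauerFeit.regCoef p (χ : IrrCharacter H) ψ)
  let L : (A → ℂ) →ₗ[ℂ] (H → ℂ) :=
    Fintype.linearCombination ℂ fun ψ : A => ((ψ : IrrCharacter H) : H → ℂ)
  let T : (A → ℂ) →ₗ[ℂ] (H → ℂ) := Fintype.linearCombination ℂ
    fun χ : A => pRegularPart p ((χ : IrrCharacter H) : H → ℂ)
  have hL : Function.Injective L := by
    apply linearIndependent_iff_injective_fintypeLinearCombination.1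
    exact (Chars.irr_linearIndependent (G := H)).comp _ Subtype.coe_injective
  have hsum : ∀ (f : IrrCharacter H → ℂ), ∑ ψ : A, f ψ = ∑ ψ ∈ A.toFinset, f ψ := fun f =>
    (Finset.sum_subtype A.toFinset (fun x => Set.mem_toFinset) f).symm
  have hT : T = L ∘ₗ X := by
    refine LinearMap.ext fun v => funext fun g => ?_
    have hexp : ∀ χ : A, pRegularPart p ((χ : IrrCharacter H) : H → ℂ) g =
        ∑ ψ : A, BrauerFeit.regCoef p (χ : IrrCharacter H) ψ *
          ((ψ : IrrCharacter H) : H → ℂ) g := fun χ => by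
      rw [BrauerFeit.pRegularPart_eq_sum,
        hsum fun ψ => BrauerFeit.regCoef p (χ : IrrCharacter H) ψ * (ψ : H → ℂ) g]
      refine (Finset.sum_subset (Finset.subset_univ _) fun ψ _ hψ => ?_).symm
      rw [hzero χ χ.2 ψ (by simpa using hψ), zero_mul]
    simp only [T, L, X, LinearMap.comp_apply, Fintype.linearCombination_apply, Finset.sum_apply,
      Pi.smul_apply, smul_eq_mul, Matrix.toLin'_apply, Matrix.mulVec, dotProduct, Matrix.of_apply,
      hexp, Finset.mul_sum, Finset.sum_mul]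
    rw [Finset.sum_comm]
    exact Finset.sum_congr rfl fun ψ _ => Finset.sum_congr rfl fun χ _ => by ring
  have hrange : Submodule.span ℂ ((fun χ : IrrCharacter H => pRegularPart p (χ : H → ℂ)) '' A) =
      LinearMap.range T := by
    rw [Fintype.range_linearCombination, Set.image_eq_range]
  have hXX : X ∘ₗ X = X := by
    simp only [X]
    rw [← Matrix.toLin'_mul]
    congr 1
    ext ψ φ
    simp only [Matrix.mul_apply, Matrix.of_apply]
    rw [hsum fun χ => BrauerFeit.regCoef p χ ψ * BrauerFeit.regCoef p φ χ]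
    conv_rhs => rw [← BrauerFeit.sum_regCoef_mul]
    rw [Finset.sum_congr rfl fun χ _ =>
      mul_comm (BrauerFeit.regCoef p χ ψ) (BrauerFeit.regCoef p φ χ)]
    refine Finset.sum_subset (Finset.subset_univ _) fun χ _ hχ => ?_
    rw [hzero φ φ.2 χ (by simpa using hχ), zero_mul]
  have hproj : LinearMap.IsProj (LinearMap.range X) X :=
    ⟨fun x => LinearMap.mem_range_self X x, by
      rintro _ ⟨y, rfl⟩
      exact LinearMap.congr_fun hXX y⟩
  have htr : LinearMap.trace ℂ (A → ℂ) X = ∑ χ ∈ A.toFinset, BrauerFeit.regCoef p χ χ := by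
    rw [← hsum fun χ => BrauerFeit.regCoef p χ χ,
      LinearMap.trace_eq_matrix_trace ℂ (Pi.basisFun ℂ A)]
    simp [X, Matrix.trace, LinearMap.toMatrix_eq_toMatrix']
  rw [← htr, hproj.trace, blockRank, hrange, hT, LinearMap.range_comp]
  congr 1
  exact (Submodule.equivMapOfInjective L hL _).finrank_eq.symm

open Classical in
/-- The order times k − l is the square norm on the p-singular elements. -/
theorem card_mul_sub (hM : IsPModular p M) (A : Set (IrrCharacter H))
    (hA : ∀ χ ∈ A, ∀ ψ : IrrCharacter H, SameBlock M (χ : H → ℂ) (ψ : H → ℂ) → ψ ∈ A) :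
    (Nat.card H : ℂ) * ((Nat.card A : ℂ) - (blockRank p A : ℂ)) =
      ∑ h : H, if p ∣ orderOf h then
        ∑ ξ : IrrCharacter H, (if ξ ∈ A then (ξ : H → ℂ) h * conj ((ξ : H → ℂ) h) else 0) else 0 := by
  have hn : (Nat.card H : ℂ) ≠ 0 := Chars.natCard_ne_zero
  rw [blockRank_eq_sum hM hA, Nat.card_eq_fintype_card (α := A), ← Set.toFinset_card,
    Finset.cast_card, ← Finset.sum_sub_distrib,
    show A.toFinset = Finset.univ.filter (· ∈ A) by ext; simp, Finset.sum_filter, Finset.mul_sum]
  rw [Finset.sum_congr rfl (g := fun h : H => ∑ ξ : IrrCharacter H, if ξ ∈ A then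
    (if p ∣ orderOf h then (ξ : H → ℂ) h * conj ((ξ : H → ℂ) h) else 0) else 0)
    (s₁ := (Finset.univ : Finset H)) (fun h _ => by split_ifs <;> simp), Finset.sum_comm]
  refine Finset.sum_congr rfl fun ξ _ => ?_
  split_ifs with hξ
  · have h1 := Chars.classInner_irr_self ξ
    rw [classInner] at h1
    rw [← h1, BrauerFeit.regCoef, classInner, ← mul_sub, ← mul_assoc, mul_inv_cancel₀ hn, one_mul,
      ← Finset.sum_sub_distrib]
    refine Finset.sum_congr rfl fun h _ => ?_
    rw [BrauerFeit.pRegularPart_apply]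
    split_ifs <;> simp
  · simp

end Saturated

/-! ### Sections -/

variable {G : Type u} [Group G] [Fintype G]

open Classical in
theorem sum_sq_section' (hM : IsPModular p M) {x : G} (hx : ∃ k : ℕ, orderOf x = p ^ k)
    {B : Set (IrrCharacter G)} (hB : IsPBlock M B) {C : Subgroup G}
    (hC : C = Subgroup.centralizer ({x} : Set G)) (y : C) (hy : ¬ p ∣ orderOf y) :
    ∑ ζ : IrrCharacter G, (if ζ ∈ B then (ζ : G → ℂ) (x * (y : G)) *
        conj ((ζ : G → ℂ) (x * (y : G))) else 0) =
      ∑ ξ : IrrCharacter C, (if IsInducedBlock M C (blockOf M (ξ : C → ℂ)) B then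
        (ξ : C → ℂ) y * conj ((ξ : C → ℂ) y) else 0) := by
  let all : Finset (Set (IrrCharacter C)) :=
    Finset.univ.image fun ξ : IrrCharacter C => blockOf M (ξ : C → ℂ)
  let Bs := all.filter fun e => IsInducedBlock M C e B
  have hBs : ∀ e, e ∈ Bs ↔ IsInducedBlock M C e B := fun e => by
    simp only [Bs, Finset.mem_filter, and_iff_right_iff_imp]
    intro h
    obtain ⟨ξ, rfl⟩ := h.1
    exact Finset.mem_image_of_mem _ (Finset.mem_univ ξ)
  rw [S4511.sum_sq_section hM hx hB hC Bs hBs y hy, Finset.sum_comm]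
  refine Finset.sum_congr rfl fun ξ _ => ?_
  by_cases h : IsInducedBlock M C (blockOf M (ξ : C → ℂ)) B
  · rw [if_pos h, Finset.sum_eq_single_of_mem _ ((hBs _).2 h) fun e he hne => if_neg fun hξ =>
      hne (eq_blockOf_of_mem ((hBs e).1 he).1 hξ), if_pos (mem_blockOf_self ξ)]
  · rw [if_neg h]
    exact Finset.sum_eq_zero fun e he => if_neg fun hξ =>
      h ((eq_blockOf_of_mem ((hBs e).1 he).1 hξ) ▸ (hBs e).1 he)

variable (M) (b : Set (IrrCharacter G))

/-- The block of `ξ` induces `b`. -/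
def Lies (K : Subgroup G) (ξ : IrrCharacter K) : Prop :=
  IsInducedBlock M K (blockOf M (ξ : K → ℂ)) b

open Classical in
/-- The square norm of the characters of `K` lying in blocks inducing `b`. -/
noncomputable def weight (K : Subgroup G) (y : G) : ℂ :=
  if h : y ∈ K then ∑ ξ : IrrCharacter K,
    if Lies M b K ξ then (ξ : K → ℂ) ⟨y, h⟩ * conj ((ξ : K → ℂ) ⟨y, h⟩) else 0
  else 0

open Classical in
/-- The total weight on the p-regular elements. -/
noncomputable def regWeightSum (p : ℕ) (K : Subgroup G) : ℂ :=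
  ∑ y : G, if p ∣ orderOf y then 0 else weight M b K y

variable {M b}

theorem weight_section (hM : IsPModular p M) {K : Subgroup G} {x : G}
    (hx : ∃ k : ℕ, orderOf x = p ^ k) (hxK : x ∈ K) {y : G}
    (hy : y ∈ Subgroup.centralizer ({x} : Set G) ⊓ K) (hyreg : ¬ p ∣ orderOf y) :
    weight M b K (x * y) = weight M b (Subgroup.centralizer ({x} : Set G) ⊓ K) y := by
  classical
  haveI := Fintype.ofFinite K
  set L := Subgroup.centralizer ({x} : Set G) ⊓ K with hL
  let xK : K := ⟨x, hxK⟩
  let C' : Subgroup K := Subgroup.centralizer ({xK} : Set K)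
  let e : C' ≃* L :=
    { toFun := fun c => ⟨((c : K) : G), Subgroup.mem_centralizer_singleton_iff.2
        (congrArg Subtype.val (Subgroup.mem_centralizer_singleton_iff.1 c.2)), (c : K).2⟩
      invFun := fun l => ⟨⟨(l : G), l.2.2⟩, Subgroup.mem_centralizer_singleton_iff.2
        (Subtype.ext (Subgroup.mem_centralizer_singleton_iff.1 l.2.1))⟩
      left_inv := fun c => rfl
      right_inv := fun l => rfl
      map_mul' := fun c d => rfl }
  have hxK' : ∃ k : ℕ, orderOf xK = p ^ k := by
    obtain ⟨k, hk⟩ := hx; exact ⟨k, by rwa [← Subgroup.orderOf_coe]⟩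
  let y' : C' := e.symm ⟨y, hy⟩
  have hy'G : ((y' : K) : G) = y := rfl
  have hy' : ¬ p ∣ orderOf y' := by
    rw [← Subgroup.orderOf_coe, ← Subgroup.orderOf_coe, hy'G]; exact hyreg
  have hmul : (⟨x * y, K.mul_mem hxK hy.2⟩ : K) = xK * (y' : K) := rfl
  -- blocks of `C'` induce blocks of `K`
  have hdef : ∀ ξ : IrrCharacter C', ∃ β : Set (IrrCharacter K),
      IsInducedBlock M C' (blockOf M (ξ : C' → ℂ)) β := fun ξ => by
    have hP : IsPGroup p (Subgroup.zpowers xK) := by
      obtain ⟨k, hk⟩ := hxK'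
      exact IsPGroup.of_card (n := k) (by rw [Nat.card_zpowers, hk])
    refine inducedBlockDefined hM hP ((Subgroup.zpowers_le).2
      (Subgroup.mem_centralizer_singleton_iff.2 rfl)) (fun c hc => ?_) (fun c hc => ?_)
      (isPBlock_blockOf ξ)
    · exact Subgroup.mem_centralizer_singleton_iff.2
        ((Subgroup.mem_centralizer_iff.1 hc xK (Subgroup.mem_zpowers xK)).symm)
    · refine Subgroup.mem_normalizer_iff.2 fun w => ?_
      have hcomm : ∀ j : ℤ, c * xK ^ j * c⁻¹ = xK ^ j := fun j => by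
        rw [((show Commute c xK from Subgroup.mem_centralizer_singleton_iff.1 hc).zpow_right j).eq,
          mul_inv_cancel_right]
      constructor
      · rintro ⟨j, rfl⟩
        exact ⟨j, (hcomm j).symm⟩
      · rintro ⟨j, hj⟩
        exact ⟨j, mul_left_cancel (mul_right_cancel ((hcomm j).trans hj))⟩
  have hiff : ∀ (ξ : IrrCharacter C') (β : Set (IrrCharacter K)),
      IsInducedBlock M C' (blockOf M (ξ : C' → ℂ)) β →
      (Lies M b L ((Chars.irrCongr e).symm ξ) ↔ IsInducedBlock M K β b) := by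
    intro ξ β hβ
    set ζ := (Chars.irrCongr e).symm ξ with hζ
    have hmem : ∀ η ∈ blockOf M (ζ : L → ℂ),
        Chars.irrCongr e η ∈ blockOf M (ξ : C' → ℂ) := fun η hη => by
      have h1 := (BrauerMap.sameBlock_irrCongr (M := M) e ζ η).2 (mem_blockOf.1 hη)
      rw [hζ, Equiv.apply_symm_apply] at h1
      exact mem_blockOf.2 h1
    have key : ∀ η ∈ blockOf M (ζ : L → ℂ), ∀ θ ∈ β, ∀ g : G, MemLocalIdeal M
        (inducedCentralChar L (η : L → ℂ) g - inducedCentralChar K (θ : K → ℂ) g) :=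
      fun η hη θ hθ g => InducedCentralizer.trans_congr e (fun _ => rfl) θ _
        (fun h => hβ.2.2 _ (hmem η hη) θ hθ h) g
    constructor
    · intro h
      refine ⟨hβ.2.1, h.2.1, fun θ hθ χ hχ g => ?_⟩
      have h1 := key ζ (mem_blockOf_self ζ) θ hθ g
      have h2 := h.2.2 ζ (mem_blockOf_self ζ) χ hχ g
      simpa using memLocalIdeal_add (memLocalIdeal_neg h1) h2
    · intro h
      obtain ⟨θ, hθ⟩ := isPBlock_nonempty hβ.2.1
      refine ⟨isPBlock_blockOf ζ, h.2.1, fun η hη χ hχ g => ?_⟩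
      simpa using memLocalIdeal_add (key η hη θ hθ g) (h.2.2 θ hθ χ hχ g)
  let all : Finset (Set (IrrCharacter K)) :=
    Finset.univ.image fun ξ : IrrCharacter K => blockOf M (ξ : K → ℂ)
  let BL := all.filter fun β => IsInducedBlock M K β b
  have hBL : ∀ β, β ∈ BL ↔ IsInducedBlock M K β b := fun β => by
    simp only [BL, Finset.mem_filter, and_iff_right_iff_imp]
    intro h
    obtain ⟨ξ, rfl⟩ := h.1
    exact Finset.mem_image_of_mem _ (Finset.mem_univ ξ)
  rw [weight, weight, dif_pos (K.mul_mem hxK hy.2), dif_pos hy]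
  calc ∑ ξ : IrrCharacter K, (if Lies M b K ξ then (ξ : K → ℂ) ⟨x * y, K.mul_mem hxK hy.2⟩ *
        conj ((ξ : K → ℂ) ⟨x * y, K.mul_mem hxK hy.2⟩) else 0)
      = ∑ β ∈ BL, ∑ ξ : IrrCharacter K, (if ξ ∈ β then (ξ : K → ℂ) (xK * (y' : K)) *
          conj ((ξ : K → ℂ) (xK * (y' : K))) else 0) := by
        rw [Finset.sum_comm]
        refine Finset.sum_congr rfl fun ξ _ => ?_
        rw [hmul]
        by_cases h : Lies M b K ξ
        · rw [if_pos h, Finset.sum_eq_single_of_mem _ ((hBL _).2 h) fun β hβ hne => if_neg fun hξ =>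
            hne (eq_blockOf_of_mem ((hBL β).1 hβ).1 hξ), if_pos (mem_blockOf_self ξ)]
        · rw [if_neg h]
          refine (Finset.sum_eq_zero fun β hβ => if_neg fun hξ => h ?_).symm
          show IsInducedBlock M K _ b
          rw [← eq_blockOf_of_mem ((hBL β).1 hβ).1 hξ]
          exact (hBL β).1 hβ
    _ = ∑ β ∈ BL, ∑ ξ : IrrCharacter C', (if IsInducedBlock M C' (blockOf M (ξ : C' → ℂ)) β then
          (ξ : C' → ℂ) y' * conj ((ξ : C' → ℂ) y') else 0) :=
        Finset.sum_congr rfl fun β hβ => sum_sq_section' hM hxK' ((hBL β).1 hβ).1 rfl y' hy'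
    _ = ∑ ξ : IrrCharacter C', (if Lies M b L ((Chars.irrCongr e).symm ξ) then
          (ξ : C' → ℂ) y' * conj ((ξ : C' → ℂ) y') else 0) := by
        rw [Finset.sum_comm]
        refine Finset.sum_congr rfl fun ξ _ => ?_
        obtain ⟨β₀, hβ₀⟩ := hdef ξ
        by_cases h : Lies M b L ((Chars.irrCongr e).symm ξ)
        · rw [if_pos h, Finset.sum_eq_single_of_mem _ ((hBL _).2 ((hiff ξ β₀ hβ₀).1 h))
            fun β _ hne => if_neg fun hi => hne (isInducedBlock_unique hi hβ₀), if_pos hβ₀]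
        · rw [if_neg h]
          exact Finset.sum_eq_zero fun β hβ => if_neg fun hi =>
            h ((hiff ξ β hi).2 ((hBL β).1 hβ))
    _ = _ := by
        refine Fintype.sum_equiv (Chars.irrCongr e).symm _ _ fun ξ => ?_
        congr 1

open Classical in
/-- The pairs (p-part, p'-part) of the p-singular elements. -/
theorem sum_singular_eq (f : G → ℂ) :
    (∑ g : G, if p ∣ orderOf g then f g else 0) =
      ∑ x : G, if x ≠ 1 ∧ (∃ k : ℕ, orderOf x = p ^ k) then
        ∑ y : G, (if p ∣ orderOf y then 0 else if x * y = y * x then f (x * y) else 0) else 0 := by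
  set S : Finset (G × G) := Finset.univ.filter fun q => (q.1 ≠ 1 ∧ ∃ k : ℕ, orderOf q.1 = p ^ k) ∧
    ¬ p ∣ orderOf q.2 ∧ q.1 * q.2 = q.2 * q.1 with hS
  have hrhs : (∑ x : G, if x ≠ 1 ∧ (∃ k : ℕ, orderOf x = p ^ k) then
      ∑ y : G, (if p ∣ orderOf y then 0 else if x * y = y * x then f (x * y) else 0) else 0) =
      ∑ q ∈ S, f (q.1 * q.2) := by
    rw [hS, Finset.sum_filter, Fintype.sum_prod_type]
    refine Finset.sum_congr rfl fun x _ => ?_
    by_cases hx : x ≠ 1 ∧ (∃ k : ℕ, orderOf x = p ^ k)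
    · rw [if_pos hx]
      refine Finset.sum_congr rfl fun y _ => ?_
      simp only
      by_cases hy : p ∣ orderOf y
      · simp [hy]
      · by_cases hxy : x * y = y * x
        · rw [if_neg hy, if_pos hxy, if_pos ⟨hx, hy, hxy⟩]
        · rw [if_neg hy, if_neg hxy, if_neg fun h => hxy h.2.2]
    · rw [if_neg hx, Finset.sum_eq_zero]
      intro y _
      rw [if_neg fun h => hx h.1]
  rw [hrhs, ← Finset.sum_filter]
  symm
  have hpart : ∀ q ∈ S, (q.1 * q.2) ^ pPartExp G p = q.1 := fun q hq => by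
    obtain ⟨-, ⟨-, hk⟩, hreg, hc⟩ := Finset.mem_filter.1 hq
    exact (isPPart_iff.1 ⟨q.2, rfl, hc, hk, hreg⟩).symm
  refine Finset.sum_bij (fun q _ => q.1 * q.2) (fun q hq => ?_) (fun q hq q' hq' h => ?_)
    (fun g hg => ?_) fun q _ => rfl
  · obtain ⟨-, ⟨h1, ⟨k, hk⟩⟩, hreg, hc⟩ := Finset.mem_filter.1 hq
    refine Finset.mem_filter.2 ⟨Finset.mem_univ _, ?_⟩
    have hk0 : k ≠ 0 := fun h0 => h1 (orderOf_eq_one_iff.1 (by rw [hk, h0, pow_zero]))
    have hco : Nat.Coprime (orderOf q.1) (orderOf q.2) := by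
      rw [hk]; exact ((Fact.out : p.Prime).coprime_iff_not_dvd.2 hreg).pow_left k
    rw [(show Commute q.1 q.2 from hc).orderOf_mul_eq_mul_orderOf_of_coprime hco, hk]
    exact dvd_mul_of_dvd_left (dvd_pow_self p hk0) _
  · have h1 : q.1 = q'.1 := by rw [← hpart q hq, ← hpart q' hq']; exact congrArg (· ^ _) h
    refine Prod.ext h1 ?_
    simp only [h1] at h
    exact mul_left_cancel h
  · obtain ⟨y, hxy, hc, hk, hy⟩ := (isPPart_iff (p := p) (g := g)).2 rfl
    refine ⟨(g ^ pPartExp G p, y), Finset.mem_filter.2 ⟨Finset.mem_univ _,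
      ⟨fun h1 => hy ?_, hk⟩, hy, hc⟩, hxy⟩
    simp only at h1
    rw [h1, one_mul] at hxy
    rw [hxy]
    exact (Finset.mem_filter.1 hg).2

theorem saturated_lies (K : Subgroup G) : ∀ χ ∈ {ξ : IrrCharacter K | Lies M b K ξ},
    ∀ ψ : IrrCharacter K, SameBlock M (χ : K → ℂ) (ψ : K → ℂ) →
      ψ ∈ {ξ : IrrCharacter K | Lies M b K ξ} := by
  intro χ hχ ψ h
  show IsInducedBlock M K _ b
  rw [← eq_blockOf_of_mem (isPBlock_blockOf χ) (mem_blockOf.2 h)]
  exact hχ

open Classical in
theorem card_mul_sub_subgroup (hM : IsPModular p M) (K : Subgroup G) :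
    (Nat.card K : ℂ) * ((Nat.card {ξ : IrrCharacter K | Lies M b K ξ} : ℂ) -
        (blockRank p {ξ : IrrCharacter K | Lies M b K ξ} : ℂ)) =
      ∑ x : G, if (x ≠ 1 ∧ ∃ k : ℕ, orderOf x = p ^ k) ∧ x ∈ K then
        regWeightSum M b p (Subgroup.centralizer ({x} : Set G) ⊓ K) else 0 := by
  haveI := Fintype.ofFinite K
  rw [card_mul_sub hM _ (saturated_lies K)]
  calc (∑ h : K, if p ∣ orderOf h then ∑ ξ : IrrCharacter K,
        (if ξ ∈ {ξ : IrrCharacter K | Lies M b K ξ} then (ξ : K → ℂ) h * conj ((ξ : K → ℂ) h)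
          else 0) else 0)
      = ∑ g : G, if p ∣ orderOf g then weight M b K g else 0 := by
        rw [← Finset.sum_subset (Finset.subset_univ (Finset.univ.filter fun g : G => g ∈ K))
          fun g _ hg => by
            have : g ∉ K := fun h => hg (Finset.mem_filter.2 ⟨Finset.mem_univ g, h⟩)
            simp [weight, this],
          Finset.sum_subtype (Finset.univ.filter fun g : G => g ∈ K) (p := (· ∈ K)) (fun g => by simp)]
        refine Finset.sum_congr rfl fun h _ => ?_
        rw [Subgroup.orderOf_coe, weight, dif_pos h.2]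
        rfl
    _ = _ := by
        rw [sum_singular_eq]
        refine Finset.sum_congr rfl fun x _ => ?_
        by_cases hx : x ≠ 1 ∧ ∃ k : ℕ, orderOf x = p ^ k
        · rw [if_pos hx]
          by_cases hxK : x ∈ K
          · rw [if_pos ⟨hx, hxK⟩, regWeightSum]
            refine Finset.sum_congr rfl fun y _ => ?_
            split_ifs with hy hc
            · rfl
            · by_cases hyK : y ∈ K
              · exact weight_section hM hx.2 hxK
                  ⟨Subgroup.mem_centralizer_singleton_iff.2 hc.symm, hyK⟩ hy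
              · have h1 : x * y ∉ K := fun h => hyK ((K.mul_mem_cancel_left hxK).1 h)
                have h2 : y ∉ Subgroup.centralizer ({x} : Set G) ⊓ K := fun h => hyK h.2
                rw [weight, dif_neg h1, weight, dif_neg h2]
            · have h2 : y ∉ Subgroup.centralizer ({x} : Set G) ⊓ K := fun h =>
                hc (Subgroup.mem_centralizer_singleton_iff.1 h.1).symm
              rw [weight, dif_neg h2]
          · rw [if_neg fun h => hxK h.2, Finset.sum_eq_zero]
            intro y _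
            split_ifs with hy hc
            · rfl
            · have h1 : x * y ∉ K := fun h => hxK (by
                have hm : (x * y) ^ pPartExp G p = x :=
                  (isPPart_iff.1 ⟨y, rfl, hc, hx.2, hy⟩).symm
                rw [← hm]
                exact K.pow_mem h _)
              rw [weight, dif_neg h1]
            · rfl
        · rw [if_neg hx, if_neg fun h => hx h.1]

open Classical in
theorem card_mul_sub_block (hM : IsPModular p M) (hb : IsPBlock M b) :
    (Nat.card G : ℂ) * ((Nat.card b : ℂ) - (blockRank p b : ℂ)) =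
      ∑ x : G, if x ≠ 1 ∧ (∃ k : ℕ, orderOf x = p ^ k) then
        regWeightSum M b p (Subgroup.centralizer ({x} : Set G)) else 0 := by
  rw [card_mul_sub hM b (fun χ hχ ψ h => mem_of_sameBlock hb hχ h), sum_singular_eq]
  refine Finset.sum_congr rfl fun x _ => ?_
  by_cases hx : x ≠ 1 ∧ ∃ k : ℕ, orderOf x = p ^ k
  · rw [if_pos hx, if_pos hx, regWeightSum]
    refine Finset.sum_congr rfl fun y _ => ?_
    split_ifs with hy hc
    · rfl
    · have hmem : y ∈ Subgroup.centralizer ({x} : Set G) :=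
        Subgroup.mem_centralizer_singleton_iff.2 hc.symm
      rw [weight, dif_pos hmem]
      exact sum_sq_section' hM hx.2 hb rfl ⟨y, hmem⟩ (by rwa [← Subgroup.orderOf_coe])
    · have h2 : y ∉ Subgroup.centralizer ({x} : Set G) :=
        fun h => hc (Subgroup.mem_centralizer_singleton_iff.1 h).symm
      rw [weight, dif_neg h2]
  · rw [if_neg hx, if_neg hx]

open Classical in
theorem chain_identity (hM : IsPModular p M) (hb : IsPBlock M b)
    (S : Finset (Finset (Subgroup G))) (hS : ∀ s, s ∈ S ↔ ChainSum.IsNChain p s) :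
    (Nat.card G : ℂ) * ((Nat.card b : ℂ) - (blockRank p b : ℂ)) =
      ∑ s ∈ S, (-1 : ℂ) ^ (s.card - 1) * ((Nat.card (ChainSum.stab s) : ℂ) *
        ((Nat.card {ξ : IrrCharacter (ChainSum.stab s) | Lies M b (ChainSum.stab s) ξ} : ℂ) -
          (blockRank p {ξ : IrrCharacter (ChainSum.stab s) | Lies M b (ChainSum.stab s) ξ} : ℂ))) := by
  rw [card_mul_sub_block hM hb]
  conv_rhs => rw [Finset.sum_congr (s₁ := S) rfl (fun s _ => congrArg (fun t => (-1 : ℂ) ^ (s.card - 1) * t)
    (card_mul_sub_subgroup hM (ChainSum.stab s)))]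
  simp only [Finset.mul_sum]
  rw [Finset.sum_comm]
  refine Finset.sum_congr rfl fun x _ => ?_
  by_cases hx : x ≠ 1 ∧ ∃ k : ℕ, orderOf x = p ^ k
  · rw [if_pos hx]
    have hxp : IsPGroup p (Subgroup.zpowers x) := by
      obtain ⟨k, hk⟩ := hx.2
      exact IsPGroup.of_card (n := k) (by rw [Nat.card_zpowers, hk])
    rw [← ChainSum.sum_chains (p := p) hx.1 hxp (regWeightSum M b p)
      (S.filter fun s => x ∈ ChainSum.stab s) (fun s => by rw [Finset.mem_filter, hS]),
      Finset.sum_filter]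
    refine Finset.sum_congr rfl fun s _ => ?_
    by_cases hxs : x ∈ ChainSum.stab s
    · rw [if_pos hxs, if_pos ⟨hx, hxs⟩]
    · rw [if_neg hxs, if_neg fun h => hxs h.2, mul_zero]
  · rw [if_neg hx]
    refine (Finset.sum_eq_zero fun s _ => ?_).symm
    rw [if_neg fun h => hx h.1, mul_zero]

end Cfsg.Agent.Lib.Blocks.ChainCount
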