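import Cfsg.Agent.Lib.BlockUnion.Cover
import Cfsg.Agent.Lib.Chars.PResidualDegree
import Mathlib

/-!
# Sums of squares of degrees of the principal block and a normal subgroup
-/

set_option autoImplicit false
set_option linter.unusedSectionVars false

namespace Cfsg.Agent.Lib.Blocks.DegreeSums

open Cfsg
open Cfsg.Agent.Lib
open Cfsg.Agent.Lib.Clifford (conjFun resFun)
open scoped ComplexConjugate

universe u

variable {G : Type u} [Group G] [Fintype G] {N : Subgroup G} [hN : N.Normal] [Fintype N]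

/-- The degrees above a character of `N` weighted by multiplicity add to the index times it. -/
theorem sum_classInner_mul_degree (θ : IrrCharacter N) :
    ∑ χ : IrrCharacter G, classInner (resFun N (χ : G → ℂ)) (θ : N → ℂ) * (χ : G → ℂ) 1 =
      (N.index : ℂ) * (θ : N → ℂ) 1 := by
  classical
  simp only [classInner, Clifford.resFun_apply, mul_assoc, ← Finset.mul_sum, Finset.sum_mul]
  rw [Finset.sum_comm]
  have h : ∀ n : N, ∑ χ : IrrCharacter G, (χ : G → ℂ) n * (conj ((θ : N → ℂ) n) * (χ : G → ℂ) 1) =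
      if n = 1 then (Nat.card G : ℂ) * conj ((θ : N → ℂ) n) else 0 := by
    intro n
    have h1 := Chars.sum_degree_mul_irr (G := G) (n : G)
    rw [Finset.sum_congr rfl (g := fun χ : IrrCharacter G =>
      conj ((θ : N → ℂ) n) * ((χ : G → ℂ) 1 * (χ : G → ℂ) n)) fun χ _ => by ring, ← Finset.mul_sum,
      h1]
    simp only [OneMemClass.coe_eq_one]
    split_ifs <;> ring
  rw [Finset.sum_congr rfl fun n _ => h n, Finset.sum_ite_eq', if_pos (Finset.mem_univ _),
    (Chars.charDegree_spec θ).2, map_natCast]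
  rw [← N.index_mul_card, Nat.cast_mul]
  have h0 : (Nat.card N : ℂ) ≠ 0 := Chars.natCard_ne_zero
  field_simp

theorem lambda_bounds {p : ℕ} [Fact p.Prime] {M : Ideal AlgInt} [M.IsPrime] (hM : IsPModular p M) :
    (∑ᶠ θ ∈ principalBlock M N, charDegree (θ : N → ℂ) ^ 2) ≤
        (∑ᶠ χ ∈ principalBlock M G, charDegree (χ : G → ℂ) ^ 2) ∧
      (∑ᶠ χ ∈ principalBlock M G, charDegree (χ : G → ℂ) ^ 2) ≤
        N.index * ∑ᶠ θ ∈ principalBlock M N, charDegree (θ : N → ℂ) ^ 2 := by
  classical
  have hB : IsPBlock M (principalBlock M G) := isPBlock_blockOf (Chars.trivialIrr G)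
  have hb : IsPBlock M (principalBlock M N) := isPBlock_blockOf (Chars.trivialIrr N)
  choose m hm using fun (χ : IrrCharacter G) (θ : IrrCharacter N) => Clifford.classInner_irr_nat
    (Chars.isCharacter_restrict N (Chars.irr_isCharacter χ)) θ.2
  have hm' : ∀ χ θ, classInner (resFun N ((χ : IrrCharacter G) : G → ℂ))
      ((θ : IrrCharacter N) : N → ℂ) = (m χ θ : ℂ) := hm
  have htriv : classInner (resFun N (Chars.trivialIrr G : G → ℂ))
      (Chars.trivialIrr N : N → ℂ) ≠ 0 := by
    have h : resFun N (Chars.trivialIrr G : G → ℂ) = fun _ => 1 := funext fun n => rfl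
    rw [h]
    simp [classInner, Nat.card_eq_fintype_card, Fintype.card_ne_zero]
  -- constituents below the principal block lie in the principal block
  have hout : ∀ χ ∈ principalBlock M G, ∀ θ, θ ∉ principalBlock M N → m χ θ = 0 := by
    intro χ hχ θ hθ
    by_contra h0
    refine hθ ?_
    have h1 : classInner (resFun N (χ : G → ℂ)) (θ : N → ℂ) ≠ 0 := by
      rw [hm']; exact_mod_cast h0
    obtain ⟨g, θ', hθ', hg⟩ := Blocks.Covering.constituent_mem_conjClosure hb
      (sameBlock_of_mem hB (mem_blockOf_self (Chars.trivialIrr G)) hχ)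
      (mem_blockOf_self (Chars.trivialIrr N)) htriv h1
    have h2 := Blocks.Covering.sameBlock_conjFun g
      (sameBlock_of_mem hb (mem_blockOf_self (Chars.trivialIrr N)) hθ')
    have h3 : conjFun g (Chars.trivialIrr N : N → ℂ) = (Chars.trivialIrr N : N → ℂ) :=
      funext fun n => rfl
    rw [hg, h3] at h2
    exact mem_of_sameBlock hb (mem_blockOf_self (Chars.trivialIrr N)) h2
  set B := Finset.univ.filter (fun χ : IrrCharacter G => χ ∈ principalBlock M G) with hBdef
  set b := Finset.univ.filter (fun θ : IrrCharacter N => θ ∈ principalBlock M N) with hbdef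
  -- degree of a character in the block
  have hA : ∀ χ ∈ B, charDegree (χ : G → ℂ) = ∑ θ ∈ b, m χ θ * charDegree (θ : N → ℂ) := by
    intro χ hχ
    have h1 := congrFun (Chars.isCharacter_eq_sum_classInner
      (φ := resFun N (χ : G → ℂ)) (Chars.isCharacter_restrict N (Chars.irr_isCharacter χ))) 1
    simp only [Clifford.resFun_apply, OneMemClass.coe_one, Finset.sum_apply, Pi.smul_apply,
      smul_eq_mul, hm', (Chars.charDegree_spec _).2] at h1
    have h2 : charDegree (χ : G → ℂ) = ∑ θ : IrrCharacter N, m χ θ * charDegree (θ : N → ℂ) := by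
      exact_mod_cast h1
    rw [h2]
    refine (Finset.sum_subset (Finset.subset_univ b) fun θ _ hθ => ?_).symm
    rw [hout χ (Finset.mem_filter.1 hχ).2 θ fun h => hθ (Finset.mem_filter.2 ⟨Finset.mem_univ θ, h⟩),
      zero_mul]
  -- the weighted degree above a character
  set S : IrrCharacter N → ℕ := fun θ => ∑ χ ∈ B, m χ θ * charDegree (χ : G → ℂ) with hS
  have hhi : ∀ θ ∈ b, S θ ≤ N.index * charDegree (θ : N → ℂ) := by
    intro θ _
    have h1 := sum_classInner_mul_degree (G := G) θ
    simp only [hm', (Chars.charDegree_spec _).2] at h1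
    have h2 : ∑ χ : IrrCharacter G, m χ θ * charDegree (χ : G → ℂ) =
        N.index * charDegree (θ : N → ℂ) := by exact_mod_cast h1
    rw [← h2]
    exact Finset.sum_le_univ_sum_of_nonneg fun _ => Nat.zero_le _
  have hlo : ∀ θ ∈ b, charDegree (θ : N → ℂ) ≤ S θ := by
    intro θ hθ
    obtain ⟨χ, hχ, hne⟩ := BlockUnion.below_of_covers hM hB hb
      (mem_blockOf_self (Chars.trivialIrr N))
      ⟨Chars.trivialIrr G, mem_blockOf_self (Chars.trivialIrr G), htriv⟩ (Finset.mem_filter.1 hθ).2
    have hχB : χ ∈ B := Finset.mem_filter.2 ⟨Finset.mem_univ χ, hχ⟩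
    have hpos : 1 ≤ m χ θ := Nat.one_le_iff_ne_zero.2 fun h => hne (by rw [hm', h, Nat.cast_zero])
    have h1 : charDegree (θ : N → ℂ) ≤ charDegree (χ : G → ℂ) := by
      rw [hA χ hχB]
      exact le_trans (Nat.le_mul_of_pos_left _ hpos)
        (Finset.single_le_sum (f := fun θ => m χ θ * charDegree (θ : N → ℂ))
          (fun _ _ => Nat.zero_le _) hθ)
    exact le_trans (h1.trans (Nat.le_mul_of_pos_left _ hpos))
      (Finset.single_le_sum (f := fun χ => m χ θ * charDegree (χ : G → ℂ))
        (fun _ _ => Nat.zero_le _) hχB)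
  have hkey : ∑ χ ∈ B, charDegree (χ : G → ℂ) ^ 2 = ∑ θ ∈ b, S θ * charDegree (θ : N → ℂ) := by
    rw [Finset.sum_congr rfl (g := fun χ => ∑ θ ∈ b,
      m χ θ * charDegree (χ : G → ℂ) * charDegree (θ : N → ℂ)) fun χ hχ => ?_, Finset.sum_comm]
    · exact Finset.sum_congr rfl fun θ _ => (Finset.sum_mul _ _ _).symm
    · rw [sq]
      nth_rw 2 [hA χ hχ]
      rw [Finset.mul_sum]
      exact Finset.sum_congr rfl fun θ _ => by ring
  rw [finsum_mem_eq_toFinset_sum, finsum_mem_eq_toFinset_sum,
    show (principalBlock M G).toFinset = B by ext; simp [hBdef],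
    show (principalBlock M N).toFinset = b by ext; simp [hbdef], hkey]
  refine ⟨Finset.sum_le_sum fun θ hθ => ?_, ?_⟩
  · rw [sq]
    exact Nat.mul_le_mul_right _ (hlo θ hθ)
  · rw [Finset.mul_sum]
    refine Finset.sum_le_sum fun θ hθ => ?_
    rw [sq, ← mul_assoc]
    exact Nat.mul_le_mul_right _ (hhi θ hθ)

end Cfsg.Agent.Lib.Blocks.DegreeSums
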