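import Cfsg.Agent.Lib.BrauerFeit.Orth
import Cfsg.Agent.Lib.BrauerFeit.RegGen
import Cfsg.Agent.Lib.BrauerFeit.Landau
import Cfsg.Agent.Lib.BrauerPairs.Deficiency
import Cfsg.Agent.Lib.BrauerMap.CentralQuotient
import Cfsg.Agent.Lib.BlockUnion.Quotient
import Cfsg.Agent.Lib.Blocks.DefectProps
import Cfsg.Agent.Lib.Involution.BrauerFowler
import Mathlib

/-!
# Bounding a group by its Sylow two-subgroup and deficiency class
-/

set_option autoImplicit false
set_option linter.unusedSectionVars false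

namespace Cfsg.Agent.Lib.Blocks.DefBound

open Cfsg
open Cfsg.Agent.Lib

universe u

/-! ### Elementary part -/

section Elementary

variable {G : Type u} [Group G] [Finite G]

theorem card_le_mul_of_fibre {α β : Type*} [Finite α] [Finite β] (f : α → β) (k : ℕ)
    (h : ∀ b, Nat.card {a // f a = b} ≤ k) : Nat.card α ≤ Nat.card β * k := by
  classical
  haveI := Fintype.ofFinite α
  haveI := Fintype.ofFinite β
  simp only [Nat.card_eq_fintype_card, Fintype.card_subtype] at h ⊢
  rw [← Finset.card_univ (α := α), ← Finset.card_univ (α := β), mul_comm]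
  exact Finset.card_le_mul_card_image_of_maps_to (fun a _ => Finset.mem_univ (f a)) k
    (fun b _ => h b)

theorem card_centralizer_conj (e c : G) :
    Nat.card (Subgroup.centralizer ({c * e * c⁻¹} : Set G)) =
      Nat.card (Subgroup.centralizer ({e} : Set G)) := by
  rw [← Blocks.map_centralizer_singleton,
    Subgroup.card_map_of_injective (MulAut.conj c).injective]

theorem exists_conj_of_commute {N : Subgroup G} [N.Normal] (hodd : ¬ 2 ∣ Nat.card N) {e u : G}
    (he : e * e = 1) (hu : u * u = 1) (h : u * e ∈ N) : ∃ c ∈ N, c * e * c⁻¹ = u := by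
  set d := u * e with hd
  have hk : ¬ 2 ∣ orderOf d := fun h2 => hodd (h2.trans (Subgroup.orderOf_dvd_natCard _ h))
  set j := (orderOf d + 1) / 2 with hj
  have hinv : e * d * e⁻¹ = d⁻¹ := by
    have hei : e⁻¹ = e := inv_eq_of_mul_eq_one_right he
    have hui : u⁻¹ = u := inv_eq_of_mul_eq_one_right hu
    rw [hd, mul_inv_rev, hei, hui]
    calc e * (u * e) * e = e * u * (e * e) := by group
      _ = e * u := by rw [he, mul_one]
  have hpow : e * d ^ j * e⁻¹ = (d ^ j)⁻¹ := by
    rw [← conj_pow, hinv, inv_pow]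
  refine ⟨d ^ j, N.pow_mem h j, ?_⟩
  calc d ^ j * e * (d ^ j)⁻¹ = d ^ j * (e * (d ^ j)⁻¹ * e⁻¹) * e := by group
    _ = d ^ j * d ^ j * e := by
      congr 2
      calc e * (d ^ j)⁻¹ * e⁻¹ = (e * d ^ j * e⁻¹)⁻¹ := by group
        _ = d ^ j := by rw [hpow, inv_inv]
    _ = d ^ (orderOf d + 1) * e := by
      rw [← pow_add]
      congr 2
      omega
    _ = u := by rw [pow_succ, pow_orderOf_eq_one, one_mul, hd, mul_assoc, he, mul_one]

/-- An odd normal subgroup normalised by a four-group with small centralizers is small. -/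
theorem card_odd_normal_le {N : Subgroup G} [hN : N.Normal] (hodd : ¬ 2 ∣ Nat.card N) {n : ℕ}
    {e₁ e₂ : G} (h1 : e₁ * e₁ = 1) (h2 : e₂ * e₂ = 1) (hc : e₁ * e₂ = e₂ * e₁)
    (hb1 : Nat.card (Subgroup.centralizer ({e₁} : Set G)) ≤ n)
    (hb2 : Nat.card (Subgroup.centralizer ({e₂} : Set G)) ≤ n)
    (hb3 : Nat.card (Subgroup.centralizer ({e₁ * e₂} : Set G)) ≤ n) :
    Nat.card N ≤ n ^ 4 := by
  classical
  let I : G → Type u := fun e => {s : G // ∃ a ∈ N, a * e * a⁻¹ = s}
  have hI : ∀ e : G, Nat.card (Subgroup.centralizer ({e} : Set G)) ≤ n →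
      Nat.card N ≤ Nat.card (I e) * n := by
    intro e he
    refine card_le_mul_of_fibre (fun a : N => (⟨(a : G) * e * (a : G)⁻¹, a, a.2, rfl⟩ : I e)) n
      fun b => ?_
    refine le_trans ?_ he
    rcases isEmpty_or_nonempty {a : N // (⟨(a : G) * e * (a : G)⁻¹, a, a.2, rfl⟩ : I e) = b} with
      hE | ⟨⟨a₀⟩⟩
    · rw [Nat.card_of_isEmpty]; exact Nat.zero_le _
    refine Nat.card_le_card_of_injective (fun a => ⟨((a₀.1 : N) : G)⁻¹ * ((a.1 : N) : G), ?_⟩) ?_
    · rw [Subgroup.mem_centralizer_singleton_iff]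
      have h := (congrArg Subtype.val a.2).trans (congrArg Subtype.val a₀.2).symm
      simp only at h
      calc ((a₀.1 : N) : G)⁻¹ * ((a.1 : N) : G) * e
          = ((a₀.1 : N) : G)⁻¹ * (((a.1 : N) : G) * e * ((a.1 : N) : G)⁻¹) * ((a.1 : N) : G) := by
            group
        _ = e * (((a₀.1 : N) : G)⁻¹ * ((a.1 : N) : G)) := by rw [h]; group
    · intro a a' h
      exact Subtype.ext (Subtype.ext (mul_left_cancel (congrArg Subtype.val h)))
  set m := Nat.card N with hm
  let U : Type u := {u : G // u * u = 1 ∧ u * (e₁ * e₂) ∈ N}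
  have hU : Nat.card U ≤ m := by
    refine Nat.card_le_card_of_injective (fun u => (⟨u.1 * (e₁ * e₂), u.2.2⟩ : N)) fun u u' h => ?_
    exact Subtype.ext (mul_right_cancel (congrArg Subtype.val h))
  have h33 : (e₁ * e₂) * (e₁ * e₂) = 1 := by
    calc (e₁ * e₂) * (e₁ * e₂) = e₁ * (e₂ * e₁) * e₂ := by group
      _ = e₁ * (e₁ * e₂) * e₂ := by rw [hc]
      _ = (e₁ * e₁) * (e₂ * e₂) := by group
      _ = 1 := by rw [h1, h2, mul_one]
  let F : I e₁ × I e₂ → G := fun q => (q.1.1 * q.2.1) ^ m
  have hF : ∀ q : I e₁ × I e₂, F q * F q = 1 ∧ F q * (e₁ * e₂) ∈ N ∧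
      q.1.1 * F q = F q * q.1.1 ∧ q.2.1 * F q = F q * q.2.1 := by
    rintro ⟨⟨s, a, ha, rfl⟩, ⟨t, b, hb, rfl⟩⟩
    simp only [F]
    set s := a * e₁ * a⁻¹ with hs
    set t := b * e₂ * b⁻¹ with ht
    have hss : s * s = 1 := by
      calc s * s = a * (e₁ * e₁) * a⁻¹ := by rw [hs]; group
        _ = 1 := by rw [h1]; group
    have htt : t * t = 1 := by
      calc t * t = b * (e₂ * e₂) * b⁻¹ := by rw [ht]; group
        _ = 1 := by rw [h2]; group
    have hmodd : Odd m := Nat.odd_iff.2 (by omega)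
    have hQ : ((s * t : G) : G ⧸ N) = ((e₁ * e₂ : G) : G ⧸ N) := by
      simp only [hs, ht, QuotientGroup.mk_mul, QuotientGroup.mk_inv,
        (QuotientGroup.eq_one_iff a).2 ha, (QuotientGroup.eq_one_iff b).2 hb, one_mul, inv_one,
        mul_one]
    have hd2 : (s * t) * (s * t) ∈ N := by
      rw [← QuotientGroup.eq_one_iff, QuotientGroup.mk_mul, hQ, ← QuotientGroup.mk_mul, h33,
        QuotientGroup.mk_one]
    have hu2 : (s * t) ^ m * (s * t) ^ m = 1 := by
      rw [← pow_add, ← two_mul, pow_mul, pow_two]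
      exact congrArg Subtype.val (pow_card_eq_one' (G := N) (x := ⟨_, hd2⟩))
    have hm1 : ((s * t) ^ m : G) * (e₁ * e₂) ∈ N := by
      obtain ⟨j, hj⟩ := hmodd
      rw [← QuotientGroup.eq_one_iff, QuotientGroup.mk_mul, QuotientGroup.mk_pow, hQ, hj, pow_succ,
        pow_mul, pow_two, ← QuotientGroup.mk_mul, h33, QuotientGroup.mk_one, one_pow, one_mul,
        ← QuotientGroup.mk_mul, h33, QuotientGroup.mk_one]
    have hui : ((s * t) ^ m)⁻¹ = (s * t) ^ m := inv_eq_of_mul_eq_one_right hu2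
    have hsi : s⁻¹ = s := inv_eq_of_mul_eq_one_right hss
    have hti : t⁻¹ = t := inv_eq_of_mul_eq_one_right htt
    have hst : (s * t)⁻¹ = t * s := by rw [mul_inv_rev, hti, hsi]
    have hs1 : s * (s * t) * s⁻¹ = (s * t)⁻¹ := by
      rw [hst]
      calc s * (s * t) * s⁻¹ = s * s * t * s⁻¹ := by group
        _ = t * s := by rw [hss, hsi, one_mul]
    have ht1 : t * (s * t) * t⁻¹ = (s * t)⁻¹ := by
      rw [hst]
      calc t * (s * t) * t⁻¹ = t * s * (t * t⁻¹) := by group
        _ = t * s := by rw [mul_inv_cancel, mul_one]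
    have hsc : s * (s * t) ^ m * s⁻¹ = (s * t) ^ m := by
      rw [← conj_pow, hs1, inv_pow, hui]
    have htc : t * (s * t) ^ m * t⁻¹ = (s * t) ^ m := by
      rw [← conj_pow, ht1, inv_pow, hui]
    exact ⟨hu2, hm1, mul_inv_eq_iff_eq_mul.1 hsc, mul_inv_eq_iff_eq_mul.1 htc⟩
  have hpairs : Nat.card (I e₁) * Nat.card (I e₂) ≤ m * (n * n) := by
    rw [← Nat.card_prod]
    refine le_trans (card_le_mul_of_fibre
      (fun q : I e₁ × I e₂ => (⟨F q, (hF q).1, (hF q).2.1⟩ : U)) (n * n) fun u => ?_)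
      (Nat.mul_le_mul_right _ hU)
    obtain ⟨c, -, hc'⟩ := exists_conj_of_commute hodd h33 u.2.1 u.2.2
    have hCu : Nat.card (Subgroup.centralizer ({u.1} : Set G)) ≤ n := by
      rw [← hc', card_centralizer_conj]; exact hb3
    refine le_trans ?_ (Nat.mul_le_mul hCu hCu)
    rw [← Nat.card_prod]
    refine Nat.card_le_card_of_injective (fun q =>
      ((⟨q.1.1.1, ?_⟩ : Subgroup.centralizer ({u.1} : Set G)),
        (⟨q.1.2.1, ?_⟩ : Subgroup.centralizer ({u.1} : Set G)))) ?_
    · rw [Subgroup.mem_centralizer_singleton_iff, ← show F q.1 = u.1 from congrArg Subtype.val q.2]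
      exact (hF q.1).2.2.1
    · rw [Subgroup.mem_centralizer_singleton_iff, ← show F q.1 = u.1 from congrArg Subtype.val q.2]
      exact (hF q.1).2.2.2
    · intro q q' h
      exact Subtype.ext (Prod.ext (Subtype.ext (congrArg (fun x => (x.1 : G)) h))
        (Subtype.ext (congrArg (fun x => (x.2 : G)) h)))
  have key : m * m ≤ n * n * (m * (n * n)) :=
    calc m * m ≤ (Nat.card (I e₁) * n) * (Nat.card (I e₂) * n) :=
          Nat.mul_le_mul (hI e₁ hb1) (hI e₂ hb2)
      _ = (Nat.card (I e₁) * Nat.card (I e₂)) * (n * n) := by ring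
      _ ≤ m * (n * n) * (n * n) := Nat.mul_le_mul_right _ hpairs
      _ = n * n * (m * (n * n)) := by ring
  refine Nat.le_of_mul_le_mul_left (c := m) ?_ Nat.card_pos
  calc m * m ≤ n * n * (m * (n * n)) := key
    _ = m * n ^ 4 := by ring

/-- Brauer and Fowler: a class of small index or a central involution. -/
theorem exists_small_index {z : G} (hz : orderOf z = 2) {n : ℕ}
    (hn : Nat.card (Subgroup.centralizer ({z} : Set G)) ≤ n) :
    (∃ c ∈ Subgroup.center G, orderOf c = 2) ∨
      ∃ x : G, (Subgroup.centralizer ({x} : Set G)).index ≠ 1 ∧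
        (Subgroup.centralizer ({x} : Set G)).index ≤ 2 * n ^ 2 := by
  classical
  haveI := Fintype.ofFinite G
  by_contra hne
  push Not at hne
  obtain ⟨hcen, hbig⟩ := hne
  let A : Set G := {a | IsConj z a}
  have hA : ∀ a ∈ A, orderOf a = 2 := fun a ha => by
    obtain ⟨c, hc⟩ := isConj_iff.1 (ha : IsConj z a)
    rw [← hc]
    exact ((MulAut.conj c).orderOf_eq z).trans hz
  have hAcard : A.ncard = (Subgroup.centralizer ({z} : Set G)).index := by
    rw [← Nat.card_coe_set_eq, ← Chars.card_conjClass_eq_index]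
    rfl
  let f : G → ℕ := fun x =>
    if IsConj x x⁻¹ then Nat.card (Subgroup.centralizer ({x} : Set G)) else 0
  have hsum := Involution.card_sq_le_card_add_sum A hA f fun x _ => by
    simp only [f]
    split_ifs with h
    · exact Involution.card_pairs_le_centralizer x A A hA hA
    · exact (Involution.card_pairs_eq_zero x A A hA hA h).le
  set g := Nat.card G with hg
  set m := (Subgroup.centralizer ({z} : Set G)).index with hm
  rw [hAcard] at hsum
  have hgm : g ≤ m * n := by
    rw [hg, ← Subgroup.index_mul_card (Subgroup.centralizer ({z} : Set G))]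
    exact Nat.mul_le_mul_left _ hn
  have hzc : z ∉ Subgroup.center G := fun h => hcen z h hz
  have hm2 : 2 ≤ m := by
    have h1 : m ≠ 0 := Subgroup.index_ne_zero_of_finite
    have h2 : m ≠ 1 := by
      intro h
      refine hzc (Subgroup.mem_center_iff.2 fun w => ?_)
      exact Subgroup.mem_centralizer_singleton_iff.1
        ((Subgroup.index_eq_one.1 h).ge (Subgroup.mem_top w))
    omega
  have hx : ∀ x ∈ Finset.univ.erase (1 : G), f x * (2 * n ^ 2) ≤ g := by
    intro x hx
    simp only [f]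
    split_ifs with h
    · have hidx : (Subgroup.centralizer ({x} : Set G)).index ≠ 1 := by
        intro h1
        have hxc : x ∈ Subgroup.center G := Subgroup.mem_center_iff.2 fun w =>
          Subgroup.mem_centralizer_singleton_iff.1
            ((Subgroup.index_eq_one.1 h1).ge (Subgroup.mem_top w))
        refine hcen x hxc (orderOf_eq_prime ?_ (Finset.ne_of_mem_erase hx))
        obtain ⟨c, hc⟩ := isConj_iff.1 h
        rw [Subgroup.mem_center_iff.1 hxc c, mul_inv_cancel_right] at hc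
        rw [pow_two]
        nth_rw 2 [hc]
        exact mul_inv_cancel x
      calc Nat.card (Subgroup.centralizer ({x} : Set G)) * (2 * n ^ 2)
          ≤ Nat.card (Subgroup.centralizer ({x} : Set G)) *
              (Subgroup.centralizer ({x} : Set G)).index :=
            Nat.mul_le_mul_left _ (le_of_lt (hbig x hidx))
        _ = g := Subgroup.card_mul_index _
    · simp
  have hS : (∑ x ∈ Finset.univ.erase (1 : G), f x) * (2 * n ^ 2) + g ≤ g * g := by
    rw [Finset.sum_mul]
    have h1 := Finset.sum_le_card_nsmul _ _ g hx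
    rw [Finset.card_erase_of_mem (Finset.mem_univ _), Finset.card_univ, ← Nat.card_eq_fintype_card,
      ← hg, smul_eq_mul] at h1
    have h2 : (g - 1) * g + g = g * g := by
      rw [← Nat.succ_mul, Nat.succ_eq_add_one, Nat.sub_add_cancel Nat.card_pos]
    omega
  have hgpos : 0 < g := Nat.card_pos
  have hn0 : 0 < n := lt_of_lt_of_le Nat.card_pos hn
  set S := ∑ x ∈ Finset.univ.erase (1 : G), f x
  have h3 : S * (2 * n ^ 2) < (m * n) ^ 2 := by
    have : g * g ≤ (m * n) ^ 2 := by rw [sq]; exact Nat.mul_le_mul hgm hgm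
    omega
  have h4 : S * 2 < m * m := by
    refine Nat.lt_of_mul_lt_mul_right (a := n ^ 2) ?_
    calc S * 2 * n ^ 2 = S * (2 * n ^ 2) := by ring
      _ < (m * n) ^ 2 := h3
      _ = m * m * n ^ 2 := by ring
  have h5 : 2 * m ≤ m * m := Nat.mul_le_mul_right _ hm2
  omega

/-- Small centralizers of the relevant involutions bound the group. -/
theorem card_le_of_centralizers {n a : ℕ} (ha : (Nat.card G).factorization 2 ≤ a) {E : Subgroup G}
    (hEab : ∀ x ∈ E, ∀ y ∈ E, x * y = y * x) (hE2 : ∀ x ∈ E, x * x = 1) (hE4 : 4 ≤ Nat.card E)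
    (hz : ∀ z : G, orderOf z = 2 → (∀ e ∈ E, z * e = e * z) →
      Nat.card (Subgroup.centralizer ({z} : Set G)) ≤ n) :
    Nat.card G ≤ 2 ^ a * n * ((2 * n ^ 2).factorial ^ (2 ^ a * n) * n ^ 4 + 2 ^ a) := by
  classical
  haveI := Fact.mk Nat.prime_two
  have hle2a : ∀ R : Subgroup G, IsPGroup 2 R → Nat.card R ≤ 2 ^ a := by
    intro R hR
    obtain ⟨k, hk⟩ := IsPGroup.iff_card.1 hR
    rw [hk]
    refine Nat.pow_le_pow_right (by norm_num) (le_trans ?_ ha)
    have h1 := Subgroup.card_subgroup_dvd_card R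
    rw [hk] at h1
    exact (Nat.prime_two.pow_dvd_iff_le_factorization Nat.card_pos.ne').1 h1
  have hEp : IsPGroup 2 E := fun x => ⟨1, Subtype.ext (by
    rw [SubmonoidClass.coe_pow, pow_one, pow_two]; exact hE2 _ x.2)⟩
  -- a four-group
  have hE1 : ∀ e ∈ E, e ≠ 1 → Nat.card (Subgroup.centralizer ({e} : Set G)) ≤ n := fun e he h1 =>
    hz e (orderOf_eq_prime (by rw [pow_two]; exact hE2 e he) h1) fun f hf => hEab e he f hf
  haveI : Fintype E := Fintype.ofFinite E
  obtain ⟨e₁, he₁⟩ : ∃ e : E, e ≠ 1 := by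
    haveI : Nontrivial E := Finite.one_lt_card_iff_nontrivial.1 (by omega)
    exact exists_ne 1
  obtain ⟨e₂, he₂⟩ : ∃ e : E, e ∉ ({1, e₁} : Finset E) := by
    by_contra h
    push Not at h
    have h1 : (Finset.univ : Finset E) ⊆ {1, e₁} := fun e _ => h e
    have h2 := (Finset.card_le_card h1).trans Finset.card_le_two
    rw [Finset.card_univ, ← Nat.card_eq_fintype_card] at h2
    omega
  simp only [Finset.mem_insert, Finset.mem_singleton, not_or] at he₂
  have hodd : ∀ N : Subgroup G, N.Normal → ¬ 2 ∣ Nat.card N → Nat.card N ≤ n ^ 4 := by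
    intro N hN h
    haveI := hN
    refine card_odd_normal_le h (hE2 _ e₁.2) (hE2 _ e₂.2) (hEab _ e₁.2 _ e₂.2)
      (hE1 _ e₁.2 fun h' => he₁ (Subtype.ext h')) (hE1 _ e₂.2 fun h' => he₂.1 (Subtype.ext h'))
      (hE1 _ (E.mul_mem e₁.2 e₂.2) fun h' => he₂.2 ?_)
    refine Subtype.ext ?_
    calc (e₂ : G) = (e₁ : G) * e₁ * e₂ := by rw [hE2 _ e₁.2, one_mul]
      _ = e₁ := by rw [mul_assoc, h', mul_one]
  -- a minimal normal subgroup of even order
  have heven : 2 ∣ Nat.card G := by
    rw [← (Subgroup.orderOf_coe e₁).trans (orderOf_eq_prime (G := E) (p := 2)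
      (Subtype.ext (by rw [SubmonoidClass.coe_pow, pow_two]; exact hE2 _ e₁.2)) he₁)]
    exact orderOf_dvd_natCard _
  obtain ⟨L, ⟨hLn, hL2⟩, hLmin⟩ := WellFounded.has_min (r := (· < · : Subgroup G → Subgroup G → Prop))
    wellFounded_lt {L : Subgroup G | L.Normal ∧ 2 ∣ Nat.card L}
    ⟨⊤, inferInstance, by rwa [Subgroup.card_top]⟩
  haveI := hLn
  obtain ⟨P₀, hP₀⟩ := hEp.exists_le_sylow
  set Q := ((P₀ : Subgroup G) ⊓ L).subgroupOf (P₀ : Subgroup G) with hQ
  have hint : (P₀ : Subgroup G) ⊓ L ≠ ⊥ := by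
    intro hbot
    obtain ⟨y, hy⟩ := exists_prime_orderOf_dvd_card' 2 hL2
    obtain ⟨R, hR⟩ := (IsPGroup.of_card (p := 2) (n := 1) (by
      rw [Nat.card_zpowers, Subgroup.orderOf_coe, hy, pow_one]) :
        IsPGroup 2 (Subgroup.zpowers (y : G))).exists_le_sylow
    obtain ⟨c, hc⟩ := MulAction.exists_smul_eq G R P₀
    have h1 : c * (y : G) * c⁻¹ ∈ (P₀ : Subgroup G) ⊓ L := by
      refine ⟨?_, hLn.conj_mem _ y.2 c⟩
      rw [← hc, Sylow.coe_subgroup_smul]
      exact ⟨(y : G), hR (Subgroup.mem_zpowers _), rfl⟩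
    rw [hbot, Subgroup.mem_bot, conj_eq_one_iff] at h1
    rw [← Subgroup.orderOf_coe, h1, orderOf_one] at hy
    omega
  have hQn : Q.Normal := ⟨fun q hq c => ⟨(c * q * c⁻¹).2, hLn.conj_mem _ hq.2 c⟩⟩
  have hQne : Q ≠ ⊥ := fun h => hint (by
    rw [hQ, Subgroup.subgroupOf_eq_bot, disjoint_iff, inf_assoc, inf_comm L, ← inf_assoc,
      inf_idem] at h
    exact h)
  obtain ⟨z, hzQ, hzC, hz2⟩ : ∃ z : (P₀ : Subgroup G), z ∈ Q ∧ z ∈ Subgroup.center _ ∧
      orderOf z = 2 := by
    haveI : Nontrivial Q := (Subgroup.nontrivial_iff_ne_bot Q).2 hQne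
    haveI := hQn
    have h1 : Q ⊓ Subgroup.center (P₀ : Subgroup G) ≠ ⊥ := by
      have hd : 2 ∣ Nat.card Q := by
        obtain ⟨k, hk0, hk⟩ := ((P₀.isPGroup').to_subgroup Q).nontrivial_iff_card.1 inferInstance
        rw [hk]; exact dvd_pow_self 2 (by omega)
      obtain ⟨b, hb, hb1⟩ := (P₀.isPGroup'.of_equiv ConjAct.toConjAct
        ).exists_fixed_point_of_prime_dvd_card_of_fixed_point Q hd (a := 1) fun c => smul_one c
      intro h
      refine hb1 (Subtype.ext ?_)
      have hbc : (b : (P₀ : Subgroup G)) ∈ Q ⊓ Subgroup.center (P₀ : Subgroup G) :=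
        ⟨b.2, Subgroup.mem_center_iff.2 fun c => mul_inv_eq_iff_eq_mul.1
          (congrArg Subtype.val (hb (ConjAct.toConjAct c)))⟩
      rw [h, Subgroup.mem_bot] at hbc
      exact hbc.symm
    haveI : Nontrivial ↥(Q ⊓ Subgroup.center (P₀ : Subgroup G)) :=
      (Subgroup.nontrivial_iff_ne_bot _).2 h1
    obtain ⟨k, hk⟩ := IsPGroup.iff_card.1
      (P₀.isPGroup'.to_subgroup (Q ⊓ Subgroup.center (P₀ : Subgroup G)))
    have hd : 2 ∣ Nat.card ↥(Q ⊓ Subgroup.center (P₀ : Subgroup G)) := by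
      rw [hk]
      refine dvd_pow_self 2 fun h0 => ?_
      have := Finite.one_lt_card (α := ↥(Q ⊓ Subgroup.center (P₀ : Subgroup G)))
      rw [hk, h0] at this
      simp at this
    obtain ⟨w, hw⟩ := exists_prime_orderOf_dvd_card' 2 hd
    exact ⟨w.1, w.2.1, w.2.2, by rw [Subgroup.orderOf_coe, hw]⟩
  have hzG : orderOf (z : G) = 2 := by rw [Subgroup.orderOf_coe, hz2]
  have hzn : Nat.card (Subgroup.centralizer ({(z : G)} : Set G)) ≤ n :=
    hz _ hzG fun e he => (congrArg Subtype.val
      (Subgroup.mem_center_iff.1 hzC ⟨e, hP₀ he⟩)).symm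
  have hzL : (z : G) ∈ L := hzQ.2
  -- Frattini
  obtain ⟨R, hR⟩ := ((IsPGroup.of_card (p := 2) (n := 1) (by
    rw [Nat.card_zpowers, pow_one]
    exact (orderOf_injective L.subtype L.subtype_injective ⟨(z : G), hzL⟩).symm.trans hzG)) :
      IsPGroup 2 (Subgroup.zpowers (⟨(z : G), hzL⟩ : L))).exists_le_sylow
  set S := (R : Subgroup L).map L.subtype with hS
  have hzS : (z : G) ∈ S := ⟨⟨(z : G), hzL⟩, hR (Subgroup.mem_zpowers _), rfl⟩
  have hfr : Subgroup.normalizer (S : Set G) ⊔ L = ⊤ := Sylow.normalizer_sup_eq_top R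
  have hNS : Nat.card (Subgroup.normalizer (S : Set G)) ≤ 2 ^ a * n := by
    refine le_trans (card_le_mul_of_fibre (fun g : Subgroup.normalizer (S : Set G) =>
      (⟨(g : G) * (z : G) * (g : G)⁻¹, (Subgroup.mem_normalizer_iff.1 g.2 _).1 hzS⟩ : S)) n
        fun b => ?_) (Nat.mul_le_mul_right _ (hle2a S (R.isPGroup'.map _)))
    refine le_trans ?_ hzn
    rcases isEmpty_or_nonempty {g : Subgroup.normalizer (S : Set G) //
      (⟨(g : G) * (z : G) * (g : G)⁻¹, (Subgroup.mem_normalizer_iff.1 g.2 _).1 hzS⟩ : S) = b} with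
      hE | ⟨⟨g₀⟩⟩
    · rw [Nat.card_of_isEmpty]; exact Nat.zero_le _
    refine Nat.card_le_card_of_injective (fun g => ⟨(g₀.1 : G)⁻¹ * (g.1 : G), ?_⟩) ?_
    · rw [Subgroup.mem_centralizer_singleton_iff]
      have h := (congrArg Subtype.val g.2).trans (congrArg Subtype.val g₀.2).symm
      simp only at h
      calc (g₀.1 : G)⁻¹ * (g.1 : G) * (z : G)
          = (g₀.1 : G)⁻¹ * ((g.1 : G) * (z : G) * (g.1 : G)⁻¹) * (g.1 : G) := by group
        _ = (z : G) * ((g₀.1 : G)⁻¹ * (g.1 : G)) := by rw [h]; group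
    · intro g g' h
      exact Subtype.ext (Subtype.ext (mul_left_cancel (congrArg Subtype.val h)))
  have hidx : L.index ≤ 2 ^ a * n := by
    refine le_trans (Nat.card_le_card_of_surjective
      (fun g : Subgroup.normalizer (S : Set G) => ((g : G) : G ⧸ L)) fun q => ?_) hNS
    obtain ⟨g, rfl⟩ := QuotientGroup.mk_surjective q
    obtain ⟨x, hx, l, hl, rfl⟩ := Subgroup.mem_sup_of_normal_right.1
      (hfr ▸ Subgroup.mem_top g : g ∈ Subgroup.normalizer (S : Set G) ⊔ L)
    exact ⟨⟨x, hx⟩, QuotientGroup.eq.2 (by simpa using hl)⟩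
  -- Brauer-Fowler inside `L`
  have hzLn : Nat.card (Subgroup.centralizer ({(⟨(z : G), hzL⟩ : L)} : Set L)) ≤ n := by
    refine le_trans (Nat.card_le_card_of_injective (fun c =>
      (⟨((c.1 : L) : G), Subgroup.mem_centralizer_singleton_iff.2 (congrArg Subtype.val
        (Subgroup.mem_centralizer_singleton_iff.1 c.2))⟩ :
          Subgroup.centralizer ({(z : G)} : Set G))) fun c c' h => ?_) hzn
    simp only [Subtype.mk.injEq, SetLike.coe_eq_coe] at h
    exact h
  have hLcard : Nat.card L ≤ (2 * n ^ 2).factorial ^ (2 ^ a * n) * n ^ 4 + 2 ^ a := by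
    rcases exists_small_index (z := (⟨(z : G), hzL⟩ : L))
      ((orderOf_injective L.subtype L.subtype_injective _).symm.trans hzG) hzLn with
      ⟨c, hc, hc2⟩ | ⟨x, hx1, hxb⟩
    · refine le_trans ?_ (Nat.le_add_left _ _)
      -- the involutions of the centre fill `L`
      let W : Subgroup G :=
        { carrier := {w | w ∈ (Subgroup.center L).map L.subtype ∧ w * w = 1}
          one_mem' := ⟨one_mem _, one_mul 1⟩
          mul_mem' := by
            intro x y hx hy
            obtain ⟨u, hu, hux⟩ := hx.1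
            obtain ⟨v, -, hvy⟩ := hy.1
            have hcm : x * y = y * x := by
              rw [← hux, ← hvy]
              exact (congrArg Subtype.val (Subgroup.mem_center_iff.1 hu v)).symm
            refine ⟨mul_mem hx.1 hy.1, ?_⟩
            calc x * y * (x * y) = x * (y * x) * y := by group
              _ = x * x * (y * y) := by rw [← hcm]; group
              _ = 1 := by rw [hx.2, hy.2, mul_one]
          inv_mem' := by
            intro x hx
            refine ⟨inv_mem hx.1, ?_⟩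
            rw [← mul_inv_rev, hx.2, inv_one] }
      haveI hCn : ((Subgroup.center L).map L.subtype).Normal := inferInstance
      have hWn : W.Normal := ⟨fun w hw g => ⟨hCn.conj_mem w hw.1 g, by
        calc g * w * g⁻¹ * (g * w * g⁻¹) = g * (w * w) * g⁻¹ := by group
          _ = 1 := by rw [hw.2]; group⟩⟩
      have hcW : (c : G) ∈ W := ⟨⟨c, hc, rfl⟩, by
        have := congrArg Subtype.val (pow_orderOf_eq_one c)
        rw [hc2, SubmonoidClass.coe_pow, pow_two] at this
        exact this⟩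
      have hWeq : W = L := by
        refine ((lt_or_eq_of_le (fun w hw => (Subgroup.map_subtype_le _) hw.1 : W ≤ L)).resolve_left
          fun hlt => hLmin W ⟨hWn, ?_⟩ hlt)
        have h1 := Subgroup.orderOf_dvd_natCard W hcW
        rwa [Subgroup.orderOf_coe, hc2] at h1
      rw [← hWeq]
      refine hle2a W fun w => ⟨1, Subtype.ext ?_⟩
      rw [SubmonoidClass.coe_pow, pow_one, pow_two]
      exact w.2.2
    · refine le_trans ?_ (Nat.le_add_right _ _)
      set X := (Subgroup.centralizer ({x} : Set L)) with hX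
      set K := X.normalCore.map L.subtype with hK
      have hKL : K ≤ L := Subgroup.map_subtype_le _
      have hKlt : X.normalCore ≠ ⊤ := fun h => hx1 (Subgroup.index_eq_one.2
        (top_le_iff.1 (h.ge.trans X.normalCore_le)))
      have hKidx : X.normalCore.index ≤ (2 * n ^ 2).factorial := by
        rw [Subgroup.normalCore_eq_ker, Subgroup.index_ker]
        refine le_trans (Subgroup.card_le_card_group _) ?_
        rw [Nat.card_perm, ← Subgroup.index]
        exact Nat.factorial_le hxb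
      haveI : (K.subgroupOf L).Normal := by
        rw [hK, Subgroup.subgroupOf, Subgroup.comap_map_eq_self_of_injective L.subtype_injective]
        infer_instance
      have hrel : K.relIndex L ≤ (2 * n ^ 2).factorial := by
        rwa [Subgroup.relIndex, hK, Subgroup.subgroupOf,
          Subgroup.comap_map_eq_self_of_injective L.subtype_injective]
      -- conjugates
      haveI : Fintype (G ⧸ L) := Fintype.ofFinite _
      let J : G ⧸ L → Subgroup G := fun q => K.map (MulAut.conj q.out).toMonoidHom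
      have hJ : ∀ (g : G), K.map (MulAut.conj g).toMonoidHom = J (g : G ⧸ L) := by
        have hconjK : ∀ l ∈ L, ∀ k ∈ K, l * k * l⁻¹ ∈ K := by
          intro l hl k hk
          rw [hK] at hk ⊢
          obtain ⟨k', hk', rfl⟩ := hk
          exact ⟨⟨l, hl⟩ * k' * ⟨l, hl⟩⁻¹,
            Subgroup.Normal.conj_mem inferInstance _ hk' _, rfl⟩
        have hmove : ∀ g g' : G, g⁻¹ * g' ∈ L →
            K.map (MulAut.conj g').toMonoidHom ≤ K.map (MulAut.conj g).toMonoidHom := by
          rintro g g' hl _ ⟨k, hk, rfl⟩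
          refine ⟨(g⁻¹ * g') * k * (g⁻¹ * g')⁻¹, hconjK _ hl _ hk, ?_⟩
          simp only [MulEquiv.coe_toMonoidHom, MulAut.conj_apply]
          group
        intro g
        have h1 : g⁻¹ * (g : G ⧸ L).out ∈ L := QuotientGroup.eq.1 (QuotientGroup.out_eq' _).symm
        exact le_antisymm (hmove _ _ (by simpa using L.inv_mem h1)) (hmove _ _ h1)
      let K' : Subgroup G := ⨅ q, J q
      have hK'n : K'.Normal := ⟨fun k hk g => by
        simp only [K', Subgroup.mem_iInf] at hk ⊢
        intro q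
        have h1 := hk ((g⁻¹ * q.out : G) : G ⧸ L)
        rw [← hJ] at h1
        obtain ⟨k', hk', hkk⟩ := h1
        refine ⟨k', hk', ?_⟩
        rw [← hkk]
        simp only [MulEquiv.coe_toMonoidHom, MulAut.conj_apply]
        group⟩
      have hK'le : K' ≤ K := by
        refine (iInf_le J ((1 : G) : G ⧸ L)).trans ?_
        rw [← hJ]
        rintro _ ⟨k, hk, rfl⟩
        simpa using hk
      have hK'lt : K' < L := lt_of_le_of_ne (hK'le.trans hKL) fun h => hKlt (by
        refine Subgroup.map_injective L.subtype_injective ?_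
        rw [← hK, ← MonoidHom.range_eq_map, Subgroup.range_subtype]
        exact le_antisymm hKL (h.ge.trans hK'le))
      have hK'odd : ¬ 2 ∣ Nat.card K' := fun h => hLmin K' ⟨hK'n, h⟩ hK'lt
      have hKbound := hodd K' hK'n hK'odd
      have hidx' : K'.relIndex L ≤ (2 * n ^ 2).factorial ^ (2 ^ a * n) := by
        refine le_trans (Subgroup.relIndex_iInf_le J) ?_
        refine le_trans (Finset.prod_le_pow_card _ _ ((2 * n ^ 2).factorial) fun q _ => ?_) ?_
        · simp only [J]
          have hLq : L.map (MulAut.conj q.out).toMonoidHom = L :=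
            le_antisymm (by rintro _ ⟨l, hl, rfl⟩; exact hLn.conj_mem l hl _)
              fun l hl => ⟨q.out⁻¹ * l * q.out, by simpa using hLn.conj_mem l hl q.out⁻¹,
                by simp [mul_assoc]⟩
          have h1 := Subgroup.relIndex_map_map_of_injective K L
            (f := (MulAut.conj q.out).toMonoidHom) (MulAut.conj q.out).injective
          rw [hLq] at h1
          rw [h1]
          exact hrel
        · refine Nat.pow_le_pow_right (Nat.factorial_pos _) ?_
          rw [Finset.card_univ, ← Nat.card_eq_fintype_card]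
          exact hidx
      rw [← Subgroup.relIndex_mul_relIndex (⊥ : Subgroup G) K' L bot_le hK'lt.le |>.trans
        (Subgroup.relIndex_bot_left L), Subgroup.relIndex_bot_left, mul_comm]
      exact Nat.mul_le_mul hidx' hKbound
  calc Nat.card G = L.index * Nat.card L := (Subgroup.index_mul_card L).symm
    _ ≤ _ := Nat.mul_le_mul hidx hLcard

end Elementary

/-! ### Deficiency classes -/

variable {G : Type u} [Group G] [Finite G] {M : Ideal AlgInt} [M.IsPrime]

/-- Passing to the quotient by a central subgroup of order two lowers the class. -/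
theorem deficiency_quotient (hM : IsPModular 2 M) {r : ℕ}
    (h : ∀ B : Set (IrrCharacter G), IsPBlock M B → B ≠ principalBlock M G →
      blockDefect 2 B < r + 1) (Z : Subgroup G) [Z.Normal] (hZ : Nat.card Z = 2)
    (hZc : Z ≤ Subgroup.center G) (Bbar : Set (IrrCharacter (G ⧸ Z))) (hBbar : IsPBlock M Bbar)
    (hne : Bbar ≠ principalBlock M (G ⧸ Z)) : blockDefect 2 Bbar < r := by
  haveI := Fact.mk Nat.prime_two
  have hZp : IsPGroup 2 Z := IsPGroup.of_card (n := 1) (by rw [hZ, pow_one])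
  have hsup : Z ⊔ Subgroup.centralizer (Z : Set G) = ⊤ := by
    refine top_le_iff.1 (le_trans ?_ le_sup_right)
    intro g _
    exact Subgroup.mem_centralizer_iff.2 fun z hz => (Subgroup.mem_center_iff.1 (hZc hz) g).symm
  obtain ⟨χ, hχ⟩ := isPBlock_nonempty hBbar
  have hB := isPBlock_blockOf (M := M) (Chars.inflate Z χ)
  have hsub : ∀ ψ ∈ Bbar, Chars.inflate Z ψ ∈ blockOf M (Chars.inflate Z χ : G → ℂ) := fun ψ hψ =>
    mem_blockOf.2 (BlockUnion.sameBlock_inflate Z (sameBlock_of_mem hBbar hχ hψ))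
  have hBne : blockOf M (Chars.inflate Z χ : G → ℂ) ≠ principalBlock M G := by
    intro he
    have h1 : Chars.inflate Z χ ∈ principalBlock M G := he ▸ mem_blockOf_self _
    exact hne (isPBlock_eq_of_mem hBbar (isPBlock_blockOf (Chars.trivialIrr (G ⧸ Z))) hχ
      ((BrauerMap.inflate_mem_principalBlock_iff hM hZp hsup χ).1 h1))
  obtain ⟨Dbar, hDbar⟩ := exists_isDefectGroup (p := 2) hBbar
  obtain ⟨P, hP, hle⟩ := BlockUnion.exists_defectGroup_map_ge Z hM hBbar hB hsub hDbar
  have hZP : Z ≤ P := normal_le_defectGroup hM hZp hB hP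
  have hcard : Nat.card (P.map (QuotientGroup.mk' Z)) * 2 = Nat.card P := by
    have h1 := Subgroup.card_map_dvd (f := QuotientGroup.mk' Z) (H := P)
    have h2 : Nat.card (P.map (QuotientGroup.mk' Z)) = Z.relIndex P := by
      rw [← Subgroup.relIndex_bot_left, ← QuotientGroup.map_mk'_self Z,
        Subgroup.relIndex_map_map, QuotientGroup.ker_mk', sup_idem, sup_eq_left.2 hZP]
    rw [h2, ← hZ, mul_comm, ← Subgroup.relIndex_bot_left, ← Subgroup.relIndex_bot_left,
      Subgroup.relIndex_mul_relIndex _ _ _ bot_le hZP]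
  have h3 := h _ hB hBne
  rw [card_defectGroup hM hB hP] at hcard
  have h4 := Subgroup.card_le_of_le hle
  rw [card_defectGroup hM hBbar hDbar] at h4
  have h5 : 2 ^ (blockDefect 2 Bbar + 1) ≤ 2 ^ blockDefect 2 (blockOf M (Chars.inflate Z χ : G → ℂ)) := by
    rw [pow_succ, ← hcard]
    exact Nat.mul_le_mul_right _ h4
  have h6 := (Nat.pow_le_pow_iff_right (by norm_num : 1 < 2)).1 h5
  omega

/-- The bound. -/
theorem exists_bound (r : ℕ) : ∀ a : ℕ, ∃ N : ℕ, ∀ (G : Type u) [Group G] [Finite G]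
    (M : Ideal AlgInt), IsPModular 2 M → (Nat.card G).factorization 2 ≤ a →
    (∀ B : Set (IrrCharacter G), IsPBlock M B → B ≠ principalBlock M G → blockDefect 2 B < r) →
    (∃ E : Subgroup G, (∀ x ∈ E, ∀ y ∈ E, x * y = y * x) ∧ (∀ x ∈ E, x * x = 1) ∧
      Nat.card E = 2 ^ (r + 1)) → Nat.card G ≤ N := by
  haveI := Fact.mk Nat.prime_two
  induction r with
  | zero =>
    intro a
    obtain ⟨N, hN⟩ :=
      BrauerFeit.exists_bound_card_of_classNumber.{u} ((2 ^ a) ^ 2 / 4 + 1)
    refine ⟨N, fun G _ _ M hM hA hone _ => hN G ?_⟩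
    classical
    haveI := Fintype.ofFinite G
    haveI := isPModular_isPrime hM
    rw [← Chars.card_irrCharacter]
    have hB : IsPBlock M (principalBlock M G) := isPBlock_blockOf (Chars.trivialIrr G)
    have hall : ∀ χ : IrrCharacter G, χ ∈ principalBlock M G := fun χ => by
      by_contra hχ
      refine Nat.not_lt_zero _ (hone _ (isPBlock_blockOf χ) fun he => hχ ?_)
      rw [← he]
      exact mem_blockOf_self χ
    refine le_trans (Nat.card_congr (Equiv.subtypeUnivEquiv hall).symm).le ?_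
    refine le_trans (BrauerFeit.card_le hM (BrauerFeit.regOrth hM) (BrauerFeit.regGen 2) hB) ?_
    gcongr
    · norm_num
    · exact le_trans (Nat.sub_le _ _) hA
  | succ r ih =>
    intro a
    obtain ⟨N, hN⟩ := ih a
    refine ⟨2 ^ a * (2 * N) *
      ((2 * (2 * N) ^ 2).factorial ^ (2 ^ a * (2 * N)) * (2 * N) ^ 4 + 2 ^ a),
      fun G _ _ M hM hA hdef hE => ?_⟩
    haveI := isPModular_isPrime hM
    obtain ⟨E, hEab, hE2, hEc⟩ := hE
    refine card_le_of_centralizers hA hEab hE2 ?_ fun z hz hzE => ?_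
    · rw [hEc, show 4 = 2 ^ 2 by norm_num]
      exact Nat.pow_le_pow_right (by norm_num) (by omega)
    let C := Subgroup.centralizer ({z} : Set G)
    have hdefC : ∀ B : Set (IrrCharacter C), IsPBlock M B → B ≠ principalBlock M C →
        blockDefect 2 B < r + 1 := fun B hB hne =>
      BrauerPairs.deficiency_down hM hdef (y := z) ⟨1, by rw [hz, pow_one]⟩ rfl B hB hne
    let zC : C := ⟨z, Subgroup.mem_centralizer_singleton_iff.2 rfl⟩
    let Z : Subgroup C := Subgroup.zpowers zC
    have hzC : zC ∈ Subgroup.center C := Subgroup.mem_center_iff.2 fun c =>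
      Subtype.ext (Subgroup.mem_centralizer_singleton_iff.1 c.2)
    have hZc : Z ≤ Subgroup.center C := (Subgroup.zpowers_le).2 hzC
    haveI : Z.Normal := ⟨fun w hw c => by
      rw [Subgroup.mem_center_iff.1 (hZc hw) c, mul_inv_cancel_right]
      exact hw⟩
    have hZ : Nat.card Z = 2 := by
      rw [Nat.card_zpowers, ← Subgroup.orderOf_coe]; exact hz
    have hA' : (Nat.card (C ⧸ Z)).factorization 2 ≤ a := by
      refine le_trans ?_ hA
      exact (Nat.factorization_le_iff_dvd Nat.card_pos.ne' Nat.card_pos.ne').2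
        ((Subgroup.card_quotient_dvd_card Z).trans (Subgroup.card_subgroup_dvd_card C)) 2
    have hEC : E ≤ C := fun e he => Subgroup.mem_centralizer_singleton_iff.2 (hzE e he).symm
    set E₁ := (E.subgroupOf C).map (QuotientGroup.mk' Z) with hE₁
    have hE₁2 : ∀ x ∈ E₁, x * x = 1 := by
      rintro _ ⟨e, he, rfl⟩
      rw [← map_mul, show e * e = 1 from Subtype.ext (hE2 _ he), map_one]
    have hE₁ab : ∀ x ∈ E₁, ∀ y ∈ E₁, x * y = y * x := by
      rintro _ ⟨e, he, rfl⟩ _ ⟨f, hf, rfl⟩
      rw [← map_mul, ← map_mul, show e * f = f * e from Subtype.ext (hEab _ he _ hf)]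
    have hE₁c : 2 ^ (r + 1) ≤ Nat.card E₁ := by
      have h1 : Nat.card (E.subgroupOf C) ≤ Nat.card E₁ * 2 := by
        refine card_le_mul_of_fibre (fun e : E.subgroupOf C =>
          (⟨QuotientGroup.mk' Z e.1, e.1, e.2, rfl⟩ : E₁)) 2 fun b => ?_
        refine le_trans ?_ hZ.le
        rcases isEmpty_or_nonempty {e : E.subgroupOf C //
          (⟨QuotientGroup.mk' Z e.1, e.1, e.2, rfl⟩ : E₁) = b} with hh | ⟨⟨g₀⟩⟩
        · rw [Nat.card_of_isEmpty]; exact Nat.zero_le _
        refine Nat.card_le_card_of_injective (fun g => ⟨(g₀.1.1)⁻¹ * g.1.1, ?_⟩) ?_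
        · exact QuotientGroup.eq.1 ((congrArg Subtype.val g₀.2).trans (congrArg Subtype.val g.2).symm)
        · intro g g' h
          exact Subtype.ext (Subtype.ext (mul_left_cancel (congrArg Subtype.val h)))
      rw [Nat.card_congr (Subgroup.subgroupOfEquivOfLe hEC).toEquiv, hEc, pow_succ 2 (r + 1)] at h1
      exact Nat.le_of_mul_le_mul_right h1 (by norm_num)
    have hE₁p : IsPGroup 2 E₁ := fun x => ⟨1, Subtype.ext (by
      rw [SubmonoidClass.coe_pow, pow_one, pow_two]; exact hE₁2 _ x.2)⟩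
    obtain ⟨k, hk⟩ := IsPGroup.iff_card.1 hE₁p
    rw [hk, Nat.pow_le_pow_iff_right (by norm_num : 1 < 2)] at hE₁c
    obtain ⟨E₂, hE₂⟩ := Sylow.exists_subgroup_card_pow_prime (G := E₁) 2 (n := r + 1)
      (hk ▸ pow_dvd_pow 2 hE₁c)
    have hquot := hN (C ⧸ Z) M hM hA' (deficiency_quotient hM hdefC Z hZ hZc)
      ⟨E₂.map E₁.subtype, fun x hx y hy => hE₁ab x (Subgroup.map_subtype_le _ hx) y
        (Subgroup.map_subtype_le _ hy), fun x hx => hE₁2 x (Subgroup.map_subtype_le _ hx),
        by rw [Subgroup.card_map_of_injective E₁.subtype_injective, hE₂]⟩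
    show Nat.card C ≤ 2 * N
    rw [Subgroup.card_eq_card_quotient_mul_card_subgroup Z, hZ, mul_comm]
    exact Nat.mul_le_mul_left _ hquot

end Cfsg.Agent.Lib.Blocks.DefBound
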