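import Cfsg.Agent.Lib.Blocks.NilKernel
import Cfsg.Agent.Lib.Blocks.ClassAlgebra

/-!
# A nonzero central idempotent has a nonzero sum over some coset of a given p-subgroup
-/

set_option autoImplicit false
set_option linter.unusedSectionVars false

namespace Cfsg.Agent.Lib.Blocks.IdemCoset

open MonoidAlgebra
open Cfsg.Agent.Lib.Blocks

variable {H : Type*} [Group H] [Finite H] {k : Type*} [CommRing k] {p : ℕ} [Fact p.Prime] [CharP k p]

theorem coeff_single_one_mul (g y : H) (x : MonoidAlgebra k H) :
    (single g (1 : k) * x).coeff y = x.coeff (g⁻¹ * y) := by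
  rw [coeff_single_mul_eq_mul_coeff (g⁻¹ * y) fun m _ => by rw [eq_inv_mul_iff_mul_eq], one_mul]

/-- A `p`-subgroup fixes a nonzero element in the right ideal of a nonzero idempotent. -/
theorem exists_fixed_ne_zero (S : Subgroup H) (hS : IsPGroup p S) {e : MonoidAlgebra k H}
    (he : e * e = e) (hne : e ≠ 0) :
    ∃ a : MonoidAlgebra k H, a ≠ 0 ∧ a * e = a ∧ ∀ u : S, single (u : H) (1 : k) * a = a := by
  classical
  cases nonempty_fintype H
  let Φ : (S → ZMod p) →+ MonoidAlgebra k H :=
    { toFun := fun n => ∑ u : S, (ZMod.castHom dvd_rfl k (n u)) • (single (u : H) (1 : k) * e)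
      map_zero' := by simp
      map_add' := fun n m => by simp [add_smul, Finset.sum_add_distrib] }
  have hmul : ∀ (v : S) (n : S → ZMod p),
      single (v : H) (1 : k) * Φ n = Φ fun u => n (v⁻¹ * u) := by
    intro v n
    show single (v : H) (1 : k) * ∑ u : S, _ = ∑ u : S, _
    rw [Finset.mul_sum]
    refine Fintype.sum_equiv (Equiv.mulLeft v) _ _ fun u => ?_
    simp [mul_smul_comm, ← mul_assoc, single_mul_single]
  have hright : ∀ n : S → ZMod p, Φ n * e = Φ n := by
    intro n
    show (∑ u : S, _) * e = ∑ u : S, _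
    rw [Finset.sum_mul]
    exact Finset.sum_congr rfl fun u _ => by rw [smul_mul_assoc, mul_assoc, he]
  let A := Φ.range
  letI act : MulAction S A :=
    { smul := fun v a => ⟨single (v : H) (1 : k) * a.1, by
        obtain ⟨n, hn⟩ := a.2
        exact ⟨_, (hn ▸ hmul v n).symm⟩⟩
      one_smul := fun a => Subtype.ext (show single ((1 : S) : H) (1 : k) * a.1 = a.1 by
        rw [Subgroup.coe_one, ← one_def, one_mul])
      mul_smul := fun v w a => Subtype.ext (show single ((v * w : S) : H) (1 : k) * a.1 =
          single (v : H) (1 : k) * (single (w : H) (1 : k) * a.1) by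
        rw [← mul_assoc, single_mul_single, one_mul, Subgroup.coe_mul]) }
  haveI : Finite A := Finite.of_surjective Φ.rangeRestrict Φ.rangeRestrict_surjective
  have hmem : e ∈ A := ⟨Pi.single 1 1, by
    show ∑ u : S, _ = e
    rw [Finset.sum_eq_single (1 : S) (fun u _ hu => by simp [Pi.single_eq_of_ne hu]) (by simp)]
    simp [← one_def]⟩
  have hdvd : p ∣ Nat.card A := by
    have h1 : Nat.card A ∣ Nat.card (S → ZMod p) :=
      AddSubgroup.card_dvd_of_surjective Φ.rangeRestrict Φ.rangeRestrict_surjective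
    rw [Nat.card_fun, Nat.card_zmod] at h1
    obtain ⟨i, -, hi⟩ := (Nat.dvd_prime_pow (Fact.out : p.Prime)).1 h1
    rcases Nat.eq_zero_or_pos i with rfl | hi0
    · haveI : Subsingleton A := (Nat.card_eq_one_iff_unique.1 (by rw [hi, pow_zero])).1
      exact absurd (congrArg Subtype.val (Subsingleton.elim (⟨e, hmem⟩ : A) 0)) hne
    · rw [hi]; exact dvd_pow_self _ hi0.ne'
  have h0 : (0 : A) ∈ MulAction.fixedPoints S A := fun v =>
    Subtype.ext (show single (v : H) (1 : k) * (0 : MonoidAlgebra k H) = 0 by rw [mul_zero])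
  obtain ⟨⟨a, n, rfl⟩, hfix, hne'⟩ := hS.exists_fixed_point_of_prime_dvd_card_of_fixed_point A hdvd h0
  exact ⟨Φ n, fun h => hne' (Subtype.ext h.symm), hright n, fun u => congrArg Subtype.val (hfix u)⟩

/-- The main lemma: the translates of `S` cannot all have coefficient sum zero. -/
theorem exists_coset_sum_ne_zero (S : Subgroup H) [Fintype S] (hS : IsPGroup p S)
    {e : MonoidAlgebra k H} (hc : e ∈ Subalgebra.center k (MonoidAlgebra k H))
    (he : e * e = e) (hne : e ≠ 0) : ∃ y : H, ∑ u : S, e.coeff ((u : H) * y) ≠ 0 := by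
  classical
  cases nonempty_fintype H
  by_contra! hall
  obtain ⟨a, ha0, hae, hfix⟩ := exists_fixed_ne_zero S hS he hne
  refine ha0 ?_
  have hinv : ∀ (u : S) (g : H), a.coeff ((u : H) * g) = a.coeff g := by
    intro u g
    conv_lhs => rw [← hfix u]
    rw [coeff_single_one_mul, inv_mul_cancel_left]
  set s : MonoidAlgebra k H := ∑ u : S, single (u : H) (1 : k) with hs
  have hse : s * e = 0 := by
    ext y
    simp only [hs, Finset.sum_mul, coeff_sum, Finsupp.coe_finsetSum, Finset.sum_apply,
      coeff_single_one_mul, coeff_zero, Finsupp.coe_zero, Pi.zero_apply]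
    rw [← hall y]
    exact Fintype.sum_equiv (Equiv.inv S) _ _ fun u => by simp
  let r : H → H := fun g => (Quotient.mk (QuotientGroup.rightRel S) g).out
  have hr : ∀ g, g * (r g)⁻¹ ∈ S := fun g =>
    QuotientGroup.rightRel_apply.1 (Quotient.exact (Quotient.out_eq (Quotient.mk (QuotientGroup.rightRel S) g)))
  set b : MonoidAlgebra k H := ofFun fun g => if g = r g then a.coeff g else 0 with hb
  have hab : a = s * b := by
    ext g
    simp only [hs, Finset.sum_mul, coeff_sum, Finsupp.coe_finsetSum, Finset.sum_apply,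
      coeff_single_one_mul, hb, coeff_ofFun]
    have hru : ∀ u : S, r ((u : H)⁻¹ * g) = r g := fun u =>
      congrArg Quotient.out (Quotient.sound (QuotientGroup.rightRel_apply.2 (by simp)))
    simp only [hru]
    rw [Finset.sum_eq_single (⟨g * (r g)⁻¹, hr g⟩ : S)]
    · simp only [mul_inv_rev, inv_inv, inv_mul_cancel_right, if_true]
      have := hinv ⟨g * (r g)⁻¹, hr g⟩ (r g)
      simpa using this
    · intro u _ hu
      rw [if_neg]
      intro h
      exact hu (Subtype.ext (show (u : H) = g * (r g)⁻¹ by rw [← h]; group))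
    · simp
  rw [← hae, hab, mul_assoc, Subalgebra.mem_center_iff.1 hc b, ← mul_assoc, hse, zero_mul]

end Cfsg.Agent.Lib.Blocks.IdemCoset
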