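import Mathlib
import Cfsg.Agent.Lib.Blocks.DefectProps

/-!
# Knörr's criterion for characters of defect zero
-/

set_option autoImplicit false

namespace Cfsg.Agent.Lib.Blocks

open Cfsg MonoidAlgebra

universe u

variable {G : Type u} [Group G] [Finite G] {p : ℕ} [Fact p.Prime] {M : Ideal AlgInt} [M.IsPrime]

/-- The sum of the elements with `x ^ n = 1`, in the centre over the local ring. -/
noncomputable def powKerSum (M : Ideal AlgInt) [M.IsPrime] (n : ℕ) : RCenter M G :=
  ⟨ofFun fun x : G => open Classical in if x ^ n = 1 then (1 : localRing M) else 0, by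
    classical
    rw [mem_center_iff]
    intro g h
    simp only [coeff_ofFun, conj_pow, conj_eq_one_iff]⟩

open Classical in
theorem coeff_powKerSum (n : ℕ) (x : G) :
    ((powKerSum M n : RCenter M G) : MonoidAlgebra (localRing M) G).coeff x =
      if x ^ n = 1 then 1 else 0 := by
  simp only [powKerSum, coeff_ofFun]

theorem omegaBar_powKerSum_eq_one (χ : IrrCharacter G)
    (hvan : ∀ g : G, orderOf g = p → (χ : G → ℂ) g = 0) :
    omegaBar M χ (powKerSum M p) = 1 := by
  classical
  cases nonempty_fintype G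
  have hne := Chars.irr_apply_one_ne_zero χ
  have : omegaR M χ (powKerSum M p) = 1 := by
    refine Subtype.ext ?_
    rw [coe_omegaR, omega_eq_sum]
    simp only [coeff_mapRingHom, coeff_powKerSum, Subring.coe_subtype]
    rw [Finset.sum_eq_single 1]
    · simp [hne]
    · intro g _ hg
      split_ifs with h
      · rw [hvan g (orderOf_eq_prime h hg)]
        simp
      · simp
    · simp
  rw [omegaBar_apply, this, map_one]

/-- The truncation of `powKerSum M p` to the centralizer of a subgroup of order `p` is nilpotent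
modulo `M`. -/
theorem isNilpotent_brR_powKerSum (hM : IsPModular p M) {Q : Subgroup G} (hQ : Nat.card Q = p) :
    IsNilpotent (toF M (Subgroup.centralizer (Q : Set G))
      (brR M Q (Subgroup.centralizer (Q : Set G)) (Subgroup.centralizer_le_normalizer _)
        (powKerSum M p) : MonoidAlgebra (localRing M) (Subgroup.centralizer (Q : Set G)))) := by
  classical
  set H := Subgroup.centralizer (Q : Set G)
  haveI := charP_residue hM
  haveI : IsMulCommutative Q := by
    haveI := isCyclic_of_prime_card hQ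
    exact IsCyclic.isMulCommutative
  have hQH : Q ≤ H := fun a ha => Subgroup.mem_centralizer_iff.2 fun b hb =>
    congrArg Subtype.val (IsMulCommutative.is_comm.comm (⟨b, hb⟩ : Q) ⟨a, ha⟩)
  set N : Subgroup H := Q.subgroupOf H
  have hNc : ∀ a ∈ N, ∀ b : H, a * b = b * a := fun a ha b =>
    Subtype.ext (Subgroup.mem_centralizer_iff.1 b.2 _ ha)
  haveI : N.Normal := ⟨fun a ha b => by rw [← hNc a ha b, mul_inv_cancel_right]; exact ha⟩
  have hNcard : Nat.card N = p := by
    rw [Nat.card_congr (Subgroup.subgroupOfEquivOfLe hQH).toEquiv, hQ]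
  refine isNilpotent_of_map_eq_zero N
    (IsPGroup.iff_card.2 ⟨1, by rw [hNcard, pow_one]⟩) ?_
  cases nonempty_fintype H
  refine MonoidAlgebra.ext (Finsupp.ext fun t => ?_)
  have hcoeff : ∀ x : H, (toF M H (brR M Q H (Subgroup.centralizer_le_normalizer _)
      (powKerSum M p) : MonoidAlgebra (localRing M) H)).coeff x =
        if x ^ p = 1 then 1 else 0 := by
    intro x
    simp only [coeff_mapRingHom, coe_brR, coeff_trunc, coeff_powKerSum,
      ← Subgroup.coe_pow, OneMemClass.coe_eq_one]
    split_ifs with h1 h2 <;> first | exact absurd x.2 h1 | simp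
  rw [show (mapDomainRingHom (Residue M) (QuotientGroup.mk' N) _ : MonoidAlgebra (Residue M) _) =
    MonoidAlgebra.mapDomain (QuotientGroup.mk' N) _ from rfl, coeff_mapDomain_eq_sum]
  refine (Finset.sum_congr rfl fun x _ =>
    ite_congr rfl (fun _ => hcoeff x) fun _ => rfl).trans ?_
  simp only [coeff_zero, Finsupp.coe_zero, Pi.zero_apply, ← ite_and]
  rw [← Finset.sum_filter, Finset.sum_const, nsmul_one, CharP.cast_eq_zero_iff (Residue M) p]
  set s := Finset.univ.filter (fun x : H => QuotientGroup.mk' N x = t ∧ x ^ p = 1)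
  rcases s.eq_empty_or_nonempty with hs | ⟨x₀, hx₀⟩
  · simp [hs]
  · obtain ⟨hx₀t, hx₀p⟩ := (Finset.mem_filter.1 hx₀).2
    have hset : s = Finset.univ.filter (fun x : H => x₀⁻¹ * x ∈ N) := by
      ext x
      simp only [s, Finset.mem_filter, Finset.mem_univ, true_and, ← hx₀t]
      rw [QuotientGroup.mk'_eq_mk']
      constructor
      · rintro ⟨⟨a, ha, rfl⟩, -⟩
        simpa [mul_assoc] using inv_mem ha
      · intro hx
        refine ⟨⟨(x₀⁻¹ * x)⁻¹, inv_mem hx, by simp [mul_assoc]⟩, ?_⟩
        have hcm : Commute x₀ (x₀⁻¹ * x) := (hNc _ hx x₀).symm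
        have hap : (x₀⁻¹ * x) ^ p = 1 := by
          have := pow_card_eq_one' (G := N) (x := ⟨_, hx⟩)
          rw [hNcard] at this
          exact congrArg Subtype.val this
        calc x ^ p = (x₀ * (x₀⁻¹ * x)) ^ p := by rw [mul_inv_cancel_left]
          _ = 1 := by rw [hcm.mul_pow, hx₀p, hap, one_mul]
    rw [hset, ← Fintype.card_subtype, ← Nat.card_eq_fintype_card]
    rw [show Nat.card {x : H // x₀⁻¹ * x ∈ N} = Nat.card N from
      Nat.card_congr ((Equiv.mulLeft x₀⁻¹).subtypeEquiv fun x => Iff.rfl), hNcard]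

/-- A character vanishing on all elements of order `p` has defect zero. -/
theorem blockDefect_eq_zero_of_vanishing (hM : IsPModular p M) (χ : IrrCharacter G)
    (hvan : ∀ g : G, orderOf g = p → (χ : G → ℂ) g = 0) :
    blockDefect p (blockOf M (χ : G → ℂ)) = 0 := by
  have hB := isPBlock_blockOf (M := M) χ
  obtain ⟨D, hD⟩ := exists_isDefectGroup (p := p) hB
  rw [blockDefect_eq_zero_iff hM hB hD]
  by_contra hne
  obtain ⟨g, hg, hgD⟩ := isDefectGroup_iff.1 hD
  haveI := Fintype.ofFinite D
  obtain ⟨n, hn⟩ := IsPGroup.iff_card.1 hgD.1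
  have hdvd : p ∣ Nat.card D := by
    rcases n with _ | n
    · exact absurd (Subgroup.eq_bot_of_card_eq D (by rw [hn, pow_zero])) hne
    · exact ⟨p ^ n, by rw [hn, pow_succ']⟩
  obtain ⟨u, hu⟩ := exists_prime_orderOf_dvd_card' p hdvd
  set Q := Subgroup.zpowers (u : G)
  have hQ : Nat.card Q = p := by rw [Nat.card_zpowers, Subgroup.orderOf_coe, hu]
  have hQp : IsPGroup p Q := IsPGroup.iff_card.2 ⟨1, by rw [hQ, pow_one]⟩
  have hgQ : g ∈ Subgroup.centralizer (Q : Set G) :=
    le_centralizer_singleton_iff.1 (((Subgroup.zpowers_le.2 u.2)).trans hgD.2.1)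
  obtain ⟨ξ, hξ⟩ := exists_brPhi_eq hM hQp le_rfl (Subgroup.centralizer_le_normalizer _) hB hgQ
    hg.2.1 (mem_blockOf_self χ)
  have h1 : omegaBar M χ (powKerSum M p) = 0 := by
    rw [← hξ, brPhi_apply]
    exact omegaBar_eq_zero_of_isNilpotent ξ (isNilpotent_brR_powKerSum hM hQ)
  rw [omegaBar_powKerSum_eq_one χ hvan] at h1
  exact one_ne_zero h1

end Cfsg.Agent.Lib.Blocks
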