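import Cfsg.Agent.Lib.Chars.Ops
import Cfsg.Agent.Lib.Blocks.ClassAlgebra
import Cfsg.Agent.Lib.Chars.Induced
import Cfsg.Agent.Lib.Chars.Integral

/-!
# No degree of a group with the class data of M22 is divisible by 128
-/

set_option autoImplicit false

namespace Cfsg.Agent.Lib.Blocks.M22

open Cfsg.Agent.Lib.Chars
open scoped ComplexConjugate

universe u

variable {G : Type u} [Group G] [Finite G]

/-- The sum of a character over the powers of an element is a multiple of the order. -/
theorem exists_sum_pow_eq (x : G) {φ : G → ℂ} (h : IsCharacter G φ) :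
    ∃ m : ℕ, ∑ j ∈ Finset.range (orderOf x), φ (x ^ j) = (orderOf x : ℂ) * m := by
  classical
  cases nonempty_fintype G
  set C := Subgroup.zpowers x
  have := Fintype.ofFinite C
  obtain ⟨m, hm⟩ := isCharacter_classInner_nat (isCharacter_restrict C h)
    (irr_isCharacter (trivialIrr C))
  refine ⟨m, ?_⟩
  have hne : (Nat.card C : ℂ) ≠ 0 := Nat.cast_ne_zero.mpr Nat.card_pos.ne'
  simp only [classInner, trivialIrr_apply, map_one, mul_one] at hm
  rw [inv_mul_eq_iff_eq_mul₀ hne, Nat.card_zpowers] at hm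
  rw [← hm, ← Fin.sum_univ_eq_sum_range]
  exact Fintype.sum_equiv (finEquivZPowers (isOfFinOrder_of_finite x)) _ _ fun j => rfl

/-- The common value on a class containing all the non-trivial powers of `x`. -/
theorem five_value (χ : IrrCharacter G) {d : ℕ} (hd : (χ : G → ℂ) 1 = d) (x : G)
    (hx : orderOf x = 5) (hc : IsConj x (x ^ 2)) :
    ∃ a : ℤ, (χ : G → ℂ) x = a ∧ (5 : ℤ) ∣ (d : ℤ) + 4 * a := by
  have hcf : ∀ {u v : G}, IsConj u v → (χ : G → ℂ) u = (χ : G → ℂ) v := fun {u v} h => by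
    obtain ⟨c, rfl⟩ := isConj_iff.1 h
    exact (irr_isClassFunction χ u c).symm
  obtain ⟨m, hm⟩ := exists_sum_pow_eq x (irr_isCharacter χ)
  have h2 : IsConj (x ^ 2) (x ^ 4) := by have := hc.pow 2; rwa [← pow_mul] at this
  have h3 : IsConj (x ^ 4) (x ^ 3) := by
    have := h2.pow 2
    rw [← pow_mul, ← pow_mul, show (4 : ℕ) * 2 = 5 + 3 from rfl, pow_add, ← hx, pow_orderOf_eq_one,
      one_mul] at this
    exact this
  rw [hx] at hm
  simp only [Finset.sum_range_succ, Finset.sum_range_zero, pow_zero, pow_one, zero_add, hd,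
    ← hcf ((hc.trans h2).trans h3), ← hcf (hc.trans h2), ← hcf hc] at hm
  obtain ⟨a, ha⟩ := exists_int_eq_of_isIntegral (irr_isIntegral χ x) ((5 * (m : ℚ) - d) / 4) (by
    push_cast at hm ⊢
    linear_combination (1 / 4 : ℂ) * hm)
  refine ⟨a, ha, m, ?_⟩
  rw [ha] at hm
  have : ((d : ℤ) + 4 * a : ℂ) = ((5 * m : ℤ) : ℂ) := by push_cast at hm ⊢; linear_combination hm
  exact_mod_cast this

/-- When the non-trivial powers of `x` form the class of `x` and its inverse class, the value at
`x` has integral trace and norm. -/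
theorem half_value (χ : IrrCharacter G) {d : ℕ} (hd : (χ : G → ℂ) 1 = d) (x : G) (q : ℕ)
    (hx : orderOf x = q) (k : ℕ) (hk : 0 < k)
    (hsum : ∀ φ : G → ℂ, IsClassFunction G φ →
      ∑ j ∈ Finset.range q, φ (x ^ j) = φ 1 + k * (φ x + φ x⁻¹)) :
    ∃ s N : ℤ, (χ : G → ℂ) x + (χ : G → ℂ) x⁻¹ = s ∧
      Complex.normSq ((χ : G → ℂ) x) = N ∧ (q : ℤ) ∣ (d : ℤ) + k * s ∧
      (q : ℤ) ∣ (d : ℤ) ^ 2 + 2 * k * N ∧ s ^ 2 ≤ 4 * N := by
  have hk0 : (k : ℂ) ≠ 0 := Nat.cast_ne_zero.mpr hk.ne'
  obtain ⟨m, hm⟩ := exists_sum_pow_eq x (irr_isCharacter χ)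
  rw [hx, hsum _ (irr_isClassFunction χ), hd] at hm
  have hint := irr_isIntegral χ
  obtain ⟨s, hs⟩ := exists_int_eq_of_isIntegral ((hint x).add (hint x⁻¹))
    (((q : ℚ) * m - d) / k) (by
      push_cast
      rw [eq_div_iff hk0]
      linear_combination hm)
  set ψ : G → ℂ := (χ : G → ℂ) * fun g => conj ((χ : G → ℂ) g) with hψ
  have hψc : IsCharacter G ψ := isCharacter_mul (irr_isCharacter χ) (isCharacter_star (irr_isCharacter χ))
  obtain ⟨m', hm'⟩ := exists_sum_pow_eq x hψc
  have hval : ∀ g, ψ g = (Complex.normSq ((χ : G → ℂ) g) : ℂ) := fun g => by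
    rw [hψ, Pi.mul_apply, Complex.mul_conj]
  have hsym : Complex.normSq ((χ : G → ℂ) x⁻¹) = Complex.normSq ((χ : G → ℂ) x) := by
    rw [irr_inv, Complex.normSq_conj]
  rw [hx, hsum _ (isClassFunction_of_isCharacter hψc), hval, hval, hval, hd, hsym,
    Complex.normSq_natCast] at hm'
  obtain ⟨N, hN⟩ := exists_int_eq_of_isIntegral
    (show IsIntegral ℤ (Complex.normSq ((χ : G → ℂ) x) : ℂ) by
      rw [← Complex.mul_conj]; exact (hint x).mul (isIntegral_conj (hint x)))
    (((q : ℚ) * m' - (d : ℚ) ^ 2) / (2 * k)) (by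
      push_cast at hm' ⊢
      rw [eq_div_iff (mul_ne_zero two_ne_zero hk0)]
      linear_combination hm')
  have hN' : Complex.normSq ((χ : G → ℂ) x) = (N : ℝ) := by exact_mod_cast hN
  refine ⟨s, N, hs, hN', ⟨m, ?_⟩, ⟨m', ?_⟩, ?_⟩
  · have : (((d : ℤ) + k * s : ℤ) : ℂ) = ((q * m : ℤ) : ℂ) := by
      push_cast
      rw [← hs]
      linear_combination hm
    exact_mod_cast this
  · have : (((d : ℤ) ^ 2 + 2 * k * N : ℤ) : ℂ) = ((q * m' : ℤ) : ℂ) := by
      push_cast at hm' ⊢
      rw [← hN]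
      linear_combination hm'
    exact_mod_cast this
  · have h1 : (s : ℝ) = 2 * ((χ : G → ℂ) x).re := by
      have := congrArg Complex.re hs
      rw [Complex.add_re, irr_inv, Complex.conj_re, Complex.intCast_re] at this
      linarith
    have h2 : (s : ℝ) ^ 2 ≤ 4 * (N : ℝ) := by
      rw [← hN', h1, Complex.normSq_apply]
      nlinarith [mul_self_nonneg ((χ : G → ℂ) x).im]
    exact_mod_cast h2

/-- The class of `x` as a finite set. -/
noncomputable def classFinset [Fintype G] (x : G) : Finset G :=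
  @Finset.filter G (fun y => IsConj x y) (Classical.decPred _) Finset.univ

theorem mem_classFinset [Fintype G] {x y : G} : y ∈ classFinset x ↔ IsConj x y := by
  classical
  simp [classFinset]

theorem card_classFinset [Fintype G] (x : G) {q : ℕ} (hx : orderOf x = q)
    (hc : Nat.card (Subgroup.centralizer ({x} : Set G)) ≤ q) :
    (classFinset x).card * q = Nat.card G := by
  have hle : Subgroup.zpowers x ≤ Subgroup.centralizer ({x} : Set G) := by
    rw [Subgroup.zpowers_le, Subgroup.mem_centralizer_singleton_iff]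
  have h1 := Subgroup.card_le_of_le hle
  rw [Nat.card_zpowers, hx] at h1
  have h2 : (classFinset x).card = (Subgroup.centralizer ({x} : Set G)).index := by
    rw [← natCard_isConj, ← Nat.card_eq_finsetCard]
    exact Nat.card_congr (Equiv.subtypeEquivRight fun y => mem_classFinset)
  rw [h2, ← le_antisymm hc h1, mul_comm]
  exact Subgroup.card_mul_index _

theorem orderOf_eq_of_mem [Fintype G] {x y : G} (h : y ∈ classFinset x) : orderOf y = orderOf x := by
  obtain ⟨c, rfl⟩ := isConj_iff.1 (mem_classFinset.1 h)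
  rw [← MulAut.conj_apply]
  exact orderOf_injective (MulAut.conj c).toMonoidHom (MulAut.conj c).injective x

set_option maxHeartbeats 1000000 in
/-- The arithmetic. -/
theorem not_dvd_degree (hcard : Nat.card G = 443520)
    (h5 : ∃ x : G, orderOf x = 5 ∧ IsConj x (x ^ 2) ∧
      Nat.card (Subgroup.centralizer ({x} : Set G)) ≤ 5)
    (h7 : ∃ x : G, orderOf x = 7 ∧ IsConj x (x ^ 2) ∧ ¬ IsConj x x⁻¹ ∧
      Nat.card (Subgroup.centralizer ({x} : Set G)) ≤ 7)
    (h11 : ∃ x : G, orderOf x = 11 ∧ IsConj x (x ^ 3) ∧ ¬ IsConj x x⁻¹ ∧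
      Nat.card (Subgroup.centralizer ({x} : Set G)) ≤ 11)
    (χ : IrrCharacter G) : ¬ 128 ∣ Cfsg.charDegree (χ : G → ℂ) := by
  classical
  cases nonempty_fintype G
  intro h128
  obtain ⟨d, hd0, hd, hdvd⟩ := irr_degree_dvd_card χ
  have hdeg : Cfsg.charDegree (χ : G → ℂ) = d := by simp [Cfsg.charDegree, hd]
  rw [hdeg] at h128
  rw [hcard] at hdvd
  obtain ⟨x5, o5, c5, z5⟩ := h5
  obtain ⟨x7, o7, c7, n7, z7⟩ := h7
  obtain ⟨x11, o11, c11, n11, z11⟩ := h11
  have inv_cent : ∀ x : G, Subgroup.centralizer ({x⁻¹} : Set G) = Subgroup.centralizer {x} := by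
    intro x
    ext g
    rw [Subgroup.mem_centralizer_singleton_iff, Subgroup.mem_centralizer_singleton_iff]
    exact ⟨fun h => by simpa using (show Commute g x⁻¹ from h).inv_right.eq,
      fun h => (show Commute g x from h).inv_right.eq⟩
  have k5 := card_classFinset x5 o5 z5
  have k7 := card_classFinset x7 o7 z7
  have k7' := card_classFinset x7⁻¹ (by rw [orderOf_inv, o7]) (by rw [inv_cent]; exact z7)
  have k11 := card_classFinset x11 o11 z11
  have k11' := card_classFinset x11⁻¹ (by rw [orderOf_inv, o11]) (by rw [inv_cent]; exact z11)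
  rw [hcard] at k5 k7 k7' k11 k11'
  obtain ⟨a, ha, da⟩ := five_value χ hd x5 o5 c5
  have conjpow : ∀ (φ : G → ℂ), IsClassFunction G φ → ∀ u v : G, IsConj u v → φ u = φ v :=
    fun φ hφ u v h => by
      obtain ⟨c, rfl⟩ := isConj_iff.1 h
      exact (hφ u c).symm
  obtain ⟨s, N, hs, hN, ds, dN, hsN⟩ := half_value χ hd x7 7 o7 3 (by norm_num) (fun φ hφ => by
    have e2 := c7
    have e4 : IsConj (x7 ^ 2) (x7 ^ 4) := by have := c7.pow 2; rwa [← pow_mul] at this
    have hi : x7⁻¹ = x7 ^ 6 := inv_eq_of_mul_eq_one_right (by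
      rw [← pow_succ', show (6 : ℕ) + 1 = 7 from rfl, ← o7, pow_orderOf_eq_one])
    have e3 : IsConj (x7 ^ 3) (x7 ^ 6) := by have := c7.pow 3; rwa [← pow_mul] at this
    have e5 : IsConj (x7 ^ 6) (x7 ^ 5) := by
      have := c7.pow 6
      rwa [← pow_mul, show (2 : ℕ) * 6 = 7 + 5 from rfl, pow_add, ← o7, pow_orderOf_eq_one,
        one_mul] at this
    simp only [Finset.sum_range_succ, Finset.sum_range_zero, pow_zero, pow_one, hi]
    rw [← conjpow φ hφ _ _ e5, conjpow φ hφ _ _ e3, ← conjpow φ hφ _ _ (e2.trans e4),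
      ← conjpow φ hφ _ _ e2]
    push_cast
    ring)
  obtain ⟨s', N', hs', hN', ds', dN', hsN'⟩ := half_value χ hd x11 11 o11 5 (by norm_num)
    (fun φ hφ => by
    have red : ∀ i j : ℕ, i % 11 = j → x11 ^ i = x11 ^ j := fun i j h => by
      rw [← h, ← o11, pow_mod_orderOf]
    have e : ∀ i j : ℕ, 3 * i % 11 = j → IsConj (x11 ^ i) (x11 ^ j) := fun i j h => by
      have := c11.pow i
      rwa [← pow_mul, red _ _ h] at this
    have hi : x11⁻¹ = x11 ^ 10 := inv_eq_of_mul_eq_one_right (by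
      rw [← pow_succ', red (10 + 1) 0 rfl, pow_zero])
    have f9 := conjpow φ hφ _ _ (e 3 9 rfl)
    have f5 := conjpow φ hφ _ _ (e 9 5 rfl)
    have f4 := conjpow φ hφ _ _ (e 5 4 rfl)
    have f3 := conjpow φ hφ _ _ (e 1 3 rfl)
    have f8 := conjpow φ hφ _ _ (e 10 8 rfl)
    have f2 := conjpow φ hφ _ _ (e 8 2 rfl)
    have f6 := conjpow φ hφ _ _ (e 2 6 rfl)
    have f7 := conjpow φ hφ _ _ (e 6 7 rfl)
    simp only [Finset.sum_range_succ, Finset.sum_range_zero, pow_zero, pow_one, hi] at *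
    push_cast
    linear_combination (-4 : ℂ) * f3 - 3 * f9 - 2 * f5 - f4 - 4 * f8 - 3 * f2 - 2 * f6 - f7)
  -- the square sum
  have hnot : ∀ {u v : G}, orderOf u ≠ orderOf v → Disjoint (classFinset u) (classFinset v) := by
    intro u v huv
    rw [Finset.disjoint_left]
    intro y hu hv
    exact huv ((orderOf_eq_of_mem hu).symm.trans (orderOf_eq_of_mem hv))
  have hnotinv : ∀ {u : G}, ¬ IsConj u u⁻¹ → Disjoint (classFinset u) (classFinset u⁻¹) := by
    intro u hu
    rw [Finset.disjoint_left]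
    intro y h1 h2
    exact hu ((mem_classFinset.1 h1).trans (mem_classFinset.1 h2).symm)
  set T : Finset G := {1} ∪ classFinset x5 ∪ (classFinset x7 ∪ classFinset x7⁻¹) ∪
    (classFinset x11 ∪ classFinset x11⁻¹) with hT
  have h1mem : ∀ x : G, orderOf x ≠ 1 → (1 : G) ∉ classFinset x := fun x hx hm =>
    hx ((orderOf_eq_of_mem hm).symm.trans orderOf_one)
  have hdisjT : ∀ f : G → ℂ, ∑ y ∈ T, f y = f 1 + ∑ y ∈ classFinset x5, f y +
      (∑ y ∈ classFinset x7, f y + ∑ y ∈ classFinset x7⁻¹, f y) +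
      (∑ y ∈ classFinset x11, f y + ∑ y ∈ classFinset x11⁻¹, f y) := by
    intro f
    rw [hT, Finset.sum_union, Finset.sum_union, Finset.sum_union, Finset.sum_union,
      Finset.sum_union, Finset.sum_singleton]
    · exact hnotinv n11
    · exact hnotinv n7
    · rw [Finset.disjoint_singleton_left]; exact h1mem _ (by omega)
    · simp only [Finset.disjoint_union_left, Finset.disjoint_union_right,
        Finset.disjoint_singleton_left]
      exact ⟨⟨h1mem _ (by omega), hnot (by omega)⟩,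
        ⟨h1mem _ (by rw [orderOf_inv]; omega), hnot (by rw [orderOf_inv]; omega)⟩⟩
    · simp only [Finset.disjoint_union_left, Finset.disjoint_union_right,
        Finset.disjoint_singleton_left]
      refine ⟨⟨⟨h1mem _ (by omega), hnot (by omega)⟩, ⟨hnot (by omega), hnot ?_⟩⟩,
        ⟨⟨h1mem _ ?_, hnot ?_⟩, ⟨hnot ?_, hnot ?_⟩⟩⟩ <;> simp only [orderOf_inv] <;> omega
  have hcl : ∀ x y : G, y ∈ classFinset x → (χ : G → ℂ) y = (χ : G → ℂ) x := fun x y h =>
    (conjpow _ (irr_isClassFunction χ) _ _ (mem_classFinset.1 h)).symm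
  have hconst : ∀ (x : G) (F : ℂ → ℂ), ∑ y ∈ classFinset x, F ((χ : G → ℂ) y)
      = ((classFinset x).card : ℂ) * F ((χ : G → ℂ) x) := fun x F => by
    rw [Finset.sum_congr rfl fun y hy => by rw [hcl x y hy], Finset.sum_const, nsmul_eq_mul]
  have e5 : (classFinset x5).card = 88704 := by omega
  have e7 : (classFinset x7).card = 63360 := by omega
  have e7' : (classFinset x7⁻¹).card = 63360 := by omega
  have e11 : (classFinset x11).card = 40320 := by omega
  have e11' : (classFinset x11⁻¹).card = 40320 := by omega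
  have hnorm : ∑ g : G, Complex.normSq ((χ : G → ℂ) g) = (443520 : ℝ) := by
    apply Complex.ofReal_injective
    have h := classInner_irr_self χ
    rw [classInner, inv_mul_eq_one₀ natCard_ne_zero, hcard] at h
    rw [Complex.ofReal_sum, Finset.sum_congr rfl fun g _ => (Complex.mul_conj ((χ : G → ℂ) g)).symm,
      ← h]
    norm_num
  have hsymN : ∀ x : G, Complex.normSq ((χ : G → ℂ) x⁻¹) = Complex.normSq ((χ : G → ℂ) x) :=
    fun x => by rw [irr_inv, Complex.normSq_conj]
  have hTsum : ∑ y ∈ T, Complex.normSq ((χ : G → ℂ) y) =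
      (((d : ℤ) ^ 2 + 88704 * a ^ 2 + 126720 * N + 80640 * N' : ℤ) : ℝ) := by
    apply Complex.ofReal_injective
    rw [Complex.ofReal_sum, hdisjT fun y => ((Complex.normSq ((χ : G → ℂ) y) : ℝ) : ℂ)]
    simp only [hconst _ fun z => ((Complex.normSq z : ℝ) : ℂ)]
    rw [hd, ha, hsymN, hsymN, hN, hN', e5, e7, e7', e11, e11', Complex.normSq_natCast,
      Complex.normSq_intCast]
    push_cast
    ring
  have hle := Finset.sum_le_sum_of_subset_of_nonneg (Finset.subset_univ T)
    (fun g _ _ => Complex.normSq_nonneg ((χ : G → ℂ) g))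
  rw [hTsum, hnorm] at hle
  have hle' : (d : ℤ) ^ 2 + 88704 * a ^ 2 + 126720 * N + 80640 * N' ≤ 443520 := by
    exact_mod_cast hle
  have ha2 : 0 ≤ a ^ 2 := sq_nonneg a
  have hNn : 0 ≤ N := by nlinarith [sq_nonneg s]
  have hNn' : 0 ≤ N' := by nlinarith [sq_nonneg s']
  obtain ⟨k, rfl⟩ := h128
  have hk : k ≤ 5 := by
    by_contra hk
    have : (768 : ℤ) ≤ ((128 * k : ℕ) : ℤ) := by omega
    nlinarith
  have hk' : k = 1 ∨ k = 3 ∨ k = 5 := by
    interval_cases k <;> first | omega | (exfalso; revert hdvd; norm_num)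
  rcases hk' with rfl | rfl | rfl
  · push_cast at hle' da dN dN'
    have : a ≠ 0 := by rintro rfl; omega
    have : a ≠ 1 := by rintro rfl; omega
    have : a ≠ -1 := by rintro rfl; omega
    have : (4 : ℤ) ≤ a ^ 2 := by
      rcases (show a ≤ -2 ∨ 2 ≤ a by omega) with h | h <;> nlinarith
    have : N ≠ 0 := by rintro rfl; omega
    omega
  · push_cast at hle' da dN dN' ds ds'
    have h1 : a ≠ 0 := by rintro rfl; omega
    have : 0 < a ^ 2 := by positivity
    have : N ≠ 0 := by rintro rfl; omega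
    have : N' ≠ 0 := by rintro rfl; omega
    have hN1 : N = 1 := by omega
    have hN1' : N' = 1 := by omega
    have ha1 : a ^ 2 = 1 := by omega
    have hsb : -2 ≤ s ∧ s ≤ 2 := ⟨by nlinarith, by nlinarith⟩
    have hsb' : -2 ≤ s' ∧ s' ≤ 2 := ⟨by nlinarith, by nlinarith⟩
    have hs2 : s = -2 := by omega
    have hs2' : s' = -2 := by omega
    have ha' : a = -1 := by
      rcases sq_eq_one_iff.1 ha1 with e | e
      · subst e; omega
      · exact e
    -- everything outside `T` vanishes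
    have hzero : ∀ g ∉ T, (χ : G → ℂ) g = 0 := by
      intro g hg
      have h := Finset.sum_le_sum_of_subset_of_nonneg (Finset.subset_univ (insert g T))
        (fun y _ _ => Complex.normSq_nonneg ((χ : G → ℂ) y))
      rw [Finset.sum_insert hg, hTsum, hnorm, hN1, hN1', ha1] at h
      push_cast at h
      exact Complex.normSq_eq_zero.1 (le_antisymm (by linarith) (Complex.normSq_nonneg _))
    have hχne : χ ≠ trivialIrr G := by
      intro he
      have h1 : (χ : G → ℂ) 1 = 1 := by rw [he, trivialIrr_apply]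
      rw [hd] at h1
      norm_num at h1
    have horth := classInner_irr_of_ne hχne
    simp only [classInner, trivialIrr_apply, map_one, mul_one] at horth
    rw [mul_eq_zero, or_iff_right (inv_ne_zero natCard_ne_zero),
      ← Finset.sum_subset (Finset.subset_univ T) (fun g _ hg => hzero g hg),
      hdisjT fun y => (χ : G → ℂ) y] at horth
    simp only [hconst _ fun z => z] at horth
    rw [hd, ha, e5, e7, e7', e11, e11', ha'] at horth
    have : ((384 : ℂ) + 88704 * (-1) + 63360 * (s : ℂ) + 40320 * (s' : ℂ)) = 0 := by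
      rw [← hs, ← hs']
      push_cast at horth ⊢
      linear_combination horth
    rw [hs2, hs2'] at this
    norm_num at this
  · push_cast at hle' dN'
    have : N' ≠ 0 := by rintro rfl; omega
    omega

end Cfsg.Agent.Lib.Blocks.M22
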