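import Cfsg.Agent.Lib.Blocks.OneBlockLocal
import Cfsg.Agent.Lib.Blocks.M22Degrees
import Cfsg.Agent.Lib.Compute.Mathieu.ClassesM22

/-!
# The certified M22 has a single 2-block
-/

set_option autoImplicit false

namespace Cfsg.Agent.Lib.Blocks.M22

open Cfsg Cfsg.Agent.Lib.Compute.Mathieu

theorem sameBlock (H : Subgroup (Equiv.Perm Cfsg.GolayPt)) (hH : H = m22Group) (M : Ideal AlgInt)
    (hM : IsPModular 2 M) (χ ψ : IrrCharacter H) : SameBlock M (χ : H → ℂ) (ψ : H → ℂ) := by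
  subst hH
  haveI : Fact (Nat.Prime 2) := ⟨Nat.prime_two⟩
  haveI := hM.2.1.isPrime
  obtain ⟨z, hz, hfuse, Q, hQn, hQp, hQc⟩ := m22_involution
  refine sameBlock_of_centralizer_element hM z hz
    (fun ξ η => sameBlock_of_centralizer_le hM Q hQp hQc ξ η) hfuse (fun B hB h0 => ?_) χ ψ
  obtain ⟨θ, hθ⟩ := isPBlock_nonempty hB
  refine not_dvd_degree card_m22 m22_el5 m22_el7 m22_el11 θ ?_
  have h7 : (Nat.card m22Group).factorization 2 = 7 := by
    rw [card_m22, show (443520 : ℕ) = 2 ^ 7 * 3465 by norm_num,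
      Nat.factorization_mul (by norm_num) (by norm_num), Nat.Prime.factorization_pow Nat.prime_two]
    simp [Nat.factorization_eq_zero_of_not_dvd (by norm_num : ¬ 2 ∣ 3465)]
  have hle : sInf ((fun χ : IrrCharacter m22Group => (charDegree (χ : m22Group → ℂ)).factorization 2) '' B)
      ≤ (charDegree (θ : m22Group → ℂ)).factorization 2 := Nat.sInf_le ⟨θ, hθ, rfl⟩
  rw [blockDefect, h7] at h0
  have h8 : 7 ≤ (charDegree (θ : m22Group → ℂ)).factorization 2 := by omega
  exact (pow_dvd_pow 2 h8).trans (Nat.ordProj_dvd _ 2)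

end Cfsg.Agent.Lib.Blocks.M22
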