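import Cfsg.Agent.Lib.BrauerPairs.InertiaCount
import Cfsg.Agent.Lib.BrauerFeit.Bounds
import Cfsg.Agent.Lib.BrauerFeit.RegGen
import Cfsg.Agent.Lib.Blocks.DefectTwo
import Cfsg.Agent.Lib.KGV.CycInt
import Mathlib

/-!
# Contributions of a major subsection
-/

set_option autoImplicit false
set_option linter.unusedSectionVars false

namespace Cfsg.Agent.Lib.Blocks.Major

open Cfsg
open Cfsg.Agent.Lib
open Cfsg.Agent.Lib.Blocks
open Cfsg.Agent.Lib.BrauerFeit (regCoef)
open Cfsg.Agent.Lib.KGV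
open scoped ComplexConjugate

universe u

variable {G : Type u} [Group G] [Finite G] {M : Ideal AlgInt} [M.IsPrime] {p : ℕ}

theorem ratio_pow (ξ : IrrCharacter G) {z : G} (hz : z ∈ Subgroup.center G) (j : ℕ) :
    ((ξ : G → ℂ) z / (ξ : G → ℂ) 1) ^ j = (ξ : G → ℂ) (z ^ j) / (ξ : G → ℂ) 1 := by
  induction j with
  | zero => simp [Chars.irr_apply_one_ne_zero ξ]
  | succ j ih =>
    rw [pow_succ', ih, pow_succ', DefectTwo.irr_central_mul ξ hz, mul_div_assoc]

variable [Fact p.Prime]

theorem residue_eq_one_of_pow (hM : IsPModular p M) {a : localRing M} {k : ℕ}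
    (h : a ^ p ^ k = 1) : residue M a = 1 := by
  haveI := charP_residue hM
  have h1 : (residue M a) ^ p ^ k = 1 := by rw [← map_pow, h, map_one]
  have h2 : (residue M a - 1) ^ p ^ k = 0 := by
    rw [sub_pow_char_pow, h1, one_pow, sub_self]
  exact sub_eq_zero.1 (eq_zero_of_pow_eq_zero h2)

/-- The ratio by which a central `p`-element acts. -/
theorem ratio_mem (hM : IsPModular p M) (ξ : IrrCharacter G) {z : G}
    (hz : z ∈ Subgroup.center G) {k : ℕ} (hzk : z ^ p ^ k = 1) :
    (ξ : G → ℂ) z / (ξ : G → ℂ) 1 ∈ cycInt ∧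
      ∃ h : (ξ : G → ℂ) z / (ξ : G → ℂ) 1 ∈ localRing M, residue M ⟨_, h⟩ = 1 := by
  have h1 : ((ξ : G → ℂ) z / (ξ : G → ℂ) 1) ^ p ^ k = 1 := by
    rw [ratio_pow ξ hz, hzk, div_self (Chars.irr_apply_one_ne_zero ξ)]
  have hc := root_mem_cycInt (pow_pos (Fact.out : p.Prime).pos k) h1
  refine ⟨hc, isIntegral_mem_localRing (isIntegral_of_mem_cycInt hc), ?_⟩
  exact residue_eq_one_of_pow hM (k := k) (Subtype.ext (by simpa using h1))

open Classical in
/-- The count: `k(B) ^ 2 ≤ p ^ (2 d) * l(b)`. -/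
theorem main (hM : IsPModular p M) {B : Set (IrrCharacter G)} {d : ℕ}
    (hd : blockDefect p B = d) (hh : ∀ χ ∈ B, blockHeight p B (χ : G → ℂ) = 0) {y : G}
    (hy : ∃ k : ℕ, orderOf y = p ^ k)
    {b : Set (IrrCharacter (Subgroup.centralizer (Subgroup.zpowers y : Set G)))}
    (hind : IsInducedBlock M (Subgroup.centralizer (Subgroup.zpowers y : Set G)) b B)
    (hbd : blockDefect p b = d) :
    Nat.card B ^ 2 ≤ p ^ (2 * d) * blockRank p b := by
  classical
  cases nonempty_fintype G
  haveI : Fintype (Subgroup.centralizer (Subgroup.zpowers y : Set G)) := Fintype.ofFinite _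
  have hb : IsPBlock M b := hind.1
  have hB : IsPBlock M B := hind.2.1
  obtain ⟨k₀, hk₀⟩ := hy
  have hQp : IsPGroup p (Subgroup.zpowers y) := IsPGroup.of_card (by rw [Nat.card_zpowers, hk₀])
  have hBe : IsBrauerPairOf p M B (Subgroup.zpowers y) b :=
    BrauerPairs.isBrauerPairOf_of_isInducedBlock hQp hind
  have hyC : ∀ c : (Subgroup.centralizer (Subgroup.zpowers y : Set G)), Commute y (c : G) :=
    fun c => Subgroup.mem_centralizer_iff.1 c.2 y (Subgroup.mem_zpowers y)
  have hymem : y ∈ (Subgroup.centralizer (Subgroup.zpowers y : Set G)) :=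
    Subgroup.mem_centralizer_iff.2 fun z hz => by
      obtain ⟨i, rfl⟩ := hz
      exact ((Commute.refl y).zpow_left i).eq
  let yC : (Subgroup.centralizer (Subgroup.zpowers y : Set G)) := ⟨y, hymem⟩
  have hyCc : yC ∈ Subgroup.center (Subgroup.centralizer (Subgroup.zpowers y : Set G)) :=
    Subgroup.mem_center_iff.2 fun c => Subtype.ext (hyC c).eq.symm
  have hyCk : yC ^ p ^ k₀ = 1 :=
    Subtype.ext (by push_cast; rw [← hk₀]; exact pow_orderOf_eq_one y)
  -- multiplicities
  let res : IrrCharacter G → (Subgroup.centralizer (Subgroup.zpowers y : Set G)) → ℂ :=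
    fun χ c => (χ : G → ℂ) (c : G)
  let θ : IrrCharacter G → (Subgroup.centralizer (Subgroup.zpowers y : Set G)) → ℂ :=
    fun χ c => (χ : G → ℂ) (y * (c : G))
  have hres : ∀ χ, IsCharacter _ (res χ) := fun χ => by
    obtain ⟨n, ρ, hρ⟩ := Chars.irr_isCharacter χ
    exact ⟨n, ρ.comp (Subgroup.subtype _), by
      funext c
      show _ = (χ : G → ℂ) (c : G)
      rw [← hρ]
      rfl⟩
  have hn : ∀ χ (ξ : IrrCharacter (Subgroup.centralizer (Subgroup.zpowers y : Set G))),
      ∃ n : ℕ, classInner (res χ) ξ.1 = n := fun χ ξ =>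
    Chars.isCharacter_classInner_nat (hres χ) (Chars.irr_isCharacter ξ)
  choose n hn using hn
  let μ : IrrCharacter (Subgroup.centralizer (Subgroup.zpowers y : Set G)) → ℂ :=
    fun ξ => ξ.1 yC / ξ.1 1
  let m : IrrCharacter G →
      IrrCharacter (Subgroup.centralizer (Subgroup.zpowers y : Set G)) → ℂ :=
    fun χ ξ => classInner (θ χ) ξ.1
  have hm : ∀ χ ξ, m χ ξ = n χ ξ * μ ξ := by
    intro χ ξ
    rw [← hn χ ξ]
    simp only [m, classInner, θ, res, μ]
    rw [← Equiv.sum_comp (Equiv.mulLeft yC⁻¹), mul_assoc ((Nat.card _ : ℂ)⁻¹), Finset.sum_mul]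
    congr 1
    refine Finset.sum_congr rfl fun c _ => ?_
    rw [Equiv.coe_mulLeft, Subgroup.coe_mul, Subgroup.coe_inv,
      show y * (y⁻¹ * (c : G)) = c from mul_inv_cancel_left y c,
      DefectTwo.irr_central_mul ξ (Subgroup.inv_mem _ hyCc), map_mul, map_div₀, Chars.irr_inv,
      Complex.conj_conj, ← Chars.irr_inv ξ 1, inv_one]
    ring
  -- regular pairings
  have hgen := BrauerFeit.regGen (G := (Subgroup.centralizer (Subgroup.zpowers y : Set G))) p
  choose Z hZ _ using fun (ξ : b) (η : IrrCharacter (Subgroup.centralizer (Subgroup.zpowers y : Set G))) =>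
    BrauerFeit.exists_int_defect_mul_regCoef hM hgen (B := b) ξ.2 η
  rw [hbd] at hZ
  -- the contributions
  let D : IrrCharacter G → (Subgroup.centralizer (Subgroup.zpowers y : Set G)) → ℂ :=
    fun χ => blockPart b (θ χ)
  have hD : ∀ χ s, D χ s = ∑ ξ ∈ b.toFinset, m χ ξ * ξ.1 s := by
    intro χ s
    simp only [D, blockPart, m]
    rw [finsum_mem_eq_toFinset_sum, Subsingleton.elim (Fintype.ofFinite _) ‹Fintype
      (Subgroup.centralizer (Subgroup.zpowers y : Set G))›]
  have hDinv : ∀ (χ : IrrCharacter G) s, blockPart b (fun c : (Subgroup.centralizer (Subgroup.zpowers y : Set G)) =>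
      (χ : G → ℂ) (y⁻¹ * (c : G))) s⁻¹ = conj (D χ s) := by
    intro χ s
    rw [hD, map_sum]
    simp only [blockPart]
    rw [finsum_mem_eq_toFinset_sum, Subsingleton.elim (Fintype.ofFinite _) ‹Fintype
      (Subgroup.centralizer (Subgroup.zpowers y : Set G))›]
    refine Finset.sum_congr rfl fun ξ _ => ?_
    rw [map_mul, Chars.irr_inv]
    congr 1
    simp only [m, classInner, θ, map_mul, map_inv₀, Complex.conj_natCast, map_sum]
    rw [← Equiv.sum_comp (Equiv.inv _)]
    congr 1
    refine Finset.sum_congr rfl fun c _ => ?_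
    rw [Equiv.inv_apply, Subgroup.coe_inv, Chars.irr_inv, Complex.conj_conj,
      ← Chars.irr_inv χ, show (y * (c : G))⁻¹ = y⁻¹ * (c : G)⁻¹ from by
        rw [← mul_inv_rev, (hyC c).eq]]
  let cc : IrrCharacter G → IrrCharacter G → ℂ := fun χ ψ =>
    (Nat.card (Subgroup.centralizer (Subgroup.zpowers y : Set G)) : ℂ)⁻¹ *
      ∑ s, pRegularPart p (D χ) s * conj (D ψ s)
  have hcc : ∀ χ ψ, cc χ ψ = ∑ ξ ∈ b.toFinset, ∑ η ∈ b.toFinset,
      m χ ξ * conj (m ψ η) * regCoef p ξ η := by
    intro χ ψ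
    have h1 : ∀ s, pRegularPart p (D χ) s * conj (D ψ s) =
        ∑ ξ ∈ b.toFinset, ∑ η ∈ b.toFinset,
          m χ ξ * conj (m ψ η) * (pRegularPart p ξ.1 s * conj (η.1 s)) := by
      intro s
      rw [BrauerFeit.pRegularPart_apply]
      by_cases hs : p ∣ orderOf s
      · simp [hs, BrauerFeit.pRegularPart_apply]
      · simp only [if_neg hs, BrauerFeit.pRegularPart_apply, hD, map_sum, map_mul,
          Finset.sum_mul, Finset.mul_sum]
        rw [Finset.sum_comm]
        exact Finset.sum_congr rfl fun ξ _ => Finset.sum_congr rfl fun η _ => by ring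
    simp only [cc, h1, regCoef, classInner, Finset.mul_sum]
    rw [Finset.sum_comm]
    refine Finset.sum_congr rfl fun ξ _ => ?_
    rw [Finset.sum_comm]
    exact Finset.sum_congr rfl fun η _ => Finset.sum_congr rfl fun s _ => by ring
  have hrank : ∑ χ ∈ B.toFinset, cc χ χ = (blockRank p b : ℂ) := by
    have h := BrauerPairs.sum_contrib_eq_rank hM ⟨k₀, hk₀⟩ hBe
    rw [finsum_mem_eq_toFinset_sum] at h
    simp only [finsum_eq_sum_of_fintype, hDinv] at h
    simp only [cc]
    rw [← Finset.mul_sum]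
    refine (congrArg _ h).trans ?_
    rw [inv_mul_cancel_left₀ (Nat.cast_ne_zero.2 Nat.card_pos.ne')]
  -- reproducing property
  have hrep : ∀ (χ : IrrCharacter G) t, ¬ p ∣ orderOf t →
      (Nat.card (Subgroup.centralizer (Subgroup.zpowers y : Set G)) : ℂ)⁻¹ *
        ∑ s, pRegularPart p (D χ) s * ∑ φ ∈ b.toFinset, φ.1 t * conj (φ.1 s) =
      D χ t := by
    intro χ t ht
    have h1 : D χ t = blockPart b (D χ) t := by
      conv_rhs => simp only [blockPart]
      rw [hD, finsum_mem_eq_toFinset_sum, Subsingleton.elim (Fintype.ofFinite _) ‹Fintype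
        (Subgroup.centralizer (Subgroup.zpowers y : Set G))›]
      refine Finset.sum_congr rfl fun ξ hξ => ?_
      congr 1
      rw [show D χ = ∑ η ∈ b.toFinset, m χ η • η.1 from funext fun s => by
        rw [hD, Finset.sum_apply]; rfl, Chars.classInner_sum_left]
      simp only [Chars.classInner_smul_left, Chars.classInner_irr, mul_ite, mul_one, mul_zero,
        Finset.sum_ite_eq', if_pos hξ]
    rw [h1, Sections.blockPart_eq_sum_regular hM hb _ ht, Finset.mul_sum]
    refine Finset.sum_congr rfl fun s _ => ?_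
    rw [Sections.ker, finsum_mem_eq_toFinset_sum]
    rw [Finset.sum_congr rfl fun φ (_ : φ ∈ b.toFinset) =>
      mul_comm (conj (φ.1 s)) (φ.1 t)]
    ring
  have hidem : ∀ χ, ∑ ψ ∈ B.toFinset, cc χ ψ * conj (cc χ ψ) = cc χ χ := by
    intro χ
    have hterm : ∀ ψ, cc χ ψ * conj (cc χ ψ) =
        ∑ s, ∑ t, (Nat.card (Subgroup.centralizer (Subgroup.zpowers y : Set G)) : ℂ)⁻¹ ^ 2 *
          pRegularPart p (D χ) s * conj (pRegularPart p (D χ) t) * (D ψ t * conj (D ψ s)) := by
      intro ψ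
      simp only [cc, map_mul, map_sum, map_inv₀, Complex.conj_natCast, Complex.conj_conj,
        Finset.mul_sum, Finset.sum_mul]
      rw [Finset.sum_comm]
      exact Finset.sum_congr rfl fun s _ => Finset.sum_congr rfl fun t _ => by ring
    simp only [hterm]
    rw [Finset.sum_comm]
    simp only [Finset.sum_comm (s := B.toFinset)]
    simp only [← Finset.mul_sum]
    rw [Finset.sum_comm]
    simp only [cc, Finset.mul_sum]
    refine Finset.sum_congr rfl fun t _ => ?_
    by_cases ht : p ∣ orderOf t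
    · simp [BrauerFeit.pRegularPart_apply, ht]
    have hct : conj (pRegularPart p (D χ) t) = conj (D χ t) := by
      rw [BrauerFeit.pRegularPart_apply, if_neg ht]
    rw [BrauerFeit.pRegularPart_apply p (D χ) t, if_neg ht]
    conv_rhs => arg 2; arg 1; rw [← hrep χ t ht]
    simp only [Finset.mul_sum, Finset.sum_mul]
    refine Finset.sum_congr rfl fun s _ => ?_
    by_cases hs : p ∣ orderOf s
    · simp [BrauerFeit.pRegularPart_apply, hs]
    have hk := BrauerPairs.sum_block_contrib hM ⟨k₀, hk₀⟩ hBe ht (t := s⁻¹)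
      (by rwa [orderOf_inv])
    rw [finsum_mem_eq_toFinset_sum, finsum_mem_eq_toFinset_sum] at hk
    simp only [hDinv, Chars.irr_inv] at hk
    simp only [← Finset.mul_sum, ← Finset.sum_mul]
    rw [show ∑ ψ ∈ B.toFinset, D ψ t * conj (D ψ s) =
      ∑ φ ∈ b.toFinset, φ.1 t * conj (φ.1 s) from hk]
    ring
  -- integral contributions
  let a : IrrCharacter G → IrrCharacter G → ℂ := fun χ ψ => (p : ℂ) ^ d * cc χ ψ
  have ha : ∀ χ ψ, a χ ψ = ∑ ξ : b, ∑ η : b, m χ ξ * conj (m ψ η) * (Z ξ η : ℂ) := by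
    intro χ ψ
    simp only [a, hcc, Finset.mul_sum]
    rw [Finset.sum_subtype b.toFinset (fun x => Set.mem_toFinset)]
    refine Finset.sum_congr rfl fun ξ _ => ?_
    rw [Finset.sum_subtype b.toFinset (fun x => Set.mem_toFinset)]
    refine Finset.sum_congr rfl fun η _ => ?_
    rw [← hZ ξ η]
    ring
  have hμ := fun ξ => ratio_mem (M := M) hM ξ hyCc hyCk
  have hmcyc : ∀ χ ξ, m χ ξ ∈ cycInt := fun χ ξ => by
    rw [hm]; exact mul_mem (natCast_mem_cycInt _) (hμ ξ).1
  have hacyc : ∀ χ ψ, a χ ψ ∈ cycInt := fun χ ψ => by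
    rw [ha]
    exact sum_mem fun ξ _ => sum_mem fun η _ =>
      mul_mem (mul_mem (hmcyc _ _) (conj_mem_cycInt (hmcyc _ _))) (intCast_mem _ _)
  -- non-vanishing
  obtain ⟨ξ₀, hξ₀, hξ₀h⟩ := BrauerFeit.exists_height_zero (p := p) (B := b) (isPBlock_nonempty hb)
  set aC := (Nat.card (Subgroup.centralizer (Subgroup.zpowers y : Set G))).factorization p
    with haC
  have hfac : ∀ ξ ∈ b, aC ≤ (charDegree ξ.1).factorization p + d := fun ξ hξ => by
    have := BrauerFeit.factorization_add_defect (p := p) hξ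
    rw [hbd] at this
    omega
  have hfac₀ : (charDegree ξ₀.1).factorization p + d = aC := by
    have := BrauerFeit.factorization_add_defect (p := p) hξ₀
    rw [hbd, hξ₀h, add_zero] at this
    exact this
  have hp := (Fact.out : p.Prime)
  have hpfac : ∀ j : ℕ, (p ^ j).factorization p = j := fun j => by
    rw [hp.factorization_pow, Finsupp.single_eq_same]
  have hu : ∀ ξ ∈ b, (charDegree ξ.1 : ℂ) / ((p ^ (aC - d) : ℕ) : ℂ) ∈ localRing M :=
    fun ξ hξ => natCast_div_mem_localRing hM (pow_ne_zero _ hp.ne_zero)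
      (Or.inl (by rw [hpfac]; have := hfac ξ hξ; omega))
  let U : b → localRing M := fun ξ => ⟨_, hu ξ ξ.2⟩
  have hdeg0 : charDegree ξ₀.1 ≠ 0 := (HeightZero.charDegree_eq ξ₀).2
  obtain ⟨qC, hqC⟩ : ∃ q, Nat.card (Subgroup.centralizer (Subgroup.zpowers y : Set G)) =
      p ^ aC * q := Nat.ordProj_dvd _ p
  have hqC0 : qC ≠ 0 := fun h => Nat.card_pos.ne' (by rw [hqC, h, mul_zero])
  have hqCf : qC.factorization p = 0 := by
    have h1 := congrArg (fun j => j.factorization p) hqC
    simp only [Nat.factorization_mul (pow_ne_zero _ hp.ne_zero) hqC0, Finsupp.add_apply, hpfac,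
      ← haC] at h1
    omega
  have hden : (qC * charDegree ξ₀.1).factorization p = aC - d := by
    rw [Nat.factorization_mul hqC0 hdeg0, Finsupp.add_apply, hqCf]
    omega
  let K : localRing M :=
    ⟨((p ^ (aC - d) : ℕ) : ℂ) / ((qC * charDegree ξ₀.1 : ℕ) : ℂ),
      natCast_div_mem_localRing hM (mul_ne_zero hqC0 hdeg0)
        (Or.inl (by rw [hpfac, hden]))⟩
  have horth := HeightZero.regOrth_holds (G := (Subgroup.centralizer (Subgroup.zpowers y : Set G))) hM
  let π₀ : localRing M := ⟨_, mem_localRing.2 (HeightZero.memLocalRing_regPairing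
    HeightZero.centralLocal_holds p ξ₀ (Chars.irr_isCharacter ξ₀))⟩
  have hπ₀ : residue M π₀ ≠ 0 := by
    rw [ne_eq, residue_eq_zero_iff]
    refine HeightZero.not_memLocalIdeal_regPairing hM horth ?_ (sameBlock_refl _)
    rwa [← eq_blockOf_of_mem hb hξ₀]
  have hK : residue M K ≠ 0 := by
    intro h0
    have h2 : ((qC * charDegree ξ₀.1 : ℕ) : ℂ) / ((p ^ (aC - d) : ℕ) : ℂ) ∈ localRing M :=
      natCast_div_mem_localRing hM (pow_ne_zero _ hp.ne_zero) (Or.inl (by rw [hpfac, hden]))
    have h3 : K * ⟨_, h2⟩ = 1 := Subtype.ext (by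
      show ((p ^ (aC - d) : ℕ) : ℂ) / ((qC * charDegree ξ₀.1 : ℕ) : ℂ) * _ = 1
      have e1 : ((qC * charDegree ξ₀.1 : ℕ) : ℂ) ≠ 0 :=
        Nat.cast_ne_zero.2 (mul_ne_zero hqC0 hdeg0)
      have e2 : ((p ^ (aC - d) : ℕ) : ℂ) ≠ 0 := Nat.cast_ne_zero.2 (pow_ne_zero _ hp.ne_zero)
      field_simp)
    have := congrArg (residue M) h3
    rw [map_mul, h0, zero_mul, map_one] at this
    exact zero_ne_one this
  have hZres : ∀ ξ η : b, residue M ((Z ξ η : ℤ) : localRing M) =
      residue M (U ξ) * residue M (U η) * (residue M K * residue M π₀) := by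
    intro ξ η
    have hP : ∀ ζ ζ' : IrrCharacter (Subgroup.centralizer (Subgroup.zpowers y : Set G)),
        HeightZero.regPairing p ζ.1 ζ'.1 ∈ localRing M := fun ζ ζ' =>
      mem_localRing.2 (HeightZero.memLocalRing_regPairing HeightZero.centralLocal_holds p ζ
        (Chars.irr_isCharacter ζ'))
    have hsame : ∀ (ζ : b), SameBlock M ζ.1.1 ξ₀.1 :=
      fun ζ => sameBlock_of_mem hb ζ.2 hξ₀
    have h1 : residue M (⟨_, hP ξ η⟩ : localRing M) = residue M ⟨_, hP ξ₀ η⟩ :=
      residue_eq_iff.2 (HeightZero.regPairing_congr p (Chars.irr_isCharacter _) (hsame ξ))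
    have h2 : residue M (⟨_, hP η ξ₀⟩ : localRing M) = residue M π₀ :=
      residue_eq_iff.2 (HeightZero.regPairing_congr p (Chars.irr_isCharacter _) (hsame η))
    -- the exact relation
    have e2 : ((p ^ (aC - d) : ℕ) : ℂ) ≠ 0 := Nat.cast_ne_zero.2 (pow_ne_zero _ hp.ne_zero)
    have eq0 : (qC : ℂ) ≠ 0 := Nat.cast_ne_zero.2 hqC0
    have ed0 : (charDegree ξ₀.1 : ℂ) ≠ 0 := Nat.cast_ne_zero.2 hdeg0
    have hpC : (p : ℂ) ≠ 0 := Nat.cast_ne_zero.2 hp.ne_zero
    have hcard : (Nat.card (Subgroup.centralizer (Subgroup.zpowers y : Set G)) : ℂ) =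
        (p : ℂ) ^ d * ((p ^ (aC - d) : ℕ) : ℂ) * qC := by
      rw [hqC]; push_cast
      rw [← pow_add, Nat.add_sub_cancel' (by omega)]
    have hrel : ((Z ξ η : ℤ) : localRing M) * (⟨_, hu ξ₀ hξ₀⟩ : localRing M) *
        ⟨((qC : ℕ) : ℂ), natCast_mem_localRing qC⟩ =
        U ξ * ⟨_, hP ξ η⟩ * ⟨_, hu ξ₀ hξ₀⟩ := by
      refine Subtype.ext ?_
      push_cast
      rw [← hZ ξ η, BrauerFeit.regCoef_eq_regPairing, hcard]
      show _ = (charDegree ξ.1.1 : ℂ) / _ * _ * _
      field_simp
      rw [mul_right_comm]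
      congr!
    have hswap : (⟨_, hu ξ₀ hξ₀⟩ : localRing M) * ⟨_, hP ξ₀ η⟩ = U η * ⟨_, hP η ξ₀⟩ := by
      refine Subtype.ext ?_
      show _ / _ * HeightZero.regPairing p _ _ =
        (charDegree η.1.1 : ℂ) / _ * HeightZero.regPairing p _ _
      rw [HeightZero.regPairing_eq, HeightZero.regPairing_eq,
        HeightZero.regInner_comm p (Chars.irr_isCharacter ξ₀) (Chars.irr_isCharacter _),
        ← (HeightZero.charDegree_eq ξ₀).1, ← (HeightZero.charDegree_eq η.1).1]
      have : (charDegree η.1.1 : ℂ) ≠ 0 :=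
        Nat.cast_ne_zero.2 (HeightZero.charDegree_eq η.1).2
      field_simp
    have hKinv : K * (⟨_, hu ξ₀ hξ₀⟩ : localRing M) *
        ⟨((qC : ℕ) : ℂ), natCast_mem_localRing qC⟩ = 1 := by
      refine Subtype.ext ?_
      show ((p ^ (aC - d) : ℕ) : ℂ) / _ * (_ / _) * _ = 1
      push_cast at e2 ⊢
      field_simp
      exact div_self ed0
    have hfinal : ((Z ξ η : ℤ) : localRing M) = K * (U ξ * ⟨_, hP ξ η⟩ * ⟨_, hu ξ₀ hξ₀⟩) := by
      rw [← hrel]
      calc ((Z ξ η : ℤ) : localRing M) = ((Z ξ η : ℤ) : localRing M) * 1 := (mul_one _).symm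
        _ = _ := by rw [← hKinv]; ring
    rw [hfinal]
    simp only [map_mul]
    rw [h1, mul_assoc (residue M (U ξ)), mul_comm (residue M ⟨_, hP ξ₀ η⟩), ← map_mul (residue M)
      (⟨_, hu ξ₀ hξ₀⟩ : localRing M), hswap, map_mul, h2]
    ring
  -- the degrees
  let v : IrrCharacter G → localRing M := fun χ => ∑ ξ : b, (n χ ξ : localRing M) * U ξ
  have hv : ∀ χ ∈ B, residue M (v χ) ≠ 0 := by
    intro χ hχ h0
    refine BrauerPairs.Inertia.not_memLocalIdeal_sum hM ⟨k₀, hk₀⟩ hind
      (hbd.trans hd.symm) hχ ?_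
    have hsum : ∑ c : (Subgroup.centralizer (Subgroup.zpowers y : Set G)),
        blockCoeff b c * (χ : G → ℂ) (c : G) =
          ((p ^ (aC - d) : ℕ) : ℂ) * (v χ : ℂ) := by
      have hexp : ∀ c : (Subgroup.centralizer (Subgroup.zpowers y : Set G)), (χ : G → ℂ) (c : G) = ∑ ξ, (n χ ξ : ℂ) * ξ.1 c := by
        intro c
        have h := Chars.isClassFunction_apply_eq_sum_classInner
          (Chars.isClassFunction_of_isCharacter (hres χ)) c
        simp only [hn] at h
        exact h
      simp only [hexp, Finset.mul_sum]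
      rw [Finset.sum_comm, AddSubmonoidClass.coe_finset_sum, Finset.mul_sum,
        ← Finset.sum_subset (Finset.subset_univ b.toFinset) ?_,
        Finset.sum_subtype b.toFinset (fun x => Set.mem_toFinset)]
      · refine Finset.sum_congr rfl fun ξ _ => ?_
        have h1 := Covering.sum_blockCoeff_eq_ite b ξ.1
        rw [if_pos ξ.2, ← Finset.sum_div, div_eq_one_iff_eq (Chars.irr_apply_one_ne_zero _),
          ← (HeightZero.charDegree_eq ξ.1).1] at h1
        have e2 : ((p ^ (aC - d) : ℕ) : ℂ) ≠ 0 := Nat.cast_ne_zero.2 (pow_ne_zero _ hp.ne_zero)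
        rw [MulMemClass.coe_mul]
        simp only [show (((n χ ξ : ℕ) : localRing M) : ℂ) = (n χ ξ : ℂ) from map_natCast
          (localRing M).subtype _]
        show _ = _ * ((n χ ξ : ℂ) * ((charDegree ξ.1.1 : ℂ) / _))
        rw [Finset.sum_congr rfl fun c _ => mul_left_comm (blockCoeff b c) (n χ ξ : ℂ)
          (ξ.1.1 c), ← Finset.mul_sum, h1]
        field_simp
      · intro ξ _ hξ
        have h1 := Covering.sum_blockCoeff_eq_ite b ξ
        rw [if_neg (fun h => hξ (Set.mem_toFinset.2 h)), ← Finset.sum_div, div_eq_zero_iff] at h1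
        rw [Finset.sum_congr rfl fun c _ => mul_left_comm (blockCoeff b c) (n χ ξ : ℂ)
          (ξ.1 c), ← Finset.mul_sum, h1.resolve_right (Chars.irr_apply_one_ne_zero _),
          mul_zero]
    rw [hsum]
    have hdegχ := HeightZero.charDegree_eq χ
    have hrat : ((p ^ (aC - d) * (Subgroup.centralizer
        (Subgroup.zpowers y : Set G)).index : ℕ) : ℂ) / (charDegree (χ : G → ℂ) : ℂ) ∈
          localRing M := by
      refine natCast_div_mem_localRing hM hdegχ.2 (Or.inl ?_)
      rw [Nat.factorization_mul (pow_ne_zero _ hp.ne_zero)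
        Subgroup.index_ne_zero_of_finite, Finsupp.add_apply, hpfac]
      have h1 := BrauerFeit.factorization_add_defect (p := p) hχ
      rw [hd, hh χ hχ, add_zero, ← Subgroup.index_mul_card
        (Subgroup.centralizer (Subgroup.zpowers y : Set G)),
        Nat.factorization_mul Subgroup.index_ne_zero_of_finite Nat.card_pos.ne',
        Finsupp.add_apply, ← haC] at h1
      omega
    rw [residue_eq_zero_iff] at h0
    convert memLocalIdeal_mul_right h0 hrat using 1
    rw [← hdegχ.1]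
    push_cast
    ring
  have hane : ∀ χ ∈ B, ∀ ψ ∈ B, a χ ψ ≠ 0 := by
    intro χ hχ ψ hψ h0
    have hmL : ∀ φ ξ, m φ ξ ∈ localRing M := fun φ ξ =>
      isIntegral_mem_localRing (isIntegral_of_mem_cycInt (hmcyc φ ξ))
    have hcmL : ∀ φ ξ, conj (m φ ξ) ∈ localRing M := fun φ ξ =>
      isIntegral_mem_localRing (isIntegral_of_mem_cycInt (conj_mem_cycInt (hmcyc φ ξ)))
    have hm1 : ∀ φ ξ, residue M (⟨_, hmL φ ξ⟩ : localRing M) = (n φ ξ : Residue M) := by
      intro φ ξ
      obtain ⟨hl, hl1⟩ := (hμ ξ).2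
      have e : (⟨_, hmL φ ξ⟩ : localRing M) = (n φ ξ : localRing M) * ⟨_, hl⟩ :=
        Subtype.ext (by
          rw [MulMemClass.coe_mul]
          simp only [show (((n φ ξ : ℕ) : localRing M) : ℂ) = (n φ ξ : ℂ) from map_natCast
            (localRing M).subtype _]
          exact hm φ ξ)
      rw [e, map_mul, hl1, map_natCast, mul_one]
    have hm2 : ∀ φ ξ, residue M (⟨_, hcmL φ ξ⟩ : localRing M) = (n φ ξ : Residue M) := by
      intro φ ξ
      have hk' : yC⁻¹ ^ p ^ k₀ = 1 := by rw [inv_pow, hyCk, inv_one]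
      obtain ⟨hl, hl1⟩ := (ratio_mem (M := M) hM ξ (Subgroup.inv_mem _ hyCc) hk').2
      have e : (⟨_, hcmL φ ξ⟩ : localRing M) = (n φ ξ : localRing M) * ⟨_, hl⟩ :=
        Subtype.ext (by
          rw [MulMemClass.coe_mul]
          simp only [show (((n φ ξ : ℕ) : localRing M) : ℂ) = (n φ ξ : ℂ) from map_natCast
            (localRing M).subtype _]
          show conj (m φ ξ) = _ * (_ / _)
          rw [hm, map_mul, Complex.conj_natCast, map_div₀, Chars.irr_inv ξ yC,
            ← Chars.irr_inv ξ 1, inv_one])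
      rw [e, map_mul, hl1, map_natCast, mul_one]
    have hsum0 : (∑ ξ : b, ∑ η : b, (⟨_, hmL χ ξ⟩ : localRing M) * ⟨_, hcmL ψ η⟩ *
        ((Z ξ η : ℤ) : localRing M)) = 0 := by
      refine Subtype.ext ?_
      rw [← h0.trans (show (0 : ℂ) = ((0 : localRing M) : ℂ) from rfl), ha]
      push_cast
      rfl
    have h1 := congrArg (residue M) hsum0
    simp only [map_sum, map_mul, map_zero, hm1, hm2, hZres] at h1
    have h2 : residue M (v χ) * residue M (v ψ) * (residue M K * residue M π₀) = 0 := by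
      refine Eq.trans ?_ h1
      simp only [v, map_sum, map_mul, map_natCast, Finset.sum_mul, Finset.mul_sum]
      rw [Finset.sum_comm]
      exact Finset.sum_congr rfl fun ξ _ => Finset.sum_congr rfl fun η _ => by ring
    exact mul_ne_zero (mul_ne_zero (hv χ hχ) (hv ψ hψ)) (mul_ne_zero hK hπ₀) h2
  -- the count
  have hmain := card_le_sum_normSq_of_rational (fun x : B × B => a x.1 x.2)
    (fun x => hacyc _ _) (fun x => hane _ x.1.2 _ x.2.2)
    ((p ^ (2 * d) * blockRank p b : ℕ) : ℚ) (by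
      apply Complex.ofReal_injective
      rw [Complex.ofReal_sum]
      simp only [← Complex.mul_conj]
      rw [Fintype.sum_prod_type, Finset.sum_congr rfl fun (χ : B) _ =>
        show ∑ ψ : B, a χ ψ * conj (a χ ψ) = (p : ℂ) ^ (2 * d) * cc χ χ by
          rw [← hidem χ, Finset.mul_sum, Finset.sum_subtype B.toFinset (fun x => Set.mem_toFinset)]
          refine Finset.sum_congr rfl fun ψ _ => ?_
          simp only [a, map_mul, map_pow, Complex.conj_natCast]
          ring]
      rw [← Finset.mul_sum, ← Finset.sum_subtype B.toFinset (fun x => Set.mem_toFinset)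
        (fun χ => cc χ χ), hrank]
      push_cast
      ring)
  rw [Fintype.card_prod, ← Nat.card_eq_fintype_card] at hmain
  rw [sq]
  exact_mod_cast hmain

end Cfsg.Agent.Lib.Blocks.Major
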