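import Cfsg.Agent.Lib.Blocks.OneBlock
import Cfsg.Agent.Lib.Blocks.DefectProps
import Cfsg.Agent.Lib.Blocks.DefectClass

/-!
# One block from the centralizers of elements of order `p`
-/

set_option autoImplicit false

namespace Cfsg.Agent.Lib.Blocks

open Cfsg MonoidAlgebra

universe u

variable {G : Type u} [Group G] [Finite G] {p : ℕ} [Fact p.Prime] {M : Ideal AlgInt} [M.IsPrime]

/-- A group with a normal `p`-subgroup containing its centralizer has a single block. -/
theorem sameBlock_of_centralizer_le (hM : IsPModular p M) (N : Subgroup G) [N.Normal]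
    (hN : IsPGroup p N) (hCN : Subgroup.centralizer (N : Set G) ≤ N) (χ ψ : IrrCharacter G) :
    SameBlock M (χ : G → ℂ) (ψ : G → ℂ) := by
  classical
  intro g
  rw [← omegaBar_eq_iff_of_classSum]
  by_cases hc : g ∈ Subgroup.centralizer (N : Set G)
  · rw [omegaBar_classSumR_eq_index hM N hN χ (hCN hc),
      omegaBar_classSumR_eq_index hM N hN ψ (hCN hc)]
  · have h0 : ∀ θ : IrrCharacter G, omegaBar M θ (classSumR M g) = 0 := fun θ =>
      omegaBar_eq_zero_of_coeff_centralizer hM N hN θ fun x hx => by
        simp only [classSumR, coeff_classSum]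
        rw [if_neg fun h => hc ?_, map_zero]
        obtain ⟨d, rfl⟩ := isConj_iff.1 h
        have hn : (Subgroup.centralizer (N : Set G)).Normal := inferInstance
        simpa [mul_assoc] using hn.conj_mem _ hx d⁻¹
    rw [h0, h0]

/-- If all elements of order `p` are conjugate to `z`, the centralizer of `z` has one block and
no block of the group has defect zero, then the group has one block. -/
theorem sameBlock_of_centralizer_element (hM : IsPModular p M) (z : G) (hz : orderOf z = p)
    (hone : ∀ ξ η : IrrCharacter (Subgroup.centralizer (Subgroup.zpowers z : Set G)),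
      SameBlock M (ξ : Subgroup.centralizer (Subgroup.zpowers z : Set G) → ℂ)
        (η : Subgroup.centralizer (Subgroup.zpowers z : Set G) → ℂ))
    (hfuse : ∀ x : G, orderOf x = p → IsConj x z)
    (hdef : ∀ B : Set (IrrCharacter G), IsPBlock M B → blockDefect p B ≠ 0)
    (χ ψ : IrrCharacter G) : SameBlock M (χ : G → ℂ) (ψ : G → ℂ) := by
  classical
  set P := Subgroup.zpowers z with hP
  have hPp : IsPGroup p P := IsPGroup.of_card (n := 1) (by rw [hP, Nat.card_zpowers, hz, pow_one])
  set H := Subgroup.centralizer (P : Set G) with hH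
  have hHN : H ≤ Subgroup.normalizer (P : Set G) := Subgroup.centralizer_le_normalizer _
  have key : ∀ θ : IrrCharacter G, ∃ ξ : IrrCharacter H,
      brPhi hM hPp le_rfl hHN ξ = omegaBar M θ := by
    intro θ
    have hB := isPBlock_blockOf (M := M) θ
    obtain ⟨D, hD⟩ := exists_isDefectGroup (p := p) hB
    have hne : D ≠ ⊥ := fun h => hdef _ hB ((blockDefect_eq_zero_iff hM hB hD).2 h)
    obtain ⟨g, hg, hgD⟩ := isDefectGroup_iff.1 hD
    obtain ⟨x, hx⟩ : ∃ x : D, orderOf x = p := by
      have : Nontrivial D := (Subgroup.nontrivial_iff_ne_bot D).mpr hne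
      obtain ⟨k, hk⟩ := IsPGroup.iff_card.1 (isPGroup_of_isDefectGroup hD)
      refine exists_prime_orderOf_dvd_card' p ?_
      rw [hk]
      refine dvd_pow_self p fun h0 => ?_
      rw [h0, pow_zero] at hk
      exact (Finite.one_lt_card (α := D)).ne' hk
    obtain ⟨c, hc⟩ := isConj_iff.1 (hfuse x (by rw [Subgroup.orderOf_coe]; exact hx))
    have hgx : g * (x : G) = x * g :=
      (Subgroup.mem_centralizer_iff.1 (le_centralizer_singleton_iff.1 hgD.2.1) x x.2).symm
    refine exists_brPhi_eq hM hPp le_rfl hHN hB (g := c * g * c⁻¹) ?_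
      (by rw [blockCoeff_conj]; exact hg.2.1) (mem_blockOf_self θ)
    rw [Subgroup.mem_centralizer_iff]
    intro w hw
    obtain ⟨i, rfl⟩ := Subgroup.mem_zpowers_iff.1 hw
    rw [← hc]
    have : Commute (c * (x : G) * c⁻¹) (c * g * c⁻¹) := by
      show _ * _ = _ * _
      calc c * (x : G) * c⁻¹ * (c * g * c⁻¹) = c * ((x : G) * g) * c⁻¹ := by group
        _ = c * (g * x) * c⁻¹ := by rw [hgx]
        _ = c * g * c⁻¹ * (c * (x : G) * c⁻¹) := by group
    exact (this.zpow_left i).eq
  obtain ⟨ξ, hξ⟩ := key χ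
  obtain ⟨η, hη⟩ := key ψ
  intro g
  rw [← omegaBar_eq_iff_of_classSum, ← hξ, ← hη, brPhi_apply, brPhi_apply]
  rw [omegaBar_eq_of_sameBlock (hone ξ η)]

end Cfsg.Agent.Lib.Blocks
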