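import Cfsg.Agent.Lib.BrauerPairs.KernelCore
import Cfsg.Agent.Lib.BrauerPairs.Elements
import Mathlib

/-!
# Character values on a section whose local blocks have the `π'`-core in the kernel
-/

set_option autoImplicit false
set_option linter.unusedSectionVars false

namespace Cfsg.Agent.Lib.Blocks.PiSection

open Cfsg
open Cfsg.Agent.Lib

universe u

variable {G : Type u} [Group G] [Finite G] {M : Ideal AlgInt} [M.IsPrime] {p : ℕ} [Fact p.Prime]
  {π : Set ℕ}

open BrauerPairs BrauerPairs.KernelCore in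
/-- The local blocks have the core in the kernel. -/
theorem kerCore_of_induced (hM : IsPModular p M) (hpπ : p ∈ π) {B : Set (IrrCharacter G)}
    {D : Subgroup G} (hBD : IsDefectGroup p M B D)
    {B₁ : Set (IrrCharacter (Subgroup.normalizer (D : Set G)))}
    (hB₁ : IsInducedBlock M (Subgroup.normalizer (D : Set G)) B₁ B)
    (hB₁D : IsDefectGroup p M B₁ (D.subgroupOf (Subgroup.normalizer (D : Set G))))
    (hker : ∀ n : Subgroup.normalizer (D : Set G),
      n ∈ piCore {q | q ∉ π} (Subgroup.normalizer (D : Set G)) → n ∈ blockKer B₁)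
    {Q : Subgroup G} (hQ : IsPGroup p Q) {b : Set (IrrCharacter (Subgroup.centralizer (Q : Set G)))}
    (hind : IsInducedBlock M (Subgroup.centralizer (Q : Set G)) b B) :
    KerCore π (⟨Q, b⟩ : BrauerPairIdx G) := by
  classical
  have hQD := Subgroup.map_subgroupOf_eq_of_le (Subgroup.le_normalizer (H := D))
  have hCD := Subgroup.centralizer_le_normalizer (D : Set G)
  obtain ⟨e₁, he₁⟩ := exists_pair_at_defectGroup hM hB₁.1 hB₁D
  have hk₁ : KerCore π (⟨D.subgroupOf _, e₁⟩ :
      BrauerPairIdx ↥(Subgroup.normalizer (D : Set G))) := by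
    refine kerCore_of_killsOn_piCore ?_ ((killsOn_iff_blockKer hM he₁ _
      fun h => (PiCore.isPiNumber_piCore (π := {q | q ∉ π}) p hM.1 h) hpπ).2
        fun χ hχ n hn => hker n hn χ hχ)
    exact Subgroup.normal_in_normalizer
  have hmax := isMaximal_of_defectGroup hM (isBrauerPairOf_push hQD hCD hM hB₁ he₁) hBD
  have hpair : IsBrauerPairOf p M B Q b := isBrauerPairOf_of_isInducedBlock hQ hind
  obtain ⟨x, hx⟩ := exists_conj_pairLE_max hM hmax (b := ⟨Q, b⟩) hpair
  exact kerCore_of_conj _ hpair.1.2 x (kerCore_down hM hpπ hx ((kerCore_push_iff hQD hCD).2 hk₁))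

open Classical in
/-- Constancy on the `π'`-core of the centralizer. -/
theorem apply_mul_eq (hM : IsPModular p M) {B : Set (IrrCharacter G)} (hB : IsPBlock M B) {y : G}
    (hy : ∃ k : ℕ, orderOf y = p ^ k) {χ : IrrCharacter G} (hχ : χ ∈ B) {C : Subgroup G}
    (hC : C = Subgroup.centralizer ({y} : Set G)) {c : C} (hc : ¬ p ∣ orderOf c)
    (hker : ∀ b : Set (IrrCharacter C), IsInducedBlock M C b B →
      ∀ ξ ∈ b, (ξ : C → ℂ) c = (ξ : C → ℂ) 1) :
    (χ : G → ℂ) (y * (c : G)) = (χ : G → ℂ) y := by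
  cases nonempty_fintype G
  haveI : Fintype C := Fintype.ofFinite _
  set θ : C → ℂ := fun a => (χ : G → ℂ) (y * (a : G)) with hθ
  have hcl : IsClassFunction C θ := by
    intro a k
    have hk : (k : G) * y = y * k :=
      Subgroup.mem_centralizer_singleton_iff.1 (hC.le k.2)
    simp only [hθ]
    rw [show y * ((k * a * k⁻¹ : C) : G) = (k : G) * (y * a) * (k : G)⁻¹ from by
      push_cast
      rw [← mul_assoc y, ← mul_assoc y, ← hk]
      group, Chars.irr_isClassFunction χ]
  have h1 : θ c = θ 1 := by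
    rw [Chars.isClassFunction_apply_eq_sum_classInner hcl c,
      Chars.isClassFunction_apply_eq_sum_classInner hcl 1, ← sub_eq_zero, ← Finset.sum_sub_distrib,
      ← Finset.sum_fiberwise Finset.univ (fun ξ : IrrCharacter C => blockOf M (ξ : C → ℂ))]
    refine Finset.sum_eq_zero fun b _ => ?_
    by_cases hb : ∃ ξ : IrrCharacter C, blockOf M (ξ : C → ℂ) = b
    · obtain ⟨ξ₀, rfl⟩ := hb
      by_cases hind : IsInducedBlock M C (blockOf M (ξ₀ : C → ℂ)) B
      · refine Finset.sum_eq_zero fun ξ hξ => ?_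
        rw [hker _ hind ξ (by rw [← (Finset.mem_filter.1 hξ).2]; exact mem_blockOf_self ξ),
          sub_self]
      · have hz : ∀ a : C, ¬ p ∣ orderOf a →
            ∑ ξ ∈ Finset.univ.filter (fun ξ : IrrCharacter C =>
              blockOf M (ξ : C → ℂ) = blockOf M (ξ₀ : C → ℂ)),
              classInner θ (ξ : C → ℂ) * (ξ : C → ℂ) a = 0 := by
          intro a ha
          have h := secondMain_blockPart hM hy hB hχ hC (isPBlock_blockOf ξ₀) hind ha
          simp only [blockPart] at h
          rw [finsum_mem_eq_toFinset_sum,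
            Subsingleton.elim (Fintype.ofFinite C) ‹Fintype C›] at h
          refine Eq.trans (Finset.sum_congr ?_ fun _ _ => rfl) h
          ext ξ
          simp only [Finset.mem_filter, Finset.mem_univ, true_and, Set.mem_toFinset]
          exact ⟨fun e => e ▸ mem_blockOf_self ξ,
            fun m => (eq_blockOf_of_mem (isPBlock_blockOf ξ₀) m).symm⟩
        rw [Finset.sum_sub_distrib, hz c hc, hz 1 (by
          rw [orderOf_one]; exact Nat.Prime.not_dvd_one Fact.out), sub_zero]
    · rw [Finset.filter_false_of_mem fun ξ _ hξ => hb ⟨ξ, hξ⟩]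
      exact Finset.sum_empty
  simpa [hθ] using h1

/-- Values are constant on the normal Hall `π'`-subgroup of the centralizer. -/
theorem main (hM : IsPModular p M) (hpπ : p ∈ π) {B : Set (IrrCharacter G)} (hB : IsPBlock M B)
    {D : Subgroup G} (hBD : IsDefectGroup p M B D)
    {B₁ : Set (IrrCharacter (Subgroup.normalizer (D : Set G)))}
    (hB₁ : IsInducedBlock M (Subgroup.normalizer (D : Set G)) B₁ B)
    (hB₁D : IsDefectGroup p M B₁ (D.subgroupOf (Subgroup.normalizer (D : Set G))))
    (hker : ∀ n : Subgroup.normalizer (D : Set G),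
      n ∈ piCore {q | q ∉ π} (Subgroup.normalizer (D : Set G)) → n ∈ blockKer B₁)
    {y : G} (hy : ∃ k : ℕ, orderOf y = p ^ k) {C : Subgroup G}
    (hC : C = Subgroup.centralizer ({y} : Set G))
    (hH : ∀ x : C, (∀ q : ℕ, q.Prime → q ∣ orderOf x → q ∉ π) → x ∈ piCore {q | q ∉ π} C)
    {χ : IrrCharacter G} (hχ : χ ∈ B) {c : C} (hc : ∀ q : ℕ, q.Prime → q ∣ orderOf c → q ∉ π) :
    (χ : G → ℂ) (y * (c : G)) = (χ : G → ℂ) y := by
  rw [← BrauerPairs.centralizer_zpowers] at hC
  subst hC
  have hQ : IsPGroup p (Subgroup.zpowers y) := by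
    obtain ⟨k, hk⟩ := hy
    exact IsPGroup.of_card (by rw [Nat.card_zpowers, hk])
  exact apply_mul_eq hM hB hy hχ (BrauerPairs.centralizer_zpowers y)
    (fun h => hc p (Fact.out) h hpπ) fun b hind ξ hξ =>
      kerCore_of_induced hM hpπ hBD hB₁ hB₁D hker hQ hind ξ hξ c (hH c hc)

end Cfsg.Agent.Lib.Blocks.PiSection
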