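import Mathlib
import Cfsg.Agent.Lib.Blocks.DefectCard
import Cfsg.Agent.Lib.Burnside.Core

/-!
# Characters of prime power degree in the principal block of a simple group
-/

set_option autoImplicit false

namespace Cfsg.Agent.Lib.Blocks

open Cfsg

universe u

variable {G : Type u} [Group G] [Finite G] {p : ℕ} [Fact p.Prime] {M : Ideal AlgInt} [M.IsPrime]

theorem eq_one_of_principalBlock_of_degree (hM : IsPModular p M) [IsSimpleGroup G]
    (hna : ∃ a b : G, a * b ≠ b * a) (χ : IrrCharacter G) (hχ : χ ∈ principalBlock M G) (k : ℕ)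
    (hdeg : (χ : G → ℂ) 1 = (p : ℂ) ^ k) : (χ : G → ℂ) = fun _ => 1 := by
  classical
  cases nonempty_fintype G
  have hp : p.Prime := Fact.out
  let one : IrrCharacter G := ⟨fun _ => 1, Chars.isIrrCharacter_one⟩
  by_cases hdvd : p ∣ Nat.card G
  swap
  · obtain ⟨h1, h0, hd⟩ := exists_degree_eq one
    have hs := blockOf_eq_singleton_of_defect_zero hM one
      fun h => hdvd (h.trans (Nat.div_dvd_of_dvd hd))
    have : χ = one := by
      rw [← Set.mem_singleton_iff, ← hs]
      exact hχ
    rw [this]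
  by_contra hne
  obtain ⟨P⟩ : Nonempty (Sylow p G) := inferInstance
  have hPne : (P : Subgroup G) ≠ ⊥ := P.ne_bot_of_dvd_card hdvd
  haveI : Nontrivial P := (Subgroup.nontrivial_iff_ne_bot _).2 hPne
  haveI := P.isPGroup'.center_nontrivial
  obtain ⟨⟨⟨g, hgP⟩, hgc⟩, hg1⟩ := exists_ne (1 : Subgroup.center P)
  have hle : (P : Subgroup G) ≤ Subgroup.centralizer ({g} : Set G) := fun w hw =>
    Subgroup.mem_centralizer_singleton_iff.2
      (congrArg Subtype.val (Subgroup.mem_center_iff.1 hgc ⟨w, hw⟩))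
  have hidx : ¬ p ∣ (Subgroup.centralizer ({g} : Set G)).index :=
    fun h => P.not_dvd_index (h.trans (Subgroup.index_dvd_of_le hle))
  have hne0 : (χ : G → ℂ) g ≠ 0 := by
    intro h0
    have := hχ g
    rw [centralChar, centralChar, h0, mul_zero, zero_div, sub_zero, mul_one, div_one] at this
    refine hidx (Int.natCast_dvd_natCast.1 ((intCast_mem_iff hM _).1 ?_))
    rw [Int.cast_natCast, ← memLocalIdeal_algInt_iff]
    exact_mod_cast this
  obtain ⟨n, ρ, hρ, hρχ⟩ := Chars.irr_exists_rep χ
  have hn : Module.finrank ℂ (Fin n → ℂ) = p ^ k := by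
    have h1 : ρ.character 1 = (χ : G → ℂ) 1 := by rw [hρχ]
    rw [Representation.char_one, hdeg] at h1
    exact_mod_cast h1
  rcases Burnside.char_eq_zero_or_scalar ρ g (by
    rw [natCard_isConj, hn]
    exact ((hp.coprime_iff_not_dvd.2 hidx).symm).pow_right k) with h | ⟨c, hc⟩
  · exact hne0 (hρχ ▸ h)
  have hker : MonoidHom.ker (ρ : G →* Module.End ℂ (Fin n → ℂ)) = ⊥ := by
    refine ((MonoidHom.normal_ker _).eq_bot_or_eq_top).resolve_right fun htop => hne ?_
    have hconst : ∀ x : G, (χ : G → ℂ) x = (χ : G → ℂ) 1 := fun x => by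
      have hx : ρ x = 1 := MonoidHom.mem_ker.1 (htop ▸ Subgroup.mem_top x)
      rw [← hρχ]
      simp only [Representation.character, hx, map_one]
    by_contra hne'
    have h2 := Chars.classInner_irr_of_ne (χ := χ) (ψ := one) fun h => hne' (by rw [h])
    simp only [classInner, one, map_one, mul_one, hconst, Finset.sum_const, Finset.card_univ,
      nsmul_eq_mul] at h2
    rw [← Nat.card_eq_fintype_card, ← mul_assoc,
      inv_mul_cancel₀ (by exact_mod_cast Nat.card_pos.ne'), one_mul] at h2
    exact Chars.irr_apply_one_ne_zero χ h2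
  have hgz : g ∈ Subgroup.center G := by
    refine Subgroup.mem_center_iff.2 fun h => ?_
    have h3 : h * g * (g * h)⁻¹ ∈ MonoidHom.ker (ρ : G →* Module.End ℂ (Fin n → ℂ)) := by
      rw [MonoidHom.mem_ker, map_mul]
      have h4 : ρ (h * g) = ρ (g * h) := by
        rw [map_mul, map_mul, hc, Algebra.mul_smul_comm, Algebra.smul_mul_assoc, mul_one, one_mul]
      rw [h4, ← map_mul, mul_inv_cancel, map_one]
    rw [hker, Subgroup.mem_bot, mul_inv_eq_one] at h3
    exact h3
  rcases (inferInstance : (Subgroup.center G).Normal).eq_bot_or_eq_top with h | h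
  · rw [h, Subgroup.mem_bot] at hgz
    exact hg1 (Subtype.ext (Subtype.ext hgz))
  · obtain ⟨a, b, hab⟩ := hna
    have : b ∈ Subgroup.center G := h ▸ Subgroup.mem_top b
    exact hab (Subgroup.mem_center_iff.1 this a)

end Cfsg.Agent.Lib.Blocks
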