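import Cfsg.Agent.S0964
import Cfsg.Agent.S0968
import Cfsg.Agent.S0971
import Cfsg.Agent.S0973
import Cfsg.Agent.Lib.Clifford.Gallagher
import Cfsg.Agent.Lib.CharExt.BergerParts
import Cfsg.Agent.Lib.Blocks.TwistedChar

/-!
# Blocks with a normal defect group: degrees
-/

set_option autoImplicit false
set_option linter.unusedSectionVars false

namespace Cfsg.Agent.Lib.Blocks.Reynolds

open Cfsg
open Cfsg.Agent.Lib
open Cfsg.Agent.Lib.Clifford (conjFun resFun)
open scoped ComplexConjugate

universe u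

theorem charDegree_spec {K : Type u} [Group K] [Finite K] (χ : IrrCharacter K) :
    (χ : K → ℂ) 1 = (charDegree (χ : K → ℂ) : ℂ) ∧ charDegree (χ : K → ℂ) ≠ 0 := by
  cases nonempty_fintype K
  exact ⟨(HeightZero.charDegree_eq χ).1.symm, (HeightZero.charDegree_eq χ).2⟩

/-- The degree is a constituent's degree times a divisor of the index. -/
theorem exists_dvd_index_degree {G : Type u} [Group G] [Finite G] (N : Subgroup G) [N.Normal]
    [Fintype N] (χ : IrrCharacter G) (θ : IrrCharacter N)
    (hne : classInner (resFun N (χ : G → ℂ)) (θ : N → ℂ) ≠ 0) :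
    ∃ x, x ∣ N.index ∧ charDegree (χ : G → ℂ) = charDegree (θ : N → ℂ) * x := by
  obtain ⟨k, π, hπ, hπχ⟩ := χ.2
  obtain ⟨j, σ, hσ, hσθ⟩ := θ.2
  have := hπ
  have := hσ
  have hnt : Nontrivial (Representation.IntertwiningMap σ (CharExt.resRep N π)) := by
    refine Module.nontrivial_of_finrank_pos (R := ℂ) (Nat.pos_of_ne_zero fun h0 => hne ?_)
    have hr : (CharExt.resRep N π).character = resFun N (χ : G → ℂ) := by
      funext n; rw [Clifford.resFun, ← hπχ]; rfl
    rw [← hr, ← hσθ, Chars.classInner_char_eq_finrank, h0, Nat.cast_zero]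
  obtain ⟨x, hx, hdim⟩ := CharExt.exists_dvd_index_finrank_eq N σ π
  refine ⟨x, hx, ?_⟩
  have e1 : charDegree (χ : G → ℂ) = Module.finrank ℂ (Fin k → ℂ) := by
    have := (charDegree_spec χ).1
    rw [← hπχ, Representation.char_one] at this
    rw [← hπχ]; exact_mod_cast this.symm
  have e2 : charDegree (θ : N → ℂ) = Module.finrank ℂ (Fin j → ℂ) := by
    have := (charDegree_spec θ).1
    rw [← hσθ, Representation.char_one] at this
    rw [← hσθ]; exact_mod_cast this.symm
  rw [e1, e2, hdim]

variable {K : Type u} [Group K] [Finite K] {p : ℕ} [Fact p.Prime] {M : Ideal AlgInt} [M.IsPrime]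

/-- Characters of a block whose defect group generates the group with its centralizer. -/
theorem exists_twists (hM : IsPModular p M) (P : Subgroup K) (hP : IsPGroup p P)
    (hG : P ⊔ Subgroup.centralizer (P : Set K) = ⊤) {b : Set (IrrCharacter K)} (hb : IsPBlock M b)
    (hD : IsDefectGroup p M b P) :
    ∃ θ : IrrCharacter K, θ ∈ b ∧ (∀ x ∈ P, (θ : K → ℂ) x = (θ : K → ℂ) 1) ∧
      ∃ f : IrrCharacter P → IrrCharacter K, (∀ ζ, f ζ ∈ b) ∧
        (∀ χ ∈ b, ∃ ζ, f ζ = χ) ∧
        (∀ ζ, (f ζ : K → ℂ) 1 = (ζ : P → ℂ) 1 * (θ : K → ℂ) 1) := by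
  classical
  cases nonempty_fintype K
  let : Fintype P := Fintype.ofFinite _
  obtain ⟨⟨θ, ⟨hθB, hθtriv⟩, -⟩, -, hcard⟩ := Cfsg.Agent.S0968.result p M hM P hP hG b hb hD
  have hn : P.Normal := by
    rw [← Subgroup.normalizer_eq_top_iff, eq_top_iff, ← hG, sup_le_iff]
    exact ⟨Subgroup.le_normalizer, Subgroup.centralizer_le_normalizer _⟩
  have hidx : ∃ k, (Subgroup.centralizer (P : Set K)).index = p ^ k := by
    obtain ⟨j, hj⟩ := IsPGroup.iff_card.1 hP
    have h : (Subgroup.centralizer (P : Set K)).index ∣ p ^ j := by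
      rw [← hj, ← Subgroup.relIndex_top_right, ← hG, Subgroup.relIndex_sup_right]
      exact Subgroup.relIndex_dvd_card _ _
    obtain ⟨i, -, hi⟩ := (Nat.dvd_prime_pow (Fact.out : p.Prime)).1 h
    exact ⟨i, hi⟩
  have hcomm : ∀ x ∈ P, ∀ y : K, ¬ p ∣ orderOf y → Commute x y := fun x hx y hy =>
    Subgroup.mem_centralizer_iff.1 (Covering.mem_of_pRegular_of_index (p := p)
      (Subgroup.centralizer (P : Set K)) hidx hy) x hx
  have hall : ∀ D' : Subgroup K, IsDefectGroup p M b D' → D' = P := by
    intro D' hD'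
    obtain ⟨a, ha⟩ := isDefectGroup_conjugate hM hb hD hD'
    rw [ha]
    ext u
    constructor
    · rintro ⟨w, hw, rfl⟩
      exact hn.conj_mem _ hw a
    · intro hu
      exact ⟨a⁻¹ * u * a⁻¹⁻¹, hn.conj_mem _ hu a⁻¹, by simp [mul_assoc]⟩
  have hH : TwistedChar.Hyp p P θ := by
    refine ⟨hP, hG, hcomm, fun x hx g => ?_, fun g x hx hxP => ?_⟩
    · obtain ⟨ψ, hψ⟩ := Chars.exists_irr_quotient P θ hθtriv
      rw [← hψ, ← hψ, QuotientGroup.mk_mul, (QuotientGroup.eq_one_iff x).2 hx, one_mul]
    · refine char_eq_zero_of_pPart_notMem hM θ hx fun D' hD' => ?_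
      rw [← eq_blockOf_of_mem hb hθB] at hD'
      rwa [hall D' hD']
  have h1reg : ¬ p ∣ orderOf (1 : K) := by rw [orderOf_one]; exact (Fact.out : p.Prime).not_dvd_one
  let f : IrrCharacter P → IrrCharacter K := fun ζ =>
    ⟨_, TwistedChar.isIrrCharacter_twist hH ζ⟩
  have hf1 : ∀ (ζ : IrrCharacter P) (y : K), ¬ p ∣ orderOf y →
      (f ζ : K → ℂ) y = (ζ : P → ℂ) 1 * (θ : K → ℂ) y := fun ζ y hy => by
    simpa using TwistedChar.twist_mul hH (ζ : P → ℂ) 1 hy
  have hfB : ∀ ζ, f ζ ∈ b := by
    intro ζ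
    have e1 := Covering.sum_blockCoeff_eq_ite b θ
    have e2 := Covering.sum_blockCoeff_eq_ite b (f ζ)
    rw [if_pos hθB] at e1
    by_contra hcon
    rw [if_neg hcon, Finset.sum_congr rfl (g := fun g : K => blockCoeff b g * (θ : K → ℂ) g / (θ : K → ℂ) 1)
      (fun g _ => ?_), e1] at e2
    · exact one_ne_zero e2
    · by_cases hg : p ∣ orderOf g
      · simp [blockCoeff_eq_zero_of_pSingular hM hb hg]
      · rw [hf1 ζ g hg, hf1 ζ 1 h1reg, mul_left_comm]
        exact mul_div_mul_left _ _ (Chars.irr_apply_one_ne_zero ζ)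
  have hinj : Function.Injective (fun ζ => (⟨f ζ, hfB ζ⟩ : b)) := by
    intro ζ ζ' h
    have h' : f ζ = f ζ' := congrArg Subtype.val h
    have e : classInner (f ζ : K → ℂ) (f ζ' : K → ℂ) = classInner (ζ : P → ℂ) (ζ' : P → ℂ) :=
      TwistedChar.classInner_twist hH _ _
    rw [h', Chars.classInner_irr_self, Chars.classInner_irr] at e
    by_contra hne
    rw [if_neg hne] at e
    exact one_ne_zero e
  have hbij := (Nat.bijective_iff_injective_and_card (fun ζ => (⟨f ζ, hfB ζ⟩ : b))).2
    ⟨hinj, by rw [Chars.card_irrCharacter, hcard]⟩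
  refine ⟨θ, hθB, hθtriv, f, hfB, fun χ hχ => ?_, fun ζ => hf1 ζ 1 h1reg⟩
  obtain ⟨ζ, hζ⟩ := hbij.2 ⟨χ, hχ⟩
  exact ⟨ζ, congrArg Subtype.val hζ⟩

theorem exists_nonlinear (P : Subgroup K) (h : ∃ a ∈ P, ∃ c ∈ P, a * c ≠ c * a) :
    ∃ ζ : IrrCharacter P, (ζ : P → ℂ) 1 ≠ 1 := by
  classical
  cases nonempty_fintype K
  let : Fintype P := Fintype.ofFinite _
  by_contra! hall
  obtain ⟨a, ha, c, hc, hne⟩ := h
  have h1 := Chars.card_linear_irr (G := P)
  have h2 := Chars.sum_degree_sq (G := P)
  rw [Finset.sum_congr rfl (g := fun _ => (1 : ℂ)) (fun ζ _ => by rw [hall ζ, one_pow]),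
    Finset.sum_const, Finset.card_univ, nsmul_one] at h2
  have h2' : Nat.card (IrrCharacter P) = Nat.card P := by
    rw [Nat.card_eq_fintype_card]; exact_mod_cast h2
  rw [Nat.card_congr (Equiv.subtypeUnivEquiv hall), h2', ← (commutator P).card_mul_index] at h1
  have hc1 : Nat.card (commutator P) = 1 :=
    (Nat.mul_eq_right Subgroup.index_ne_zero_of_finite).1 h1
  have hbot := Subgroup.eq_bot_of_card_eq _ hc1
  have hm : (⟨a, ha⟩ : P) * ⟨c, hc⟩ = ⟨c, hc⟩ * ⟨a, ha⟩ := by
    open scoped commutatorElement in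
    have h3 : ⁅(⟨a, ha⟩ : P), (⟨c, hc⟩ : P)⁆ ∈ commutator P :=
      Subgroup.commutator_mem_commutator (Subgroup.mem_top _) (Subgroup.mem_top _)
    rw [hbot, Subgroup.mem_bot] at h3
    exact commutatorElement_eq_one_iff_mul_comm.1 h3
  exact hne (congrArg Subtype.val hm)

theorem reynolds {G : Type u} [Group G] [Finite G] (hM : IsPModular p M) {B : Set (IrrCharacter G)}
    (hB : IsPBlock M B) (P : Subgroup G) [P.Normal] (hP : IsDefectGroup p M B P) :
    (∀ a ∈ P, ∀ c ∈ P, a * c = c * a) ↔ ∀ χ ∈ B, blockHeight p B (χ : G → ℂ) = 0 := by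
  classical
  cases nonempty_fintype G
  have hp : p.Prime := Fact.out
  have hPp : IsPGroup p P := isPGroup_of_isDefectGroup hP
  set L : Subgroup G := P ⊔ Subgroup.centralizer (P : Set G) with hL
  let : Fintype L := Fintype.ofFinite _
  obtain ⟨⟨b, hbD, hbind⟩, -⟩ := Cfsg.Agent.S0973.result p M hM B hB P hP
  have hb : IsPBlock M b := hbind.1
  have hLn : L.Normal := by rw [hL]; infer_instance
  set P' := P.subgroupOf L with hP'
  have hPL : P ≤ L := le_sup_left
  have hP'p : IsPGroup p P' := hPp.of_equiv (Subgroup.subgroupOfEquivOfLe hPL).symm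
  have hP'G : P' ⊔ Subgroup.centralizer (P' : Set L) = ⊤ := by
    have e : (Subgroup.centralizer (P : Set G)).subgroupOf L ≤ Subgroup.centralizer (P' : Set L) :=
      fun x hx => Subgroup.mem_centralizer_iff.2 fun y hy =>
        Subtype.ext (Subgroup.mem_centralizer_iff.1 hx (y : G) hy)
    refine eq_top_iff.2 (le_trans ?_ (sup_le_sup_left e _))
    rw [hP', ← Subgroup.subgroupOf_sup hPL le_sup_right, ← hL, Subgroup.subgroupOf_self]
  obtain ⟨θ₀, hθ₀, hθ₀P, f, hfb, hfs, hf1⟩ := exists_twists hM P' hP'p hP'G hb hbD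
  -- exponents
  set v : ℕ → ℕ := fun k => k.factorization p with hv
  have hcardP : Nat.card P = p ^ blockDefect p B := card_defectGroup hM hB hP
  have hvG : (Nat.card G).factorization p =
      blockDefect p B + (L.index).factorization p + (P'.index).factorization p := by
    rw [← L.card_mul_index, ← P'.card_mul_index, Nat.card_congr (Subgroup.subgroupOfEquivOfLe hPL).toEquiv,
      hcardP]
    simp only [Nat.factorization_mul (mul_ne_zero (pow_ne_zero _ hp.ne_zero)
        Subgroup.index_ne_zero_of_finite) Subgroup.index_ne_zero_of_finite,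
      Nat.factorization_mul (pow_ne_zero _ hp.ne_zero) Subgroup.index_ne_zero_of_finite,
      Finsupp.add_apply, hp.factorization_pow, Finsupp.single_eq_same]
    ring
  have hht : ∀ χ ∈ B, L.index.factorization p + P'.index.factorization p +
      blockHeight p B (χ : G → ℂ) = (charDegree (χ : G → ℂ)).factorization p := fun χ hχ => by
    have := factorization_degree_add_blockDefect hM hB hχ
    omega
  have hθ₀v : (charDegree (θ₀ : L → ℂ)).factorization p = P'.index.factorization p :=
    (Cfsg.Agent.S0968.result p M hM P' hP'p hP'G b hb hbD).2.1 θ₀ hθ₀ hθ₀P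
  have hfv : ∀ ζ : IrrCharacter P', (charDegree (f ζ : L → ℂ)).factorization p =
      (charDegree (ζ : P' → ℂ)).factorization p + P'.index.factorization p := by
    intro ζ
    have e : ((charDegree (f ζ : L → ℂ) : ℕ) : ℂ) =
        ((charDegree (ζ : P' → ℂ) * charDegree (θ₀ : L → ℂ) : ℕ) : ℂ) := by
      push_cast
      rw [← (charDegree_spec (f ζ)).1, ← (charDegree_spec ζ).1, ← (charDegree_spec θ₀).1]
      exact hf1 ζ
    rw [Nat.cast_inj.1 e, Nat.factorization_mul (charDegree_spec ζ).2 (charDegree_spec θ₀).2,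
      Finsupp.add_apply, hθ₀v]
  -- characters above b lie in B
  have habove : ∀ (χ : IrrCharacter G) (θ : IrrCharacter L), θ ∈ b →
      classInner (resFun L (χ : G → ℂ)) (θ : L → ℂ) ≠ 0 → χ ∈ B := by
    intro χ θ hθ hne
    have hind := (Cfsg.Agent.S0971.result p M hM P hPp b hb).2 _ (isPBlock_blockOf χ)
      ⟨χ, mem_blockOf_self χ, θ, hθ, hne⟩
    rw [isInducedBlock_unique hbind hind]
    exact mem_blockOf_self χ
  have hexists : ∀ θ : IrrCharacter L, ∃ χ : IrrCharacter G,
      classInner (resFun L (χ : G → ℂ)) (θ : L → ℂ) ≠ 0 := by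
    intro θ
    by_contra! hall
    have h0 : ∀ χ : IrrCharacter G, classInner (indFun L (θ : L → ℂ)) (χ : G → ℂ) = 0 := fun χ => by
      rw [Chars.classInner_indFun_left L _ _ (Chars.irr_isClassFunction χ), ← Chars.conj_classInner]
      exact (congrArg conj (hall χ)).trans (map_zero _)
    have h1 := congrFun (Chars.eq_zero_of_forall_classInner_eq_zero
      (Chars.isClassFunction_indFun L (θ : L → ℂ)) h0) 1
    rw [Chars.indFun_one_eq, Pi.zero_apply, mul_eq_zero] at h1
    exact h1.elim (Nat.cast_ne_zero.2 Subgroup.index_ne_zero_of_finite) (Chars.irr_apply_one_ne_zero θ)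
  constructor
  · intro hab χ hχ
    obtain ⟨χ₁, hχ₁⟩ := hexists θ₀
    obtain ⟨ψ, hψ⟩ := Covering.exists_constituent (N := L) χ
    obtain ⟨g, θ', hθ', he⟩ := Cfsg.Agent.S0964.result p M hM L B hB b hb χ₁
      (habove χ₁ θ₀ hθ₀ hχ₁) θ₀ hθ₀ hχ₁ χ hχ ψ hψ
    obtain ⟨ζ, rfl⟩ := hfs θ' hθ'
    obtain ⟨x, hx, hdeg⟩ := exists_dvd_index_degree L χ ψ hψ
    have hψ1 : charDegree (ψ : L → ℂ) = charDegree (f ζ : L → ℂ) := by
      have e1 := he 1
      have e2 : (⟨g * ((1 : L) : G) * g⁻¹, hLn.conj_mem _ (1 : L).2 g⟩ : L) = 1 :=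
        Subtype.ext (by simp)
      rw [e2, (charDegree_spec ψ).1, (charDegree_spec (f ζ)).1] at e1
      exact_mod_cast e1
    have hζ1 : charDegree (ζ : P' → ℂ) = 1 := by
      have : IsMulCommutative P' := ⟨⟨fun a c => Subtype.ext (Subtype.ext (hab _ a.2 _ c.2))⟩⟩
      have e := Chars.irr_apply_one_of_comm ζ
      rw [(charDegree_spec ζ).1] at e
      exact_mod_cast e
    have hx0 : x ≠ 0 := fun e => (charDegree_spec χ).2 (by rw [hdeg, e, mul_zero])
    have hxv : x.factorization p ≤ L.index.factorization p :=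
      ((Nat.factorization_le_iff_dvd hx0 Subgroup.index_ne_zero_of_finite).2 hx) p
    have h1 := hht χ hχ
    rw [hdeg, Nat.factorization_mul (charDegree_spec ψ).2 hx0, Finsupp.add_apply, hψ1, hfv, hζ1,
      Nat.factorization_one, Finsupp.zero_apply] at h1
    omega
  · intro hall a ha c hc
    by_contra hne
    -- the inertia group of the canonical character
    let T : Subgroup G :=
      { carrier := {g | conjFun g (θ₀ : L → ℂ) = (θ₀ : L → ℂ)}
        mul_mem' := fun {x y} hx hy => by
          show conjFun (x * y) _ = _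
          rw [Clifford.conjFun_mul, hx, hy]
        one_mem' := Clifford.conjFun_one _
        inv_mem' := fun {x} hx => by
          show conjFun x⁻¹ _ = _
          conv_lhs => rw [← hx]
          rw [← Clifford.conjFun_mul, mul_inv_cancel, Clifford.conjFun_one] }
    have hT : ∀ g, g ∈ T ↔ conjFun g (θ₀ : L → ℂ) = (θ₀ : L → ℂ) := fun g => Iff.rfl
    have hLT : L ≤ T := fun l hl => by
      funext m
      exact Chars.irr_isClassFunction θ₀ m ⟨l, hl⟩
    let : Fintype T := Fintype.ofFinite _
    have hnorm : classInner (indFun L (θ₀ : L → ℂ)) (indFun L (θ₀ : L → ℂ)) =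
        ((L.relIndex T : ℕ) : ℂ) := by
      rw [Chars.classInner_indFun_right L _ _ (Chars.isClassFunction_indFun L _)]
      show classInner (resFun L (indFun L (θ₀ : L → ℂ))) (θ₀ : L → ℂ) = _
      rw [Clifford.resFun_indFun, Chars.classInner_smul_left, Chars.classInner_sum_left,
        Finset.sum_congr rfl (g := fun x : G => if x ∈ T then (1 : ℂ) else 0) (fun x _ => ?_),
        Finset.sum_boole]
      · rw [← Fintype.card_subtype, ← Nat.card_eq_fintype_card,
          show Nat.card {x // x ∈ T} = Nat.card T from rfl,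
          show Nat.card T = Nat.card L * L.relIndex T from by
            rw [← Nat.card_congr (Subgroup.subgroupOfEquivOfLe hLT).toEquiv]
            exact ((L.subgroupOf T).card_mul_index).symm, Nat.cast_mul,
          inv_mul_cancel_left₀ (Nat.cast_ne_zero.2 Nat.card_pos.ne')]
      · by_cases hx : x ∈ T
        · rw [if_pos hx, (hT x).1 hx, Chars.classInner_irr_self]
        · rw [if_neg hx]
          exact Chars.classInner_irr_of_ne (χ := ⟨_, Clifford.isIrrCharacter_conjFun x θ₀.2⟩)
            fun e => hx ((hT x).2 (congrArg Subtype.val e))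
    have hk : ∀ χ : IrrCharacter G, ∃ k : ℕ, classInner (resFun L (χ : G → ℂ)) (θ₀ : L → ℂ) = k :=
      fun χ => Chars.isCharacter_classInner_nat (Chars.isCharacter_restrict L (Chars.irr_isCharacter χ))
        (Chars.irr_isCharacter θ₀)
    choose k hk using hk
    have hsum : ∑ χ : IrrCharacter G, k χ * k χ = L.relIndex T := by
      have e : ∀ χ : IrrCharacter G, classInner (indFun L (θ₀ : L → ℂ)) (χ : G → ℂ) = (k χ : ℂ) :=
        fun χ => by
          rw [Chars.classInner_indFun_left L _ _ (Chars.irr_isClassFunction χ), ← Chars.conj_classInner]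
          exact (congrArg conj (hk χ)).trans (Complex.conj_natCast _)
      rw [Chars.classInner_eq_sum_mul_conj (Chars.isClassFunction_indFun L _)
        (Chars.isClassFunction_indFun L _)] at hnorm
      simp only [e, Complex.conj_natCast] at hnorm
      exact_mod_cast hnorm
    set t := (L.relIndex T).factorization p with ht
    have hLidx : L.index.factorization p = t + T.index.factorization p := by
      rw [← Subgroup.relIndex_mul_index hLT,
        Nat.factorization_mul (by rw [Subgroup.relIndex]; exact Subgroup.index_ne_zero_of_finite)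
          Subgroup.index_ne_zero_of_finite, Finsupp.add_apply]
    have hke : ∀ χ : IrrCharacter G, k χ ≠ 0 → (k χ).factorization p = t := by
      intro χ hk0
      have hne' : classInner (resFun L (χ : G → ℂ)) (θ₀ : L → ℂ) ≠ 0 := by
        rw [hk χ]; exact_mod_cast hk0
      have e := Clifford.apply_one_eq χ.2 θ₀.2 hne' T hT
      rw [hk χ, (charDegree_spec χ).1, (charDegree_spec θ₀).1] at e
      have e' : charDegree (χ : G → ℂ) = k χ * (T.index * charDegree (θ₀ : L → ℂ)) := by
        exact_mod_cast e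
      have hB' := habove χ θ₀ hθ₀ hne'
      have h1 := hht χ hB'
      rw [hall χ hB', e', Nat.factorization_mul hk0 (mul_ne_zero Subgroup.index_ne_zero_of_finite
        (charDegree_spec θ₀).2), Nat.factorization_mul Subgroup.index_ne_zero_of_finite
        (charDegree_spec θ₀).2, Finsupp.add_apply, Finsupp.add_apply, hθ₀v] at h1
      omega
    have ht0 : t = 0 := by
      have hd : p ^ (2 * t) ∣ L.relIndex T := by
        rw [← hsum]
        refine Finset.dvd_sum fun χ _ => ?_
        by_cases hk0 : k χ = 0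
        · simp [hk0]
        · rw [two_mul, pow_add, ← hke χ hk0]
          exact mul_dvd_mul (Nat.ordProj_dvd _ p) (Nat.ordProj_dvd _ p)
      have := (hp.pow_dvd_iff_le_factorization
        (by rw [Subgroup.relIndex]; exact Subgroup.index_ne_zero_of_finite)).1 hd
      omega
    obtain ⟨ζ, hζ⟩ := exists_nonlinear P' ⟨⟨a, hPL ha⟩, ha, ⟨c, hPL hc⟩, hc,
      fun e => hne (congrArg Subtype.val e)⟩
    obtain ⟨χ, hχ⟩ := hexists (f ζ)
    have hζv : 0 < (charDegree (ζ : P' → ℂ)).factorization p := by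
      obtain ⟨i, hi⟩ := IsPGroup.iff_card.1 hP'p
      obtain ⟨d, -, hd, hdvd⟩ := Chars.irr_degree_dvd_card ζ
      rw [hi] at hdvd
      obtain ⟨j, -, rfl⟩ := (Nat.dvd_prime_pow hp).1 hdvd
      have hd' : charDegree (ζ : P' → ℂ) = p ^ j := by
        have := (charDegree_spec ζ).1; rw [hd] at this; exact_mod_cast this.symm
      rw [hd', hp.factorization_pow, Finsupp.single_eq_same]
      rcases Nat.eq_zero_or_pos j with rfl | hj
      · exact absurd (by rw [hd, pow_zero, Nat.cast_one]) hζ
      · exact hj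
    -- inertia group of f ζ inside T
    let I : Subgroup G :=
      { carrier := {g | conjFun g (f ζ : L → ℂ) = (f ζ : L → ℂ)}
        mul_mem' := fun {x y} hx hy => by
          show conjFun (x * y) _ = _
          rw [Clifford.conjFun_mul, hx, hy]
        one_mem' := Clifford.conjFun_one _
        inv_mem' := fun {x} hx => by
          show conjFun x⁻¹ _ = _
          conv_lhs => rw [← hx]
          rw [← Clifford.conjFun_mul, mul_inv_cancel, Clifford.conjFun_one] }
    have hI : ∀ g, g ∈ I ↔ conjFun g (f ζ : L → ℂ) = (f ζ : L → ℂ) := fun g => Iff.rfl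
    have hIT : I ≤ T := by
      intro g hg
      refine (hT g).2 ?_
      let θ' : IrrCharacter L := ⟨_, Clifford.isIrrCharacter_conjFun g θ₀.2⟩
      have hsb : SameBlock M (f ζ : L → ℂ) (θ' : L → ℂ) := by
        have e := Covering.sameBlock_conjFun g (sameBlock_of_mem hb (hfb ζ) hθ₀)
        rwa [(hI g).1 hg] at e
      have hmem : θ' ∈ b := mem_of_sameBlock hb (hfb ζ) hsb
      have htriv : ∀ x ∈ P', (θ' : L → ℂ) x = (θ' : L → ℂ) 1 := by
        intro x hx
        show conjFun g (θ₀ : L → ℂ) x = conjFun g (θ₀ : L → ℂ) 1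
        rw [Clifford.conjFun_apply_one]
        exact hθ₀P _ (Subgroup.mem_subgroupOf.2 ((inferInstance : P.Normal).conj_mem (x : G) hx g))
      exact congrArg Subtype.val
        ((Cfsg.Agent.S0968.result p M hM P' hP'p hP'G b hb hbD).1.unique ⟨hmem, htriv⟩ ⟨hθ₀, hθ₀P⟩)
    obtain ⟨e, he⟩ := Chars.isCharacter_classInner_nat
      (Chars.isCharacter_restrict L (Chars.irr_isCharacter χ)) (Chars.irr_isCharacter (f ζ))
    have e1 := Clifford.apply_one_eq χ.2 (f ζ).2 hχ I hI
    rw [show classInner (resFun L (χ : G → ℂ)) (f ζ : L → ℂ) = (e : ℂ) from he,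
      (charDegree_spec χ).1, (charDegree_spec (f ζ)).1] at e1
    have e1' : charDegree (χ : G → ℂ) = e * (I.index * charDegree (f ζ : L → ℂ)) := by
      exact_mod_cast e1
    have he0 : e ≠ 0 := fun h0 => (charDegree_spec χ).2 (by rw [e1', h0, zero_mul])
    have hIidx : T.index.factorization p ≤ I.index.factorization p :=
      ((Nat.factorization_le_iff_dvd Subgroup.index_ne_zero_of_finite
        Subgroup.index_ne_zero_of_finite).2 (Subgroup.index_dvd_of_le hIT)) p
    have hB' := habove χ (f ζ) (hfb ζ) hχ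
    have h1 := hht χ hB'
    rw [hall χ hB', e1', Nat.factorization_mul he0 (mul_ne_zero Subgroup.index_ne_zero_of_finite
      (charDegree_spec _).2), Nat.factorization_mul Subgroup.index_ne_zero_of_finite
      (charDegree_spec _).2, Finsupp.add_apply, Finsupp.add_apply, hfv] at h1
    omega

end Cfsg.Agent.Lib.Blocks.Reynolds
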