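import Cfsg.Agent.Lib.Blocks.DefectCard
import Cfsg.Agent.Lib.Blocks.BlockOrth
import Mathlib

/-!
# Separated classes with a common defect group give blocks with that defect group
-/

set_option autoImplicit false

namespace Cfsg.Agent.Lib.Blocks.Separated

open Cfsg
open Cfsg.Agent.Lib
open scoped ComplexConjugate

universe u

variable {G : Type u} [Group G] [Finite G] {M : Ideal AlgInt} [M.IsPrime] {p : ℕ}

theorem memLocalRing_centralChar (χ : IrrCharacter G) (g : G) :
    MemLocalRing M (centralChar (χ : G → ℂ) g) := by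
  rw [← omegaR_classSumR (M := M)]
  exact mem_localRing.1 (omegaR M χ (classSumR M g)).2

theorem char_eq_centralChar_mul (χ : IrrCharacter G) (g : G) :
    (χ : G → ℂ) g = centralChar (χ : G → ℂ) g *
      ((charDegree (χ : G → ℂ) : ℂ) / ((Subgroup.centralizer ({g} : Set G)).index : ℂ)) := by
  obtain ⟨h1, h0, -⟩ := exists_degree_eq χ
  have hi : ((Subgroup.centralizer ({g} : Set G)).index : ℂ) ≠ 0 :=
    Nat.cast_ne_zero.2 Subgroup.index_ne_zero_of_finite
  have h0' : (charDegree (χ : G → ℂ) : ℂ) ≠ 0 := Nat.cast_ne_zero.2 h0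
  rw [centralChar, h1]
  field_simp

theorem factorization_index_add [Fact p.Prime] {g : G} {D : Subgroup G}
    (hD : IsClassDefect p g D) {d : ℕ} (hd : Nat.card D = p ^ d) :
    (Subgroup.centralizer ({g} : Set G)).index.factorization p + d =
      (Nat.card G).factorization p := by
  have hd' : (Nat.card (Subgroup.centralizer ({g} : Set G))).factorization p = d :=
    Nat.pow_right_injective (Fact.out : p.Prime).two_le (hD.2.2.symm.trans hd)
  rw [← Subgroup.index_mul_card (Subgroup.centralizer ({g} : Set G)),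
    Nat.factorization_mul Subgroup.index_ne_zero_of_finite Nat.card_pos.ne', Finsupp.add_apply, hd']

/-- The identity behind the rank bound. -/
theorem sum_identity [Fact p.Prime] [Fintype G] {r : ℕ} (x : Fin r → G)
    (hx : ∀ i j : Fin r, IsConj (x i) (x j) → i = j)
    (hsep : ∀ i j : Fin r, ∀ g h : G, IsConj (x i) g → IsConj (x j) h → ∀ k : ℕ, 0 < k →
      orderOf (g * h⁻¹) ≠ p ^ k) (P : Sylow p G) [Fintype (P : Subgroup G)] (i j : Fin r) :
    ∑ χ : IrrCharacter G, centralChar (χ : G → ℂ) (x i) * conj ((χ : G → ℂ) (x j)) *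
        ((Nat.card (P : Subgroup G) : ℂ)⁻¹ * ∑ u : (P : Subgroup G), (χ : G → ℂ) u) =
      if i = j then ((P : Subgroup G).index : ℂ) else 0 := by
  classical
  have hzero : ∀ u : (P : Subgroup G), u ≠ 1 →
      ∑ χ : IrrCharacter G, centralChar (χ : G → ℂ) (x i) * conj ((χ : G → ℂ) (x j)) *
        (χ : G → ℂ) u = 0 := by
    intro u hu
    have hterm : ∀ χ : IrrCharacter G, centralChar (χ : G → ℂ) (x i) * conj ((χ : G → ℂ) (x j)) *
        (χ : G → ℂ) u = ((Subgroup.centralizer ({x i} : Set G)).index : ℂ) / (Nat.card G : ℂ) *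
          ∑ v : G, (χ : G → ℂ) (x i * (v * u * v⁻¹)) * conj ((χ : G → ℂ) (x j)) := fun χ => by
      rw [← Finset.sum_mul, sum_irr_mul_conj, centralChar]
      have := Chars.irr_apply_one_ne_zero χ
      have hG : (Nat.card G : ℂ) ≠ 0 := Nat.cast_ne_zero.2 Nat.card_pos.ne'
      field_simp
    rw [Finset.sum_congr rfl fun χ _ => hterm χ, ← Finset.mul_sum, Finset.sum_comm,
      Finset.sum_eq_zero fun v _ => Chars.column_orthogonality_of_not_isConj fun hc => ?_, mul_zero]
    obtain ⟨k, hk⟩ := IsPGroup.iff_orderOf.1 P.isPGroup' u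
    have hk0 : 0 < k := by
      by_contra h0
      refine hu ?_
      rw [← orderOf_eq_one_iff, hk, show k = 0 by omega, pow_zero]
    refine hsep i j (x i) (x i * (v * u * v⁻¹)) (IsConj.refl _) hc.symm k hk0 ?_
    rw [show x i * (x i * (v * u * v⁻¹))⁻¹ = (x i * v) * (u : G)⁻¹ * (x i * v)⁻¹ by group]
    exact ((MulAut.conj (x i * v)).orderOf_eq _).trans (by rw [orderOf_inv, Subgroup.orderOf_coe, hk])
  have hsplit : ∀ χ : IrrCharacter G, centralChar (χ : G → ℂ) (x i) * conj ((χ : G → ℂ) (x j)) *
      ((Nat.card (P : Subgroup G) : ℂ)⁻¹ * ∑ u : (P : Subgroup G), (χ : G → ℂ) u) =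
      (Nat.card (P : Subgroup G) : ℂ)⁻¹ * ∑ u : (P : Subgroup G),
        centralChar (χ : G → ℂ) (x i) * conj ((χ : G → ℂ) (x j)) * (χ : G → ℂ) u := fun χ => by
    rw [← Finset.mul_sum]
    ring
  rw [Finset.sum_congr rfl fun χ _ => hsplit χ, ← Finset.mul_sum, Finset.sum_comm,
    Finset.sum_eq_single (1 : (P : Subgroup G)) (fun u _ hu => hzero u hu) (by simp)]
  have hterm1 : ∀ χ : IrrCharacter G, centralChar (χ : G → ℂ) (x i) * conj ((χ : G → ℂ) (x j)) *
      (χ : G → ℂ) ((1 : (P : Subgroup G)) : G) =
      ((Subgroup.centralizer ({x i} : Set G)).index : ℂ) *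
        ((χ : G → ℂ) (x i) * conj ((χ : G → ℂ) (x j))) := fun χ => by
    have := Chars.irr_apply_one_ne_zero χ
    rw [centralChar, OneMemClass.coe_one]
    field_simp
  rw [Finset.sum_congr rfl fun χ _ => hterm1 χ, ← Finset.mul_sum]
  split_ifs with h
  · subst h
    have hP : (Nat.card (P : Subgroup G) : ℂ) ≠ 0 := Nat.cast_ne_zero.2 Nat.card_pos.ne'
    rw [Chars.column_orthogonality_of_isConj (IsConj.refl _), ← Nat.cast_mul,
      Subgroup.index_mul_card, ← Subgroup.index_mul_card (P : Subgroup G), Nat.cast_mul]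
    field_simp
  · rw [Chars.column_orthogonality_of_not_isConj fun hc => h (hx i j hc), mul_zero, mul_zero]

/-- Blocks with the given defect group separating the classes. -/
theorem exists_blocks [Fact p.Prime] (hM : IsPModular p M) (D : Subgroup G) {r : ℕ}
    (x : Fin r → G) (hx : ∀ i j : Fin r, IsConj (x i) (x j) → i = j)
    (hD : ∀ i, IsClassDefect p (x i) D)
    (hsep : ∀ i j : Fin r, ∀ g h : G, IsConj (x i) g → IsConj (x j) h → ∀ k : ℕ, 0 < k →
      orderOf (g * h⁻¹) ≠ p ^ k) :
    ∃ B : Fin r → Set (IrrCharacter G), Function.Injective B ∧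
      (∀ i, IsPBlock M (B i) ∧ IsDefectGroup p M (B i) D) ∧
      ∀ χ : Fin r → IrrCharacter G, (∀ i, χ i ∈ B i ∧ blockHeight p (B i) (χ i : G → ℂ) = 0) →
        ¬ MemLocalIdeal M (Matrix.det (Matrix.of fun i j => (χ i : G → ℂ) (x j))) := by
  classical
  cases nonempty_fintype G
  rcases Nat.eq_zero_or_pos r with rfl | hr
  · refine ⟨fun i => i.elim0, fun i => i.elim0, fun i => i.elim0, fun χ _ => ?_⟩
    rw [Matrix.det_fin_zero]
    exact not_memLocalIdeal_one
  have hDp : IsPGroup p D := (hD ⟨0, hr⟩).1
  obtain ⟨d, hd⟩ := IsPGroup.iff_card.1 hDp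
  obtain ⟨P⟩ : Nonempty (Sylow p G) := inferInstance
  haveI : Fintype (P : Subgroup G) := Fintype.ofFinite _
  set a := (Nat.card G).factorization p with ha
  have hidx : ∀ i, (Subgroup.centralizer ({x i} : Set G)).index.factorization p + d = a :=
    fun i => factorization_index_add (hD i) hd
  -- the reduced sums
  have hmult : ∀ χ : IrrCharacter G, MemLocalRing M
      ((Nat.card (P : Subgroup G) : ℂ)⁻¹ * ∑ u : (P : Subgroup G), (χ : G → ℂ) u) := by
    intro χ
    obtain ⟨c, hc, hsum⟩ := exists_sum_translate_eq (Chars.irr_isCharacter χ) (P : Subgroup G)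
      (g := 1) (one_mem _)
    simp only [one_mul] at hsum
    rw [hsum, inv_mul_cancel_left₀ (Nat.cast_ne_zero.2 Nat.card_pos.ne')]
    exact mem_localRing.1 (isIntegral_mem_localRing hc)
  let mR : IrrCharacter G → localRing M := fun χ => ⟨_, mem_localRing.2 (hmult χ)⟩
  let vR : IrrCharacter G → Fin r → localRing M := fun χ j =>
    ⟨conj ((χ : G → ℂ) (x j)), isIntegral_mem_localRing (Chars.isIntegral_conj (Chars.irr_isIntegral χ _))⟩
  let wR : IrrCharacter G → Fin r → localRing M := fun χ i =>
    ⟨centralChar (χ : G → ℂ) (x i), mem_localRing.2 (memLocalRing_centralChar χ _)⟩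
  have hid : ∀ i j, ∑ χ : IrrCharacter G, residue M (wR χ i) * residue M (vR χ j * mR χ) =
      if i = j then residue M ((P : Subgroup G).index : localRing M) else 0 := by
    intro i j
    simp only [← map_mul, ← map_sum]
    have h1 : (∑ χ : IrrCharacter G, wR χ i * (vR χ j * mR χ)) =
        if i = j then ((P : Subgroup G).index : localRing M) else 0 := by
      refine Subtype.ext ?_
      have h2 := sum_identity x hx hsep P i j
      split_ifs with h
      · rw [if_pos h] at h2
        simp only [AddSubmonoidClass.coe_finsetSum, MulMemClass.coe_mul, SubringClass.coe_natCast]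
        rw [← h2]
        exact Finset.sum_congr rfl fun χ _ => (mul_assoc _ _ _).symm
      · rw [if_neg h] at h2
        simp only [AddSubmonoidClass.coe_finsetSum, MulMemClass.coe_mul, ZeroMemClass.coe_zero]
        rw [← h2]
        exact Finset.sum_congr rfl fun χ _ => (mul_assoc _ _ _).symm
    rw [h1]
    split_ifs <;> simp
  -- only blocks with defect group `D` occur
  have hkey : ∀ χ : IrrCharacter G, ∀ i j, residue M (wR χ i) * residue M (vR χ j * mR χ) ≠ 0 →
      IsDefectGroup p M (blockOf M (χ : G → ℂ)) D := by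
    intro χ i j hne
    obtain ⟨h1, h2⟩ := mul_ne_zero_iff.1 hne
    rw [map_mul] at h2
    have hw : ¬ MemLocalIdeal M (centralChar (χ : G → ℂ) (x i)) := fun h =>
      h1 (residue_eq_zero_iff.2 h)
    obtain ⟨g₀, hg₀⟩ := isDefectClass_exists (isPBlock_blockOf (M := M) χ)
    obtain ⟨D₀, hD₀⟩ := exists_isClassDefect (p := p) g₀
    obtain ⟨y, hy⟩ := exists_conj_le_classDefect hM (isPBlock_blockOf χ) hg₀ hD₀
      (mem_blockOf_self χ) hw (hD i)
    have hdef : IsDefectGroup p M (blockOf M (χ : G → ℂ)) D₀ :=
      isDefectGroup_iff.2 ⟨g₀, hg₀, hD₀⟩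
    have hcard := card_defectGroup hM (isPBlock_blockOf χ) hdef
    have hle : blockDefect p (blockOf M (χ : G → ℂ)) ≤ d := by
      have := (Subgroup.card_le_of_le hy).trans_eq
        ((Subgroup.card_map_of_injective (MulAut.conj y).injective).trans hd)
      rw [hcard] at this
      exact (Nat.pow_le_pow_iff_right (Fact.out : p.Prime).one_lt).1 this
    have hge : d ≤ blockDefect p (blockOf M (χ : G → ℂ)) := by
      by_contra hlt
      refine (mul_ne_zero_iff.1 h2).1 (residue_eq_zero_iff.2 ?_)
      show MemLocalIdeal M (conj ((χ : G → ℂ) (x j)))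
      rw [← Chars.irr_inv, char_eq_centralChar_mul χ (x j)⁻¹]
      refine memLocalIdeal_mul_left (memLocalRing_centralChar χ _)
        (memLocalIdeal_natCast_div hM Subgroup.index_ne_zero_of_finite ?_)
      have h3 := factorization_degree_add_blockDefect hM (isPBlock_blockOf χ) (mem_blockOf_self χ)
      have h4 := hidx j
      rw [show Subgroup.centralizer ({(x j)⁻¹} : Set G) = Subgroup.centralizer ({x j} : Set G) from
        Subgroup.ext fun g => by
          simp only [Subgroup.mem_centralizer_singleton_iff]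
          exact ⟨fun h => by simpa using (show Commute g (x j)⁻¹ from h).inv_right.eq,
            fun h => (show Commute g (x j) from h).inv_right.eq⟩]
      omega
    have heq : Subgroup.map (MulAut.conj y).toMonoidHom D = D₀ :=
      (Subgroup.eq_of_le_of_card_ge hy (by
        rw [Subgroup.card_map_of_injective (MulAut.conj y).injective, hcard, hd]
        exact (Nat.pow_le_pow_iff_right (Fact.out : p.Prime).one_lt).2 hge)).symm
    rw [← heq] at hdef
    have h5 := isDefectGroup_conj hdef y⁻¹
    rwa [Subgroup.map_map, show ((MulAut.conj y⁻¹).toMonoidHom).comp (MulAut.conj y).toMonoidHom =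
      MonoidHom.id G from MonoidHom.ext fun g => by simp [mul_assoc], Subgroup.map_id] at h5
  let S := {B : Set (IrrCharacter G) // IsPBlock M B ∧ IsDefectGroup p M B D}
  haveI : Finite (Set (IrrCharacter G)) := inferInstance
  haveI : Fintype S := Fintype.ofFinite S
  let col : S → Fin r → Residue M := fun B i =>
    residue M (wR (isPBlock_nonempty B.2.1).choose i)
  have hcol : ∀ (B : S) (χ : IrrCharacter G), χ ∈ B.1 → ∀ i, residue M (wR χ i) = col B i :=
    fun B χ hχ i => residue_eq_iff.2
      (sameBlock_of_mem B.2.1 hχ (isPBlock_nonempty B.2.1).choose_spec (x i))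
  have hspan : Submodule.span (Residue M) (Set.range col) = ⊤ := by
    refine eq_top_iff.2 fun v _ => ?_
    have hc : residue M ((P : Subgroup G).index : localRing M) ≠ 0 :=
      (residue_natCast_eq_zero_iff hM _).not.2 P.not_dvd_index
    set c := residue M ((P : Subgroup G).index : localRing M) with hcdef
    have hv : v = ∑ χ : IrrCharacter G,
        (c⁻¹ * ∑ j, residue M (vR χ j * mR χ) * v j) • (fun i => residue M (wR χ i)) := by
      funext i
      simp only [Finset.sum_apply, Pi.smul_apply, smul_eq_mul]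
      calc v i = c⁻¹ * ∑ j, (if i = j then c else 0) * v j := by
            simp [ite_mul, inv_mul_cancel_left₀ hc]
        _ = c⁻¹ * ∑ j, (∑ χ : IrrCharacter G, residue M (wR χ i) * residue M (vR χ j * mR χ)) * v j := by
            simp only [hid, hcdef]
        _ = _ := by
            simp only [Finset.sum_mul, Finset.mul_sum]
            rw [Finset.sum_comm]
            exact Finset.sum_congr rfl fun χ _ => Finset.sum_congr rfl fun j _ => by ring
    rw [hv]
    refine Submodule.sum_mem _ fun χ _ => ?_
    by_cases hDχ : IsDefectGroup p M (blockOf M (χ : G → ℂ)) D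
    · refine Submodule.smul_mem _ _ (Submodule.subset_span ⟨⟨_, isPBlock_blockOf χ, hDχ⟩, ?_⟩)
      exact funext fun i => (hcol _ χ (mem_blockOf_self χ) i).symm
    · rw [show (c⁻¹ * ∑ j, residue M (vR χ j * mR χ) * v j) • (fun i => residue M (wR χ i)) = 0 from
        funext fun i => ?_]
      · exact Submodule.zero_mem _
      simp only [Pi.smul_apply, smul_eq_mul, Pi.zero_apply, Finset.mul_sum, Finset.sum_mul]
      refine Finset.sum_eq_zero fun j _ => ?_
      have : residue M (wR χ i) * residue M (vR χ j * mR χ) = 0 := by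
        by_contra h
        exact hDχ (hkey χ i j h)
      calc c⁻¹ * (residue M (vR χ j * mR χ) * v j) * residue M (wR χ i)
          = c⁻¹ * v j * (residue M (wR χ i) * residue M (vR χ j * mR χ)) := by ring
        _ = 0 := by rw [this, mul_zero]
  obtain ⟨b, hb, hbspan, hbli⟩ := exists_linearIndependent (Residue M) (Set.range col)
  rw [hspan] at hbspan
  let bas : Module.Basis b (Residue M) (Fin r → Residue M) :=
    Module.Basis.mk hbli (by rw [Subtype.range_coe]; exact hbspan.ge)
  haveI : Fintype b := ((Set.finite_range col).subset hb).fintype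
  have hcardb : Fintype.card b = r := by
    rw [← Module.finrank_eq_card_basis bas, Module.finrank_fin_fun]
  let e : Fin r ≃ b := (Fintype.equivFinOfCardEq hcardb).symm
  choose pre hpre using fun k : Fin r => hb (e k).2
  have hli : LinearIndependent (Residue M) fun k => col (pre k) := by
    have h := hbli.comp e e.injective
    rwa [show (((↑) : b → Fin r → Residue M) ∘ e) = fun k => col (pre k) from
      funext fun k => (hpre k).symm] at h
  refine ⟨fun k => (pre k).1, fun k k' h => hli.injective (congrArg col (Subtype.ext h)),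
    fun k => (pre k).2, fun χ hχ hmem => ?_⟩
  let R : Fin r → localRing M := fun k =>
    ⟨(charDegree (χ k : G → ℂ) : ℂ) / ((p ^ (a - d) : ℕ) : ℂ), by
      refine natCast_div_mem_localRing hM (pow_ne_zero _ hM.1.ne_zero) (Or.inl ?_)
      have h3 := factorization_degree_add_blockDefect hM (pre k).2.1 (hχ k).1
      have h4 := card_defectGroup hM (pre k).2.1 (pre k).2.2
      rw [hd] at h4
      have h5 := Nat.pow_right_injective hM.1.two_le h4
      rw [hM.1.factorization_pow, Finsupp.single_eq_same]
      rw [(hχ k).2] at h3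
      omega⟩
  let C : Fin r → localRing M := fun j =>
    ⟨((p ^ (a - d) : ℕ) : ℂ) / ((Subgroup.centralizer ({x j} : Set G)).index : ℂ),
      natCast_div_mem_localRing hM Subgroup.index_ne_zero_of_finite (Or.inl (by
        rw [hM.1.factorization_pow, Finsupp.single_eq_same]
        have := hidx j
        omega))⟩
  have hR : ∀ k, residue M (R k) ≠ 0 := fun k h => by
    have h' := residue_eq_zero_iff.1 h
    have h3 := factorization_degree_add_blockDefect hM (pre k).2.1 (hχ k).1
    have h4 := card_defectGroup hM (pre k).2.1 (pre k).2.2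
    rw [hd] at h4
    have h5 := Nat.pow_right_injective hM.1.two_le h4
    rw [(hχ k).2] at h3
    obtain ⟨-, h0, -⟩ := exists_degree_eq (χ k)
    refine not_memLocalIdeal_one (M := M) ?_
    have h6 := memLocalIdeal_mul_right h' (natCast_div_mem_localRing hM h0
      (a := p ^ (a - d)) (Or.inl (by
        rw [hM.1.factorization_pow, Finsupp.single_eq_same]
        omega)))
    simp only [R] at h6
    rwa [div_mul_div_cancel₀ (Nat.cast_ne_zero.2 (pow_ne_zero _ hM.1.ne_zero)),
      div_self (Nat.cast_ne_zero.2 h0)] at h6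
  have hC : ∀ j, residue M (C j) ≠ 0 := fun j h => by
    have h' := residue_eq_zero_iff.1 h
    refine not_memLocalIdeal_one (M := M) ?_
    have h6 := memLocalIdeal_mul_right h' (natCast_div_mem_localRing hM
      (pow_ne_zero (a - d) hM.1.ne_zero)
      (a := (Subgroup.centralizer ({x j} : Set G)).index) (Or.inl (by
        rw [hM.1.factorization_pow, Finsupp.single_eq_same]
        have := hidx j
        omega)))
    simp only [C] at h6
    rwa [div_mul_div_cancel₀ (Nat.cast_ne_zero.2 Subgroup.index_ne_zero_of_finite),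
      div_self (Nat.cast_ne_zero.2 (pow_ne_zero _ hM.1.ne_zero))] at h6
  let E : Matrix (Fin r) (Fin r) (localRing M) := Matrix.of fun k j =>
    R k * (C j * wR (χ k) j)
  have hE : (Matrix.of fun k j => (χ k : G → ℂ) (x j)) = (localRing M).subtype.mapMatrix E := by
    ext k j
    simp only [E, RingHom.mapMatrix_apply, Matrix.map_apply, Matrix.of_apply, Subring.coe_subtype,
      MulMemClass.coe_mul, R, C, wR]
    rw [char_eq_centralChar_mul (χ k) (x j)]
    have : ((p ^ (a - d) : ℕ) : ℂ) ≠ 0 := Nat.cast_ne_zero.2 (pow_ne_zero _ hM.1.ne_zero)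
    field_simp
  rw [hE, ← RingHom.map_det] at hmem
  have h0 : residue M E.det = 0 := residue_eq_zero_iff.2 hmem
  rw [RingHom.map_det] at h0
  have hmat : (residue M).mapMatrix E = Matrix.of (fun k j => residue M (R k) *
      Matrix.of (fun k j => residue M (C j) * Matrix.of (fun k j => col (pre k) j) k j) k j) := by
    ext k j
    simp only [E, RingHom.mapMatrix_apply, Matrix.map_apply, Matrix.of_apply, map_mul,
      hcol (pre k) (χ k) (hχ k).1 j]
  rw [hmat, Matrix.det_mul_column, Matrix.det_mul_row] at h0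
  rcases mul_eq_zero.1 h0 with h | h
  · exact Finset.prod_ne_zero_iff.2 (fun k _ => hR k) h
  rcases mul_eq_zero.1 h with h | h
  · exact Finset.prod_ne_zero_iff.2 (fun j _ => hC j) h
  · exact ((Matrix.isUnit_iff_isUnit_det _).1
      (Matrix.linearIndependent_rows_iff_isUnit.1 hli)).ne_zero h

end Cfsg.Agent.Lib.Blocks.Separated
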