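import Cfsg.Agent.Lib.Blocks.SmallCentralizerSection
import Cfsg.Agent.Lib.Blocks.KleinPrincipal
import Cfsg.Agent.Lib.GaloisPos.Basic
import Cfsg.Agent.Lib.PSolvable.Core
import Mathlib

/-!
# Characters of degree prime to p in a principal block with a small p-centralizer
-/

set_option autoImplicit false
set_option linter.unusedSectionVars false

namespace Cfsg.Agent.Lib.Blocks.SmallCentralizer

open Cfsg
open Cfsg.Agent.Lib
open Finset
open scoped ComplexConjugate

universe u

variable {G : Type u} [Group G] [Fintype G] {p : ℕ} [hp : Fact p.Prime]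
  {M : Ideal AlgInt} [M.IsPrime]

/-- The bound when the centralizer has a normal p-complement. -/
theorem card_le_of_complement (hM : IsPModular p M) {x : G} {k : ℕ} (hk : orderOf x = p ^ k)
    (hc : ∃ a : ℕ, (pPrimeCore p (Subgroup.centralizer ({x} : Set G))).index = p ^ a)
    (hcard : (Nat.card (Subgroup.centralizer ({x} : Set G))).factorization p ≤ 2) :
    Nat.card {χ : IrrCharacter G // χ ∈ principalBlock M G ∧ ¬ p ∣ charDegree (χ : G → ℂ)} ≤
      p ^ 2 := by
  classical
  set s := univ.filter (fun g : G => Subgroup.zpowers g = Subgroup.zpowers x) with hs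
  have hg_all : ∀ g ∈ s, orderOf g = p ^ k ∧
      Subgroup.centralizer ({g} : Set G) = Subgroup.centralizer ({x} : Set G) := by
    intro g hg
    have hgz := (mem_filter.1 hg).2
    refine ⟨by rw [← Nat.card_zpowers, hgz, Nat.card_zpowers, hk], ?_⟩
    rw [← Subgroup.centralizer_closure, ← Subgroup.zpowers_eq_closure, hgz,
      Subgroup.zpowers_eq_closure, Subgroup.centralizer_closure]
  -- the column sums
  have hcol : ∀ g ∈ s, ∑ χ ∈ (principalBlock M G).toFinset, Complex.normSq ((χ : G → ℂ) g) ≤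
      ((p ^ 2 : ℕ) : ℝ) := by
    intro g hg
    obtain ⟨hgo, hgc⟩ := hg_all g hg
    haveI : Fintype (Subgroup.centralizer ({g} : Set G)) := Fintype.ofFinite _
    have hc' : ∃ a : ℕ, (pPrimeCore p (Subgroup.centralizer ({g} : Set G))).index = p ^ a := by
      rw [hgc]; exact hc
    have h1 : ¬ p ∣ orderOf (1 : Subgroup.centralizer ({g} : Set G)) :=
      PrincipalInner.not_dvd_orderOf_one
    have h := PrincipalSection.sum_norm_sq_eq hM ⟨k, hgo⟩
      (PrincipalInner.secondMain_holds hM ⟨k, hgo⟩) 1 h1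
    rw [PrincipalSection.sum_norm_sq_of_complement hM hc' h1] at h
    simp only [OneMemClass.coe_one, mul_one, finsum_mem_eq_toFinset_sum] at h
    simp only [Complex.normSq_eq_norm_sq]
    rw [h, hgc]
    exact Nat.cast_le.2 (Nat.pow_le_pow_right hp.out.pos hcard)
  -- closure under the powers prime to the order
  have hclosed : ∀ m : ℕ, m.Coprime (Nat.card G) → ∀ g ∈ s, g ^ m ∈ s := by
    intro m hm g hg
    refine mem_filter.2 ⟨mem_univ _, le_antisymm ?_ ?_⟩
    · rw [← (mem_filter.1 hg).2, Subgroup.zpowers_le]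
      exact Subgroup.pow_mem _ (Subgroup.mem_zpowers g) m
    · rw [← (mem_filter.1 hg).2, Subgroup.zpowers_le]
      obtain ⟨a, ha⟩ := exists_pow_eq_self_of_coprime (x := g) (n := m)
        (Nat.Coprime.coprime_dvd_right (orderOf_dvd_natCard g) hm)
      exact ⟨(a : ℤ), by simpa using ha⟩
  set S := (principalBlock M G).toFinset.filter
    (fun χ : IrrCharacter G => ¬ p ∣ charDegree (χ : G → ℂ)) with hS
  have hrow : ∀ χ ∈ S, (s.card : ℝ) ≤ ∑ g ∈ s, Complex.normSq ((χ : G → ℂ) g) := by
    intro χ hχ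
    refine le_trans (le_of_eq ?_) (GaloisPos.card_ne_zero_le_sum_normSq
      (Chars.irr_isCharacter χ) s hclosed)
    rw [filter_true_of_mem]
    intro g hg h0
    have h := BlockCongr.char_congr_one hM (Chars.irr_isCharacter χ) (g := g) (j := k)
      (by rw [← (hg_all g hg).1, pow_orderOf_eq_one])
    rw [h0, zero_sub, ← (HeightZero.charDegree_eq χ).1] at h
    have h2 := memLocalIdeal_neg h
    rw [neg_neg, memLocalIdeal_natCast_iff hM] at h2
    exact (mem_filter.1 hχ).2 h2
  have hs0 : (0 : ℝ) < s.card :=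
    Nat.cast_pos.2 (card_pos.2 ⟨x, mem_filter.2 ⟨mem_univ _, rfl⟩⟩)
  have hle : (S.card : ℝ) * s.card ≤ ((p ^ 2 : ℕ) : ℝ) * s.card := by
    calc (S.card : ℝ) * s.card = ∑ _χ ∈ S, (s.card : ℝ) := by rw [sum_const, nsmul_eq_mul]
      _ ≤ ∑ χ ∈ S, ∑ g ∈ s, Complex.normSq ((χ : G → ℂ) g) := sum_le_sum hrow
      _ = ∑ g ∈ s, ∑ χ ∈ S, Complex.normSq ((χ : G → ℂ) g) := sum_comm
      _ ≤ ∑ _g ∈ s, ((p ^ 2 : ℕ) : ℝ) := sum_le_sum fun g hg =>
          (sum_le_sum_of_subset_of_nonneg (filter_subset _ _)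
            fun _ _ _ => Complex.normSq_nonneg _).trans (hcol g hg)
      _ = _ := by rw [sum_const, nsmul_eq_mul, mul_comm]
  rw [Nat.card_eq_fintype_card, Fintype.card_subtype]
  refine le_of_eq_of_le ?_ (Nat.cast_le.1 (le_of_mul_le_mul_right hle hs0))
  congr 1
  ext χ
  simp [hS]

/-- The bound from a non-identity p-element. -/
theorem card_le_of_ne_one (hM : IsPModular p M) {x : G} {k : ℕ} (hk : orderOf x = p ^ k)
    (hx1 : x ≠ 1)
    (hcard : (Nat.card (Subgroup.centralizer ({x} : Set G))).factorization p ≤ 2) :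
    Nat.card {χ : IrrCharacter G // χ ∈ principalBlock M G ∧ ¬ p ∣ charDegree (χ : G → ℂ)} ≤
      p ^ 2 := by
  classical
  set C := Subgroup.centralizer ({x} : Set G) with hC
  obtain ⟨z, hzx⟩ : ∃ z : C, (z : G) = x :=
    ⟨⟨x, Subgroup.mem_centralizer_singleton_iff.2 rfl⟩, rfl⟩
  have hzo : orderOf z = p ^ k := by rw [← Subgroup.orderOf_coe, hzx]; exact hk
  have hz1 : z ≠ 1 := fun h => hx1 (by rw [← hzx, h, OneMemClass.coe_one])
  have hzc : ∀ h : C, h * z = z * h := fun h => Subtype.ext (by
    rw [Subgroup.coe_mul, Subgroup.coe_mul, hzx]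
    exact Subgroup.mem_centralizer_singleton_iff.1 h.2)
  obtain ⟨R, hR⟩ := (IsPGroup.of_card (n := k) (by rw [Nat.card_zpowers, hzo]) :
    IsPGroup p (Subgroup.zpowers z)).exists_le_sylow
  obtain ⟨n, hn⟩ := IsPGroup.iff_card.1 R.isPGroup'
  have hn2 : n ≤ 2 := by
    have h := Sylow.card_eq_multiplicity R
    rw [hn] at h
    exact (Nat.pow_right_injective hp.out.two_le h).le.trans hcard
  haveI : IsMulCommutative (R : Subgroup C) := by
    interval_cases n
    · haveI : Subsingleton (R : Subgroup C) :=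
        (Nat.card_eq_one_iff_unique.1 (by simpa using hn)).1
      exact ⟨⟨fun a b => Subsingleton.elim _ _⟩⟩
    · haveI : IsCyclic (R : Subgroup C) := isCyclic_of_prime_card (by simpa using hn)
      infer_instance
    · exact IsPGroup.isMulCommutative_of_card_eq_prime_sq hn
  letI : CommGroup (R : Subgroup C) :=
    { (inferInstance : Group (R : Subgroup C)) with mul_comm := fun a b => mul_comm' a b }
  set τ : C →* (R : Subgroup C) := MonoidHom.transfer (MonoidHom.id (R : Subgroup C)) with hτ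
  have hpm : ¬ p ∣ (R : Subgroup C).index := R.not_dvd_index
  have hzi : (τ z : C) = z ^ (R : Subgroup C).index := by
    rw [hτ, MonoidHom.transfer_eq_pow _ z fun i g₀ _ => by
      rw [mul_assoc, ← (Commute.pow_right (hzc g₀) i).eq, inv_mul_cancel_left]]
    rfl
  have hτo : orderOf (τ z) = p ^ k := by
    rw [← Subgroup.orderOf_coe, hzi, Nat.Coprime.orderOf_pow, hzo]
    rw [hzo]
    exact (Nat.Coprime.pow_left k ((hp.out.coprime_iff_not_dvd).2 hpm))
  have hτ1 : τ z ≠ 1 := fun h => hz1 (orderOf_eq_one_iff.1 (by rw [hzo, ← hτo, h, orderOf_one]))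
  obtain ⟨a, ha, hrange⟩ : ∃ a ≤ n, Nat.card τ.range = p ^ a :=
    (Nat.dvd_prime_pow hp.out).1 (hn ▸ Subgroup.card_subgroup_dvd_card τ.range)
  have hidx : τ.ker.index = p ^ a := by rw [Subgroup.index_ker, hrange]
  have ha0 : a ≠ 0 := by
    rintro rfl
    haveI : Subsingleton τ.range :=
      (Nat.card_eq_one_iff_unique.1 (by simpa using hrange)).1
    exact hτ1 (congrArg Subtype.val (Subsingleton.elim (⟨τ z, z, rfl⟩ : τ.range) 1))
  have hfac : (Nat.card C).factorization p = n := by
    have h := Sylow.card_eq_multiplicity R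
    rw [hn] at h
    exact (Nat.pow_right_injective hp.out.two_le h).symm
  rcases ha.eq_or_lt with rfl | hlt
  · -- a normal p-complement
    have hker : ¬ p ∣ Nat.card τ.ker := by
      intro h
      have h2 := Nat.card_pos (α := C)
      rw [← τ.ker.card_mul_index, hidx, Nat.factorization_mul Nat.card_pos.ne'
        (pow_ne_zero _ hp.out.ne_zero), Finsupp.add_apply, hp.out.factorization_pow,
        Finsupp.single_eq_same] at hfac
      have := hp.out.factorization_pos_of_dvd Nat.card_pos.ne' h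
      omega
    refine card_le_of_complement hM hk ?_ hcard
    have hle : τ.ker ≤ pPrimeCore p C := PSolvable.le_pPrimeCore
      ((hp.out.coprime_iff_not_dvd).2 hker).symm
    obtain ⟨b, -, hb⟩ := (Nat.dvd_prime_pow hp.out).1 (hidx ▸ Subgroup.index_dvd_of_le hle)
    exact ⟨b, hb⟩
  · have ha1 : a = 1 := by omega
    have hn' : n = 2 := by omega
    subst ha1 hn'
    rw [pow_one] at hrange
    have hk1 : k = 1 := by
      have h := hτo ▸ Subgroup.orderOf_dvd_natCard τ.range ⟨z, rfl⟩
      rw [hrange] at h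
      have hk0 : k ≠ 0 := by rintro rfl; exact hτ1 (orderOf_eq_one_iff.1 (by simpa using hτo))
      have := (Nat.pow_dvd_pow_iff_le_right hp.out.one_lt).1 (by simpa using h : p ^ k ∣ p ^ 1)
      omega
    subst hk1
    haveI : Fintype C := Fintype.ofFinite _
    exact card_le_of_split hM (by simpa using hk) C rfl hfac τ.ker (by simpa using hidx) z hzx
      (fun h => hτ1 (MonoidHom.mem_ker.1 h))

/-- The bound in general. -/
theorem card_le (hM : IsPModular p M) {x : G} (hx : ∃ k : ℕ, orderOf x = p ^ k)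
    (hcard : (Nat.card (Subgroup.centralizer ({x} : Set G))).factorization p ≤ 2) :
    Nat.card {χ : IrrCharacter G // χ ∈ principalBlock M G ∧ ¬ p ∣ charDegree (χ : G → ℂ)} ≤
      p ^ 2 := by
  classical
  obtain ⟨k, hk⟩ := hx
  rcases ne_or_eq x 1 with hx1 | rfl
  · exact card_le_of_ne_one hM hk hx1 hcard
  have htop : Subgroup.centralizer ({1} : Set G) = ⊤ :=
    eq_top_iff.2 fun g _ => Subgroup.mem_centralizer_singleton_iff.2 (by simp)
  rw [htop, Subgroup.card_top] at hcard
  by_cases hdvd : p ∣ Nat.card G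
  · obtain ⟨y, hy⟩ := exists_prime_orderOf_dvd_card' p hdvd
    refine card_le_of_ne_one hM (k := 1) (by rw [pow_one]; exact hy)
      (fun h => hp.out.ne_one (by rw [← hy, h, orderOf_one])) (le_trans ?_ hcard)
    exact (Nat.factorization_le_iff_dvd Nat.card_pos.ne' Nat.card_pos.ne').2
      (Subgroup.card_subgroup_dvd_card _) p
  · have h := BrauerFeit.card_le hM (BrauerFeit.regOrth hM) (BrauerFeit.regGen p)
      (PrincipalSection.isPBlock_principalBlock M G)
    have hd : blockDefect p (principalBlock M G) = 0 :=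
      Nat.eq_zero_of_le_zero ((Nat.sub_le _ _).trans
        (Nat.factorization_eq_zero_of_not_dvd hdvd).le)
    rw [hd] at h
    calc Nat.card {χ : IrrCharacter G // χ ∈ principalBlock M G ∧ ¬ p ∣ charDegree (χ : G → ℂ)}
        ≤ Nat.card (principalBlock M G) :=
          Nat.card_le_card_of_injective (fun χ => ⟨χ.1, χ.2.1⟩)
            (fun a b hab => Subtype.ext (by simpa using congrArg Subtype.val hab))
      _ ≤ 1 := by simpa using h
      _ ≤ p ^ 2 := Nat.one_le_pow _ _ hp.out.pos

end Cfsg.Agent.Lib.Blocks.SmallCentralizer
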