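import Cfsg.Agent.Lib.DefectOne.PrincipalStructure
import Cfsg.Agent.Lib.Blocks.PPart
import Cfsg.Agent.Lib.Chars.Basic
import Mathlib

/-!
# Regular norms of combinations of the nodes of a principal block of defect one
-/

set_option autoImplicit false
set_option linter.unusedSectionVars false

namespace Cfsg.Agent.Lib.Blocks.SmallCentralizer

open Cfsg
open Cfsg.Agent.Lib
open Finset
open scoped ComplexConjugate

universe u

variable {K : Type u} [Group K] [Fintype K] {p : ℕ} [hp : Fact p.Prime]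

/-- A p-singular element is conjugate to a product of a generator of the Sylow subgroup with a
p-regular element of its centralizer. -/
theorem exists_decomp (P : Sylow p K) (hP : Nat.card P = p) {s : K} (hs : p ∣ orderOf s) :
    ∃ c u y : K, u ∈ (P : Subgroup K) ∧ u ≠ 1 ∧
      y ∈ Subgroup.centralizer ((P : Subgroup K) : Set K) ∧ ¬ p ∣ orderOf y ∧
      c * (u * y) * c⁻¹ = s := by
  obtain ⟨u₀, hu₀⟩ := Blocks.exists_isPPart (p := p) s
  have hne := Blocks.isPPart_ne_one hu₀ hs
  obtain ⟨y₀, hy₀, hcomm, ⟨k, hk⟩, hyreg⟩ := hu₀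
  obtain ⟨Q, hQ⟩ := (IsPGroup.of_card (n := k)
    (by rw [Nat.card_zpowers, hk]) : IsPGroup p (Subgroup.zpowers u₀)).exists_le_sylow
  obtain ⟨c, rfl⟩ := MulAction.exists_smul_eq K P Q
  obtain ⟨u, hu, hcu⟩ : ∃ u ∈ (P : Subgroup K), c * u * c⁻¹ = u₀ := by
    have h := hQ (Subgroup.mem_zpowers u₀)
    rw [Sylow.coe_subgroup_smul, Subgroup.mem_pointwise_smul_iff_inv_smul_mem] at h
    refine ⟨_, h, ?_⟩
    simp only [MulAut.smul_def, ← map_inv, MulAut.conj_apply]
    group
  have hu1 : u ≠ 1 := fun h => hne (by rw [← hcu, h, mul_one, mul_inv_cancel])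
  have hcom : Commute u (c⁻¹ * y₀ * c) := by
    show u * (c⁻¹ * y₀ * c) = c⁻¹ * y₀ * c * u
    have h : u₀ * y₀ = y₀ * u₀ := hcomm
    rw [← hcu] at h
    calc u * (c⁻¹ * y₀ * c) = c⁻¹ * (c * u * c⁻¹ * y₀) * c := by group
      _ = c⁻¹ * (y₀ * (c * u * c⁻¹)) * c := by rw [h]
      _ = c⁻¹ * y₀ * c * u := by group
  refine ⟨c, u, c⁻¹ * y₀ * c, hu, hu1, ?_, ?_, ?_⟩
  · rw [(DefectOne.sylow_eq_zpowers P hP hu hu1).1, Subgroup.mem_centralizer_iff]
    rintro _ ⟨i, rfl⟩
    exact (hcom.zpow_left i).eq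
  · rw [show c⁻¹ * y₀ * c = MulAut.conj c⁻¹ y₀ by simp, MulEquiv.orderOf_eq]
    exact hyreg
  · rw [← hy₀, ← hcu]
    group

/-- The order of the inertial quotient is less than `p`. -/
theorem relIndex_lt (P : Sylow p K) (hP : Nat.card P = p) :
    0 < (Subgroup.centralizer ((P : Subgroup K) : Set K)).relIndex
        (Subgroup.normalizer ((P : Subgroup K) : Set K)) ∧
      (Subgroup.centralizer ((P : Subgroup K) : Set K)).relIndex
        (Subgroup.normalizer ((P : Subgroup K) : Set K)) + 1 ≤ p := by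
  obtain ⟨x, hx, hx1⟩ : ∃ x ∈ (P : Subgroup K), x ≠ 1 :=
    (Subgroup.bot_or_exists_ne_one (P : Subgroup K)).resolve_left fun h => hp.out.ne_one (by
      rw [← hP]; exact (Subgroup.eq_bot_iff_card _).1 h)
  refine ⟨Nat.pos_of_ne_zero Subgroup.index_ne_zero_of_finite, ?_⟩
  obtain ⟨S, rfl, -, -⟩ := DefectOne.exists_local P hP hx hx1
  rw [DefectOne.relIndex_centralizer P hP hx hx1]
  have := Nat.le_of_dvd (Nat.sub_pos_of_lt hp.out.one_lt) (DefectOne.card_fusion_dvd S)
  have := hp.out.pos
  omega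

open Classical in
/-- The number of p-singular elements. -/
theorem card_singular_le (P : Sylow p K) (hP : Nat.card P = p) :
    (univ.filter fun s : K => p ∣ orderOf s).card *
        (p * (Subgroup.centralizer ((P : Subgroup K) : Set K)).relIndex
          (Subgroup.normalizer ((P : Subgroup K) : Set K))) ≤ (p - 1) * Nat.card K := by
  classical
  set C := Subgroup.centralizer ((P : Subgroup K) : Set K) with hC
  set N := Subgroup.normalizer ((P : Subgroup K) : Set K) with hN
  set Pn : Finset K := univ.filter fun u => u ∈ (P : Subgroup K) ∧ u ≠ 1 with hPn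
  set Rg : Finset K := univ.filter fun y => y ∈ C ∧ ¬ p ∣ orderOf y with hRg
  set T : Finset K := univ.filter fun s : K => p ∣ orderOf s with hT
  set D : Finset (K × K × K) := univ ×ˢ (Pn ×ˢ Rg) with hD
  let f : K × K × K → K := fun t => t.1 * (t.2.1 * t.2.2) * t.1⁻¹
  have hfib : ∀ s ∈ T, Nat.card N ≤ (D.filter fun t => f t = s).card := by
    intro s hs
    obtain ⟨c, u, y, hu, hu1, hy, hyr, hcs⟩ := exists_decomp P hP (mem_filter.1 hs).2
    rw [Nat.card_eq_fintype_card, ← Finset.card_univ]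
    refine Finset.card_le_card_of_injOn
      (fun n : N => (c * (n : K), (n : K)⁻¹ * u * n, (n : K)⁻¹ * y * n)) (fun n _ => ?_) ?_
    · have hn : ∀ z : K, z ∈ (P : Subgroup K) ↔ (n : K)⁻¹ * z * n ∈ (P : Subgroup K) := fun z => by
        simpa using Subgroup.mem_normalizer_iff.1 (N.inv_mem n.2) z
      refine mem_filter.2 ⟨mem_product.2 ⟨mem_univ _, mem_product.2 ⟨mem_filter.2
        ⟨mem_univ _, (hn u).1 hu, fun h => hu1 ?_⟩, mem_filter.2 ⟨mem_univ _, ?_, ?_⟩⟩⟩, ?_⟩
      · dsimp only at h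
        calc u = (n : K) * ((n : K)⁻¹ * u * n) * (n : K)⁻¹ := by group
          _ = 1 := by rw [h]; group
      · dsimp only
        rw [hC, Subgroup.mem_centralizer_iff]
        rw [Subgroup.mem_centralizer_iff] at hy
        intro z hz
        have hz' : (n : K) * z * (n : K)⁻¹ ∈ (P : Subgroup K) :=
          (Subgroup.mem_normalizer_iff.1 n.2 z).1 hz
        have h := hy _ hz'
        calc z * ((n : K)⁻¹ * y * n) = (n : K)⁻¹ * ((n : K) * z * (n : K)⁻¹ * y) * n := by group
          _ = (n : K)⁻¹ * (y * ((n : K) * z * (n : K)⁻¹)) * n := by rw [h]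
          _ = (n : K)⁻¹ * y * n * z := by group
      · dsimp only
        rw [show (n : K)⁻¹ * y * n = MulAut.conj (n : K)⁻¹ y by simp, MulEquiv.orderOf_eq]
        exact hyr
      · simp only [f]
        rw [← hcs]
        group
    · intro a _ b _ h
      exact Subtype.ext (mul_left_cancel (congrArg Prod.fst h))
  have hPc : Pn.card + 1 = p := by
    have h1 : Pn = (univ.filter fun u => u ∈ (P : Subgroup K)).erase 1 := by
      ext u; simp [hPn, and_comm]
    rw [h1, card_erase_add_one (by simp), ← Fintype.card_subtype, ← Nat.card_eq_fintype_card]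
    exact hP
  have hRc : Rg.card * p ≤ Nat.card C := by
    have hPC : (P : Subgroup K) ≤ C := by
      haveI : IsCyclic P := isCyclic_of_prime_card hP
      exact Subgroup.le_centralizer_iff_isMulCommutative.2 inferInstance
    have hinj : Rg.card ≤ Nat.card (C ⧸ (P : Subgroup K).subgroupOf C) := by
      rw [Nat.card_eq_fintype_card, ← Finset.card_univ]
      refine Finset.card_le_card_of_injOn
        (fun y => if h : y ∈ C then QuotientGroup.mk ⟨y, h⟩ else QuotientGroup.mk 1)
        (fun _ _ => mem_univ _) ?_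
      intro a ha b hb hab
      obtain ⟨-, haC, har⟩ := mem_filter.1 (mem_coe.1 ha)
      obtain ⟨-, hbC, hbr⟩ := mem_filter.1 (mem_coe.1 hb)
      simp only [dif_pos haC, dif_pos hbC] at hab
      have hz : a⁻¹ * b ∈ (P : Subgroup K) := Subgroup.mem_subgroupOf.1 (QuotientGroup.eq.1 hab)
      have hcab : Commute a (a⁻¹ * b) :=
        (Subgroup.mem_centralizer_iff.1 haC _ hz).symm
      have hpow : (a⁻¹ * b) ^ p = 1 := by
        rw [← hP]
        exact congrArg Subtype.val (pow_card_eq_one' (x := (⟨_, hz⟩ : (P : Subgroup K))))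
      have hb' : b ^ p = a ^ p := by
        rw [show b = a * (a⁻¹ * b) by group, hcab.mul_pow, hpow, mul_one]
      have key : ∀ w : K, ¬ p ∣ orderOf w → ∀ z : K, Commute z (w ^ p) → Commute z w := by
        intro w hw z hz
        obtain ⟨m, hm⟩ := exists_pow_eq_self_of_coprime (x := w)
          ((hp.out.coprime_iff_not_dvd).2 hw)
        rw [← hm]
        exact hz.pow_right m
      obtain ⟨m, hm⟩ := exists_pow_eq_self_of_coprime (x := a * 1)
        ((hp.out.coprime_iff_not_dvd).2 (by simpa using har))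
      have hcomab : Commute a b := key b hbr a (hb' ▸ (Commute.refl a).pow_right p)
      have hreg : ¬ p ∣ orderOf (a⁻¹ * b) := fun h => by
        have := h.trans (hcomab.inv_left.orderOf_mul_dvd_mul_orderOf)
        rw [orderOf_inv] at this
        exact (hp.out.dvd_mul.1 this).elim har hbr
      have h1 : orderOf (a⁻¹ * b) = 1 := by
        rcases hp.out.eq_one_or_self_of_dvd _ (orderOf_dvd_of_pow_eq_one hpow) with h | h
        · exact h
        · exact absurd (dvd_of_eq h.symm) hreg
      exact inv_mul_eq_one.1 (orderOf_eq_one_iff.1 h1)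
    have h2 := ((P : Subgroup K).subgroupOf C).card_mul_index
    rw [Nat.card_congr (Subgroup.subgroupOfEquivOfLe hPC).toEquiv, Subgroup.index] at h2
    rw [← h2, mul_comm, hP]
    exact Nat.mul_le_mul_left _ hinj
  have hCN : C ≤ N := Subgroup.centralizer_le_normalizer _
  have hNC : Nat.card N = Nat.card C * C.relIndex N := by
    rw [← Nat.card_congr (Subgroup.subgroupOfEquivOfLe hCN).toEquiv, Subgroup.relIndex,
      Subgroup.card_mul_index]
  have hmain : T.card * Nat.card N ≤ Nat.card K * (Pn.card * Rg.card) := by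
    calc T.card * Nat.card N = ∑ _s ∈ T, Nat.card N := by simp
      _ ≤ ∑ s ∈ T, (D.filter fun t => f t = s).card := sum_le_sum hfib
      _ ≤ D.card := by
        rw [← card_biUnion]
        · exact card_le_card (biUnion_subset.2 fun s _ => filter_subset _ _)
        · intro a _ b _ hab
          simp only [Function.onFun, disjoint_left, mem_filter]
          exact fun t h1 h2 => hab (h1.2.symm.trans h2.2)
      _ = _ := by simp [hD, Nat.card_eq_fintype_card]
  rw [hNC] at hmain
  refine Nat.le_of_mul_le_mul_left ?_ (Nat.card_pos (α := C))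
  rw [show p - 1 = Pn.card by omega]
  calc Nat.card C * (T.card * (p * C.relIndex N))
      = p * (T.card * (Nat.card C * C.relIndex N)) := by ring
    _ ≤ p * (Nat.card K * (Pn.card * Rg.card)) := Nat.mul_le_mul_left _ hmain
    _ = Nat.card K * Pn.card * (Rg.card * p) := by ring
    _ ≤ Nat.card K * Pn.card * Nat.card C := Nat.mul_le_mul_left _ hRc
    _ = _ := by ring

open Classical in
/-- Lower bound for the regular norm of a combination of the nodes. -/
theorem regular_bound (P : Sylow p K) (hP : Nat.card P = p) {e : ℕ}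
    (he : (Subgroup.centralizer ((P : Subgroup K) : Set K)).relIndex
      (Subgroup.normalizer ((P : Subgroup K) : Set K)) = e)
    (A : Finset (IrrCharacter K)) (δ : IrrCharacter K → ℤ)
    (hA : ∀ χ ∈ A, (δ χ = 1 ∨ δ χ = -1) ∧
      ∀ x : K, x ∈ (P : Subgroup K) → x ≠ 1 → ∀ y : K,
        y ∈ Subgroup.centralizer ((P : Subgroup K) : Set K) → ¬ p ∣ orderOf y →
          (χ : K → ℂ) (x * y) = (δ χ : ℂ))
    (z : IrrCharacter K → ℂ) :
    (Nat.card K : ℝ) * ((e : ℝ) * p * ∑ ξ ∈ A, Complex.normSq (z ξ) -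
        ((p : ℝ) - 1) * Complex.normSq (∑ ξ ∈ A, z ξ)) ≤
      (e : ℝ) * p * ∑ s ∈ univ.filter (fun s : K => ¬ p ∣ orderOf s),
        Complex.normSq (∑ ξ ∈ A, z ξ * (δ ξ : ℂ) * (ξ : K → ℂ) s) := by
  classical
  set F : K → ℂ := fun s => ∑ ξ ∈ A, z ξ * (δ ξ : ℂ) * (ξ : K → ℂ) s with hF
  have hsq : ∀ ξ ∈ A, (δ ξ : ℂ) * (δ ξ : ℂ) = 1 := fun ξ hξ => by
    rcases (hA ξ hξ).1 with h | h <;> simp [h]
  have hall : ∑ s : K, Complex.normSq (F s) = (Nat.card K : ℝ) * ∑ ξ ∈ A, Complex.normSq (z ξ) := by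
    apply Complex.ofReal_injective
    push_cast
    have h1 : classInner F F = ∑ ξ ∈ A, (Complex.normSq (z ξ) : ℂ) := by
      have hFsum : F = ∑ ξ : IrrCharacter K,
          (if ξ ∈ A then z ξ * (δ ξ : ℂ) else 0) • (ξ : K → ℂ) := by
        funext s
        simp only [hF, Finset.sum_apply, Pi.smul_apply, smul_eq_mul, ite_mul, zero_mul,
          ← sum_filter, filter_mem_eq_inter, univ_inter]
      rw [hFsum, Chars.classInner_sum_smul_sum_smul]
      simp only [ite_mul, zero_mul, ← sum_filter, filter_mem_eq_inter, univ_inter]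
      refine sum_congr rfl fun ξ hξ => ?_
      rw [if_pos hξ, ← Complex.mul_conj, map_mul, map_intCast, mul_mul_mul_comm, hsq ξ hξ, mul_one]
    rw [classInner, inv_mul_eq_iff_eq_mul₀ Chars.natCard_ne_zero] at h1
    simp only [← Complex.mul_conj] at h1 ⊢
    exact h1
  have hT : ∀ s : K, p ∣ orderOf s → F s = ∑ ξ ∈ A, z ξ := by
    intro s hs
    obtain ⟨c, u, y, hu, hu1, hy, hyr, rfl⟩ := exists_decomp P hP hs
    refine sum_congr rfl fun ξ hξ => ?_
    rw [Chars.irr_isClassFunction ξ, (hA ξ hξ).2 u hu hu1 y hy hyr, mul_assoc, hsq ξ hξ, mul_one]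
  have hsplit := sum_filter_add_sum_filter_not (univ : Finset K) (fun s => p ∣ orderOf s)
    (fun s => Complex.normSq (F s))
  rw [hall, sum_congr rfl fun s hs => congrArg Complex.normSq (hT s (mem_filter.1 hs).2),
    sum_const, nsmul_eq_mul] at hsplit
  have hcount := card_singular_le P hP
  rw [he] at hcount
  have hcount' : ((univ.filter fun s : K => p ∣ orderOf s).card : ℝ) * ((p : ℝ) * e) ≤
      ((p : ℝ) - 1) * (Nat.card K : ℝ) := by
    have := (Nat.cast_le (α := ℝ)).2 hcount
    push_cast [Nat.cast_sub hp.out.one_le] at this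
    exact this
  have := mul_le_mul_of_nonneg_right hcount' (Complex.normSq_nonneg (∑ ξ ∈ A, z ξ))
  have h5 := congrArg (fun t : ℝ => (e : ℝ) * p * t) hsplit
  show _ ≤ (e : ℝ) * p * ∑ s ∈ _, Complex.normSq (F s)
  linarith

end Cfsg.Agent.Lib.Blocks.SmallCentralizer
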