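import Cfsg.Agent.Lib.Blocks.SmallCentralizerSplit
import Cfsg.Agent.Lib.Blocks.SmallCentralizerLocal
import Cfsg.Agent.Lib.DefectOne.LatticeBound
import Cfsg.Agent.Lib.Blocks.PrincipalInner
import Mathlib

/-!
# The bound from a centralizer with an elementary abelian Sylow subgroup of order p²
-/

set_option autoImplicit false
set_option linter.unusedSectionVars false

namespace Cfsg.Agent.Lib.Blocks.SmallCentralizer

open Cfsg
open Cfsg.Agent.Lib
open Finset
open scoped ComplexConjugate

universe u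

variable {G : Type u} [Group G] [Fintype G] {p : ℕ} [hp : Fact p.Prime]
  {M : Ideal AlgInt} [M.IsPrime]

open Classical in
/-- The two facts about a section, over a subgroup equal to the centralizer. -/
theorem section_facts (hM : IsPModular p M) {x : G} (hx : ∃ k : ℕ, orderOf x = p ^ k)
    (H : Subgroup G) (hH : Subgroup.centralizer ({x} : Set G) = H) [Fintype H] :
    (∀ χ ∈ principalBlock M G, ∀ y : H, ¬ p ∣ orderOf y →
      (χ : G → ℂ) (x * (y : G)) = ∑ η ∈ (principalBlock M H).toFinset,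
        classInner (fun c : H => (χ : G → ℂ) (x * (c : G))) (η : H → ℂ) * (η : H → ℂ) y) ∧
    ∀ y : H, ¬ p ∣ orderOf y →
      ∑ χ ∈ (principalBlock M G).toFinset, Complex.normSq ((χ : G → ℂ) (x * (y : G))) =
        ∑ η ∈ (principalBlock M H).toFinset, Complex.normSq ((η : H → ℂ) y) := by
  subst hH
  refine ⟨fun χ hχ y hy => ?_, fun y hy => ?_⟩
  · refine (PrincipalSection.section_eq_blockPart hM hx (PrincipalInner.secondMain_holds hM hx)
      hχ hy).trans ((PrincipalSection.blockPart_apply _ _ _).trans ?_)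
    rw [← sum_filter]
    exact sum_congr (by ext η; simp) fun _ _ => rfl
  · have h := PrincipalSection.sum_norm_sq_eq hM hx (PrincipalInner.secondMain_holds hM hx) y hy
    simp only [finsum_mem_eq_toFinset_sum] at h
    simp only [Complex.normSq_eq_norm_sq]
    exact h

open Classical in
/-- The count of characters of degree prime to `p`, from a split centralizer. -/
theorem card_le_of_split (hM : IsPModular p M) {x : G} (hxp : orderOf x = p) (H : Subgroup G)
    (hH : Subgroup.centralizer ({x} : Set G) = H) [Fintype H]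
    (hcard : (Nat.card H).factorization p = 2)
    (C0 : Subgroup H) [C0.Normal] (hidx : C0.index = p)
    (z : H) (hzx : (z : G) = x) (hxn : z ∉ C0) :
    Nat.card {χ : IrrCharacter G // χ ∈ principalBlock M G ∧ ¬ p ∣ charDegree (χ : G → ℂ)} ≤
      p ^ 2 := by
  classical
  haveI : NeZero p := ⟨hp.out.ne_zero⟩
  haveI : Fintype C0 := Fintype.ofFinite _
  have hHmem : ∀ g : G, g ∈ H ↔ g * x = x * g := fun g => by
    rw [← hH, Subgroup.mem_centralizer_singleton_iff]
  have hz : z ∈ Subgroup.center H := Subgroup.mem_center_iff.2 fun h => Subtype.ext (by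
    rw [Subgroup.coe_mul, Subgroup.coe_mul, hzx]
    exact (hHmem h).1 h.2)
  have hzp : orderOf z = p := by rw [← Subgroup.orderOf_coe, hzx]; exact hxp
  -- the subgroup of index `p`
  let P : Sylow p C0 := default
  have hP : Nat.card P = p := by
    rw [Sylow.card_eq_multiplicity]
    rw [← C0.card_mul_index, hidx, Nat.factorization_mul Nat.card_pos.ne' hp.out.ne_zero,
      Finsupp.add_apply, hp.out.factorization_self] at hcard
    rw [show (Nat.card C0).factorization p = 1 by omega, pow_one]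
  obtain ⟨e, he⟩ : ∃ e, (Subgroup.centralizer ((P : Subgroup C0) : Set C0)).relIndex
      (Subgroup.normalizer ((P : Subgroup C0) : Set C0)) = e := ⟨_, rfl⟩
  obtain ⟨hepos, hep⟩ := he ▸ relIndex_lt P hP
  obtain ⟨A, B, δ, ε, hblock, hdisj, hAe, -, hA, hε, hBdeg, hrel⟩ :=
    DefectOne.exists_principal hM P hP e he
  have hA' : ∀ χ ∈ A, (δ χ = 1 ∨ δ χ = -1) ∧ ∀ a : C0, a ∈ (P : Subgroup C0) → a ≠ 1 → ∀ y : C0,
      y ∈ Subgroup.centralizer ((P : Subgroup C0) : Set C0) → ¬ p ∣ orderOf y →
        (χ : C0 → ℂ) (a * y) = (δ χ : ℂ) := fun χ hχ => ⟨(hA χ hχ).1, (hA χ hχ).2.2⟩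
  choose j θ hj hθ hθb using fun η => exists_split (M := M) hidx hz hzp hxn η
  set bF := (principalBlock M H).toFinset with hbF
  set bC := (principalBlock M C0).toFinset with hbC
  set Y := univ.filter (fun y : C0 => ¬ p ∣ orderOf y) with hY
  have hYreg : ∀ y ∈ Y, ¬ p ∣ orderOf (y : H) := fun y hy => by
    rw [Subgroup.orderOf_coe]; exact (mem_filter.1 hy).2
  -- the powers of `x`
  have hcent : ∀ k : ZMod p, k ≠ 0 → Subgroup.centralizer ({x ^ k.val} : Set G) = H := by
    intro k hk
    refine le_antisymm (fun g hg => ?_) fun g hg => ?_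
    · rw [Subgroup.mem_centralizer_singleton_iff] at hg
      refine (hHmem g).2 ?_
      obtain ⟨m, hm⟩ := exists_pow_eq_self_of_coprime (x := x) (n := k.val) (by
        rw [hxp, Nat.coprime_comm, hp.out.coprime_iff_not_dvd]
        exact fun h => hk ((ZMod.val_eq_zero k).1 (Nat.eq_zero_of_dvd_of_lt h (ZMod.val_lt k))))
      have hc : Commute g (x ^ k.val) := hg
      exact (hm ▸ hc.pow_right m : Commute g x)
    · exact Subgroup.mem_centralizer_singleton_iff.2
        (Commute.pow_right ((hHmem g).1 hg : Commute g x) _)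
  have hppow : ∀ k : ZMod p, ∃ a : ℕ, orderOf (x ^ k.val) = p ^ a := fun k => by
    obtain ⟨a, -, ha⟩ := (Nat.dvd_prime_pow hp.out).1 (show orderOf (x ^ k.val) ∣ p ^ 1 by
      rw [pow_one]; nth_rw 2 [← hxp]; exact orderOf_pow_dvd _)
    exact ⟨a, ha⟩
  -- upper bound
  have hupper : ∀ k ∈ (univ : Finset (ZMod p)).erase 0,
      ∑ y ∈ Y, ∑ χ ∈ (principalBlock M G).toFinset,
        Complex.normSq ((χ : G → ℂ) (x ^ k.val * ((y : H) : G))) ≤
          (p : ℝ) * ((Nat.card C0 : ℝ) * e) := by
    intro k hk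
    calc ∑ y ∈ Y, ∑ χ ∈ (principalBlock M G).toFinset,
          Complex.normSq ((χ : G → ℂ) (x ^ k.val * ((y : H) : G)))
        = ∑ y ∈ Y, ∑ η ∈ bF, Complex.normSq ((η : H → ℂ) (y : H)) :=
          sum_congr rfl fun y hy => (section_facts hM (hppow k) H
            (hcent k (ne_of_mem_erase hk))).2 _ (hYreg y hy)
      _ ≤ ∑ y ∈ Y, (p : ℝ) * ∑ ξ ∈ bC, Complex.normSq ((ξ : C0 → ℂ) y) := by
          refine sum_le_sum fun y _ => ?_
          rw [← sum_fiberwise_of_maps_to (g := θ) (t := bC)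
            (fun η hη => Set.mem_toFinset.2 (hθb η (Set.mem_toFinset.1 hη))), mul_sum]
          refine sum_le_sum fun ξ _ => ?_
          rw [sum_congr rfl (g := fun _ => Complex.normSq ((ξ : C0 → ℂ) y)) fun η hη => by
            rw [hθ η y, (mem_filter.1 hη).2], sum_const, nsmul_eq_mul]
          refine mul_le_mul_of_nonneg_right (Nat.cast_le.2 ?_) (Complex.normSq_nonneg _)
          refine (card_le_card_of_injOn j (fun _ _ => mem_univ _) ?_).trans_eq
            (by rw [card_univ, ZMod.card])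
          intro a ha b hb hab
          have hθab : θ a = θ b := (mem_filter.1 ha).2.trans (mem_filter.1 hb).2.symm
          refine Subtype.ext (funext fun g => ?_)
          obtain ⟨⟨k, c⟩, rfl⟩ := (split_bijective hidx hzp hxn).2 g
          show (a : H → ℂ) (z ^ k.val * (c : H)) = (b : H → ℂ) (z ^ k.val * (c : H))
          rw [hj, hj, hθ, hθ, hab, hθab]
      _ = (p : ℝ) * ((Nat.card C0 : ℝ) * blockRank p (principalBlock M C0)) := by
          rw [← mul_sum, sum_regular_normSq_eq hM]
      _ ≤ _ := by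
          have := blockRank_le hblock hε hrel
          rw [hAe] at this
          gcongr
  -- lower bound
  set S := (principalBlock M G).toFinset.filter
    (fun χ : IrrCharacter G => ¬ p ∣ charDegree (χ : G → ℂ)) with hS
  have hlower : ∀ χ ∈ S, (Nat.card C0 : ℝ) * (((p : ℝ) - 1) * (e : ℝ) ^ 2) ≤
      (e : ℝ) * p * ∑ k ∈ (univ : Finset (ZMod p)).erase 0, ∑ y ∈ Y,
        Complex.normSq ((χ : G → ℂ) (x ^ k.val * ((y : H) : G))) := by
    intro χ hχ
    obtain ⟨hχb, hχp⟩ := mem_filter.1 hχ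
    rw [Set.mem_toFinset] at hχb
    obtain ⟨n, hn⟩ := Chars.isCharacter_exists_nat_decomp
      (Chars.isCharacter_restrict (H := H) (Chars.irr_isCharacter χ))
    set w : IrrCharacter C0 → IrrCharacter C0 → ℤ :=
      fun t ξ => if t ∈ A then (if t = ξ then δ ξ else 0) else ε with hw
    set c : IrrCharacter C0 → ZMod p → ℤ :=
      fun ξ i => ∑ η ∈ bF.filter (fun η => j η = i), (n η : ℤ) * w (θ η) ξ with hc
    have hfour : ∀ ξ (k : ZMod p), DefectOne.LatticeBound.four (c ξ) k =
        ∑ η ∈ bF, (n η : ℂ) * w (θ η) ξ * ZMod.stdAddChar (j η * k) := by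
      intro ξ k
      rw [← sum_fiberwise bF j]
      simp only [DefectOne.LatticeBound.four, hc, Int.cast_sum, Int.cast_mul, Int.cast_natCast,
        sum_mul]
      exact sum_congr rfl fun i _ => sum_congr rfl fun η hη => by rw [(mem_filter.1 hη).2]
    have hval : ∀ k : ZMod p, k ≠ 0 → ∀ y : C0, ¬ p ∣ orderOf (y : H) →
        (χ : G → ℂ) (x ^ k.val * ((y : H) : G)) =
          ∑ η ∈ bF, (n η : ℂ) * ZMod.stdAddChar (j η * k) * (θ η : C0 → ℂ) y := by
      intro k hk y hy
      rw [(section_facts hM (hppow k) H (hcent k hk)).1 χ hχb _ hy]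
      refine sum_congr rfl fun η _ => ?_
      have e1 : (fun h : H => (χ : G → ℂ) (x ^ k.val * (h : G))) =
          ∑ η' : IrrCharacter H, ((n η' : ℂ) * ZMod.stdAddChar (j η' * k)) • (η' : H → ℂ) := by
        funext h
        have h2 := congrFun hn (z ^ k.val * h)
        simp only [Subgroup.coe_mul, SubmonoidClass.coe_pow, Finset.sum_apply, Pi.smul_apply,
          smul_eq_mul] at h2 ⊢
        rw [hzx] at h2
        rw [h2]
        exact sum_congr rfl fun η' _ => by rw [hj, mul_assoc]
      rw [e1, Chars.classInner_sum_smul_irr, hθ]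
    have hblockC : ∀ η ∈ bF, θ η ∈ A ∨ θ η ∈ B := fun η hη => by
      have := hθb η (Set.mem_toFinset.1 hη)
      rw [hblock] at this
      simpa using this
    have hwsum : ∀ η ∈ bF, ∀ y : C0, ¬ p ∣ orderOf y →
        (θ η : C0 → ℂ) y = ∑ ξ ∈ A, (w (θ η) ξ : ℂ) * δ ξ * (ξ : C0 → ℂ) y := by
      intro η hη y hy
      rcases hblockC η hη with h | h
      · rw [sum_eq_single (θ η) (fun ξ _ hne => by simp [hw, h, Ne.symm hne])
          (fun hno => absurd h hno)]
        rcases (hA _ h).1 with hd | hd <;> simp [hw, h, hd]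
      · have hnA : θ η ∉ A := fun h' => Finset.disjoint_left.1 hdisj h' h
        simp only [hw, if_neg hnA, mul_assoc, ← mul_sum, ← hrel _ h y hy]
        rcases hε with h' | h' <;> simp [h']
    -- the total is prime to `p`
    have hdeg : ∀ η ∈ bF,
        (p : ℤ) ∣ (charDegree (θ η : C0 → ℂ) : ℤ) - ∑ ξ ∈ A, w (θ η) ξ := by
      intro η hη
      rcases hblockC η hη with h | h
      · rw [show ∑ ξ ∈ A, w (θ η) ξ = δ (θ η) by simp [hw, h]]
        exact Int.ModEq.dvd (hA _ h).2.1.symm
      · have hnA : θ η ∉ A := fun h' => Finset.disjoint_left.1 hdisj h' h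
        simp only [hw, if_neg hnA, sum_const, nsmul_eq_mul]
        rw [hAe, mul_comm]
        exact Int.ModEq.dvd (hBdeg _ h).symm
    have hN : ¬ (p : ℤ) ∣ ∑ ξ ∈ A, ∑ i, c ξ i := by
      intro hdvd
      have htot : ∑ ξ ∈ A, ∑ i, c ξ i = ∑ η ∈ bF, (n η : ℤ) * ∑ ξ ∈ A, w (θ η) ξ := by
        simp only [hc, sum_fiberwise bF j, mul_sum]
        rw [sum_comm]
      have h1 : (p : ℤ) ∣ ∑ η ∈ bF, (n η : ℤ) * (charDegree (θ η : C0 → ℂ) : ℤ) := by
        have h2 : (p : ℤ) ∣ ∑ η ∈ bF,
            (n η : ℤ) * ((charDegree (θ η : C0 → ℂ) : ℤ) - ∑ ξ ∈ A, w (θ η) ξ) :=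
          dvd_sum fun η hη => (hdeg η hη).mul_left _
        simp only [mul_sub, sum_sub_distrib] at h2
        exact (dvd_sub_left (htot ▸ hdvd)).1 h2
      have hv := hval 1 one_ne_zero 1 (by
        rw [OneMemClass.coe_one, orderOf_one]; exact hp.out.not_dvd_one)
      simp only [OneMemClass.coe_one, mul_one, ZMod.val_one, pow_one] at hv
      have hI1 : MemLocalIdeal M ((χ : G → ℂ) x - (χ : G → ℂ) 1) :=
        BlockCongr.char_congr_one hM (Chars.irr_isCharacter χ) (j := 1) (by
          rw [pow_one, ← hxp, pow_orderOf_eq_one])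
      have hI2 : MemLocalIdeal M (∑ η ∈ bF, (n η : ℂ) * (charDegree (θ η : C0 → ℂ) : ℂ) *
          (ZMod.stdAddChar (j η) - 1)) := by
        refine memLocalIdeal_sum _ _ fun η _ => memLocalIdeal_mul_left ?_
          (memLocalIdeal_sub_one_of_pow_eq_one hM (k := 1) ?_)
        · rw [← Nat.cast_mul, ← Int.cast_natCast]
          exact intCast_mem_localRing _
        · rw [pow_one, ← AddChar.map_nsmul_eq_pow, nsmul_eq_mul, ZMod.natCast_self, zero_mul,
            AddChar.map_zero_eq_one]
      have h3 : MemLocalIdeal M ((((∑ η ∈ bF, (n η : ℤ) * (charDegree (θ η : C0 → ℂ) : ℤ)) -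
          (charDegree (χ : G → ℂ) : ℤ) : ℤ)) : ℂ) := by
        convert memLocalIdeal_sub hI1 hI2 using 1
        rw [hv]
        push_cast
        simp only [(HeightZero.charDegree_eq χ).1, mul_sub, sum_sub_distrib, mul_one,
          (HeightZero.charDegree_eq (θ _)).1]
        rw [sum_congr rfl fun η _ => mul_right_comm (n η : ℂ) (ZMod.stdAddChar (j η))
          ((θ η : C0 → ℂ) 1)]
        ring
      rw [memLocalIdeal_intCast_iff hM] at h3
      exact hχp (Int.natCast_dvd_natCast.1 ((dvd_sub_right h1).1 h3))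
    have hfb := DefectOne.LatticeBound.fourier_bound A c (by omega) hN
    rw [hAe] at hfb
    calc (Nat.card C0 : ℝ) * (((p : ℝ) - 1) * (e : ℝ) ^ 2)
        ≤ (Nat.card C0 : ℝ) * ∑ k ∈ (univ : Finset (ZMod p)).erase 0,
            ((e : ℝ) * p * ∑ ξ ∈ A, Complex.normSq (DefectOne.LatticeBound.four (c ξ) k) -
              ((p : ℝ) - 1) *
                Complex.normSq (∑ ξ ∈ A, DefectOne.LatticeBound.four (c ξ) k)) :=
          mul_le_mul_of_nonneg_left hfb (Nat.cast_nonneg _)
      _ ≤ ∑ k ∈ (univ : Finset (ZMod p)).erase 0, (e : ℝ) * p * ∑ y ∈ Y,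
            Complex.normSq ((χ : G → ℂ) (x ^ k.val * ((y : H) : G))) := by
          rw [mul_sum]
          refine sum_le_sum fun k hk => ?_
          refine (regular_bound P hP he A δ hA'
            (fun ξ => DefectOne.LatticeBound.four (c ξ) k)).trans_eq ?_
          congr 1
          refine sum_congr rfl fun y hy => congrArg Complex.normSq ?_
          rw [hval k (ne_of_mem_erase hk) y (hYreg y hy),
            sum_congr rfl fun η hη => congrArg
              (fun t => (n η : ℂ) * ZMod.stdAddChar (j η * k) * t)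
              (hwsum η hη y (mem_filter.1 hy).2)]
          simp only [hfour, sum_mul, mul_sum]
          rw [sum_comm]
          exact sum_congr rfl fun η _ => sum_congr rfl fun ξ _ => by ring
      _ = _ := by rw [mul_sum]
  -- conclusion
  have hsum : (S.card : ℝ) * ((Nat.card C0 : ℝ) * (((p : ℝ) - 1) * (e : ℝ) ^ 2)) ≤
      (e : ℝ) * p * (((p : ℝ) - 1) * ((p : ℝ) * ((Nat.card C0 : ℝ) * e))) := by
    calc (S.card : ℝ) * ((Nat.card C0 : ℝ) * (((p : ℝ) - 1) * (e : ℝ) ^ 2))
        = ∑ _χ ∈ S, (Nat.card C0 : ℝ) * (((p : ℝ) - 1) * (e : ℝ) ^ 2) := by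
          rw [sum_const, nsmul_eq_mul]
      _ ≤ (e : ℝ) * p * ∑ χ ∈ S, ∑ k ∈ (univ : Finset (ZMod p)).erase 0, ∑ y ∈ Y,
            Complex.normSq ((χ : G → ℂ) (x ^ k.val * ((y : H) : G))) := by
          rw [mul_sum]; exact sum_le_sum hlower
      _ ≤ (e : ℝ) * p * ∑ k ∈ (univ : Finset (ZMod p)).erase 0,
            (p : ℝ) * ((Nat.card C0 : ℝ) * e) := by
          refine mul_le_mul_of_nonneg_left ?_ (by positivity)
          rw [sum_comm]
          refine sum_le_sum fun k hk => le_trans ?_ (hupper k hk)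
          rw [sum_comm]
          exact sum_le_sum fun y _ => sum_le_sum_of_subset_of_nonneg (filter_subset _ _)
            fun _ _ _ => Complex.normSq_nonneg _
      _ = _ := by
          rw [sum_const, nsmul_eq_mul, card_erase_of_mem (mem_univ _), card_univ, ZMod.card,
            Nat.cast_sub hp.out.one_le, Nat.cast_one]
  have hp1 : (0 : ℝ) < (p : ℝ) - 1 := by
    have : (2 : ℝ) ≤ p := by exact_mod_cast hp.out.two_le
    linarith
  have hpos : (0 : ℝ) < (Nat.card C0 : ℝ) * (((p : ℝ) - 1) * (e : ℝ) ^ 2) :=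
    mul_pos (Nat.cast_pos.2 Nat.card_pos) (mul_pos hp1 (pow_pos (Nat.cast_pos.2 hepos) 2))
  have hle : (S.card : ℝ) ≤ ((p ^ 2 : ℕ) : ℝ) := by
    refine le_of_mul_le_mul_right (hsum.trans (le_of_eq ?_)) hpos
    push_cast
    ring
  rw [Nat.card_eq_fintype_card, Fintype.card_subtype]
  refine le_of_eq_of_le ?_ (Nat.cast_le.1 hle)
  congr 1
  ext χ
  simp [hS]

end Cfsg.Agent.Lib.Blocks.SmallCentralizer
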