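import Cfsg.Agent.Lib.DefectOne.PrincipalStructure
import Cfsg.Agent.Lib.Blocks.DefectTwo
import Cfsg.Agent.Lib.BrauerFeit.Rank
import Cfsg.Agent.Lib.BrauerPairs.AbelianDefectRestrict
import Cfsg.Agent.Lib.BlockCongr.Basic
import Mathlib

/-!
# Characters of a group with a split central subgroup of prime order
-/

set_option autoImplicit false
set_option linter.unusedSectionVars false

namespace Cfsg.Agent.Lib.Blocks.SmallCentralizer

open Cfsg
open Cfsg.Agent.Lib
open Finset
open scoped ComplexConjugate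

universe u

variable {H : Type u} [Group H] [Fintype H] {p : ℕ} [hp : Fact p.Prime]
  {M : Ideal AlgInt} [M.IsPrime]

/-- A central element of order dividing `p` acts by a power of the standard root of unity. -/
theorem exists_central_exponent (η : IrrCharacter H) {z : H} (hz : z ∈ Subgroup.center H)
    (hpow : z ^ p = 1) : ∃ j : ZMod p, ∀ (k : ZMod p) (h : H),
      (η : H → ℂ) (z ^ k.val * h) = ZMod.stdAddChar (j * k) * (η : H → ℂ) h := by
  set l := (η : H → ℂ) z / (η : H → ℂ) 1 with hl
  have hn : ∀ (n : ℕ) (h : H), (η : H → ℂ) (z ^ n * h) = l ^ n * (η : H → ℂ) h := by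
    intro n
    induction n with
    | zero => simp
    | succ n ih =>
      intro h
      rw [pow_succ, mul_assoc, ih, DefectTwo.irr_central_mul η hz h, pow_succ, mul_assoc]
  have hlp : l ^ p = 1 := by
    have h := hn p 1
    rw [hpow, one_mul] at h
    exact mul_eq_right₀ (Chars.irr_apply_one_ne_zero η) |>.1 h.symm
  obtain ⟨i, -, hi⟩ :=
    (Complex.isPrimitiveRoot_exp p hp.out.ne_zero).eq_pow_of_pow_eq_one hlp
  refine ⟨(i : ZMod p), fun k h => ?_⟩
  rw [hn]
  congr 1
  have h1 : ZMod.stdAddChar (i : ZMod p) = l := by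
    rw [← hi, ← Complex.exp_nat_mul]
    have := ZMod.stdAddChar_coe (N := p) (i : ℤ)
    rw [Int.cast_natCast] at this
    rw [this]
    congr 1
    push_cast
    ring
  rw [← h1, ← AddChar.map_nsmul_eq_pow, nsmul_eq_mul, ZMod.natCast_val, ZMod.cast_id', id,
    mul_comm]

variable {C0 : Subgroup H} [hN : C0.Normal]

theorem split_bijective (hidx : C0.index = p) {z : H} (hzp : orderOf z = p) (hzn : z ∉ C0) :
    Function.Bijective (fun t : ZMod p × C0 => z ^ t.1.val * (t.2 : H)) := by
  haveI : NeZero p := ⟨hp.out.ne_zero⟩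
  refine (Nat.bijective_iff_injective_and_card _).2 ⟨?_, ?_⟩
  · rintro ⟨a, c⟩ ⟨b, d⟩ h
    dsimp only at h
    have hq := congrArg (QuotientGroup.mk' C0) h
    simp only [map_mul, map_pow, QuotientGroup.mk'_apply, (QuotientGroup.eq_one_iff (c : H)).2 c.2,
      (QuotientGroup.eq_one_iff (d : H)).2 d.2, mul_one] at hq
    have ho : orderOf (z : H ⧸ C0) = p := by
      refine orderOf_eq_prime ?_ (mt (QuotientGroup.eq_one_iff z).1 hzn)
      rw [← QuotientGroup.mk_pow, ← hzp, pow_orderOf_eq_one, QuotientGroup.mk_one]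
    rw [pow_inj_mod, ho, Nat.mod_eq_of_lt (ZMod.val_lt a), Nat.mod_eq_of_lt (ZMod.val_lt b)] at hq
    have hab : a = b := ZMod.val_injective p hq
    subst hab
    exact Prod.ext rfl (Subtype.ext (mul_left_cancel h))
  · rw [Nat.card_prod, Nat.card_zmod, ← C0.card_mul_index, hidx, mul_comm]

theorem centralChar_restrict (hidx : C0.index = p) {z : H} (hz : z ∈ Subgroup.center H)
    (hzp : orderOf z = p) (hzn : z ∉ C0) (f : H → ℂ) (c : C0) :
    centralChar (fun d : C0 => f d) c = centralChar f (c : H) := by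
  have hc : (Subgroup.centralizer ({c} : Set C0)).index =
      (Subgroup.centralizer ({(c : H)} : Set H)).index := by
    rw [← natCard_isConj, ← natCard_isConj]
    refine Nat.card_congr (Equiv.ofBijective
      (fun x => ⟨((x.1 : C0) : H), C0.subtype.map_isConj x.2⟩) ⟨?_, ?_⟩)
    · intro a b h
      dsimp only at h
      exact Subtype.ext (Subtype.ext (Subtype.mk.inj h))
    · rintro ⟨x, hx⟩
      obtain ⟨g, hg⟩ := isConj_iff.1 hx
      obtain ⟨⟨a, d⟩, rfl⟩ := (split_bijective hidx hzp hzn).2 g
      have hza : ∀ w : H, z ^ a.val * w = w * z ^ a.val := fun w =>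
        (Subgroup.mem_center_iff.1 (Subgroup.pow_mem _ hz _) w).symm
      have hx' : ((d * c * d⁻¹ : C0) : H) = x := by
        push_cast
        rw [← hg]
        dsimp only
        rw [mul_inv_rev, ← mul_assoc, mul_assoc (z ^ a.val), mul_assoc (z ^ a.val), hza,
          mul_inv_cancel_right]
      exact ⟨⟨d * c * d⁻¹, isConj_iff.2 ⟨d, rfl⟩⟩, Subtype.ext hx'⟩
  simp only [centralChar, hc, OneMemClass.coe_one]

/-- The restriction of an irreducible character to the complement of the split central
subgroup. -/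
theorem exists_split (hidx : C0.index = p) [Fintype C0] {z : H}
    (hz : z ∈ Subgroup.center H) (hzp : orderOf z = p) (hzn : z ∉ C0) (η : IrrCharacter H) :
    ∃ (j : ZMod p) (θ : IrrCharacter C0),
      (∀ (k : ZMod p) (h : H),
        (η : H → ℂ) (z ^ k.val * h) = ZMod.stdAddChar (j * k) * (η : H → ℂ) h) ∧
      (∀ c : C0, (η : H → ℂ) c = (θ : C0 → ℂ) c) ∧
      (η ∈ principalBlock M H → θ ∈ principalBlock M C0) := by
  haveI : NeZero p := ⟨hp.out.ne_zero⟩
  obtain ⟨j, hj⟩ := exists_central_exponent η hz (p := p) (orderOf_dvd_iff_pow_eq_one.1 hzp.dvd)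
  have hnorm : classInner (fun c : C0 => (η : H → ℂ) c) (fun c : C0 => (η : H → ℂ) c) = 1 := by
    have h := Chars.classInner_irr_self η
    simp only [classInner] at h ⊢
    rw [← (split_bijective hidx hzp hzn).sum_comp
      (fun g => (η : H → ℂ) g * conj ((η : H → ℂ) g)), Fintype.sum_prod_type] at h
    simp only [hj, map_mul] at h
    have e : ∀ (k : ZMod p) (c : C0), ZMod.stdAddChar (j * k) * (η : H → ℂ) c *
        (conj (ZMod.stdAddChar (j * k)) * conj ((η : H → ℂ) c)) =
          (η : H → ℂ) c * conj ((η : H → ℂ) c) := fun k c => by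
      rw [← AddChar.map_neg_eq_conj, mul_mul_mul_comm, ← AddChar.map_add_eq_mul, add_neg_cancel,
        AddChar.map_zero_eq_one, one_mul]
    rw [sum_congr rfl fun k _ => sum_congr rfl fun c _ => e k c] at h
    simp only [sum_const, card_univ, ZMod.card, nsmul_eq_mul] at h
    rw [← C0.card_mul_index, hidx, Nat.cast_mul, mul_inv, mul_assoc, ← mul_assoc ((p : ℂ)⁻¹),
      inv_mul_cancel₀ (Nat.cast_ne_zero.2 hp.out.ne_zero), one_mul] at h
    exact h
  obtain ⟨θ, hθ⟩ := BrauerPairs.AbelianDefectRestrict.exists_irr_of_norm_one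
    (Chars.isCharacter_restrict (H := C0) (Chars.irr_isCharacter η)) hnorm
    ⟨charDegree (η : H → ℂ), by simp [(HeightZero.charDegree_eq η).1]⟩
  refine ⟨j, θ, hj, fun c => congrFun hθ c, fun hη c => ?_⟩
  have h := hη (c : H)
  rw [← centralChar_restrict hidx hz hzp hzn (fun _ => 1) c,
    ← centralChar_restrict hidx hz hzp hzn (η : H → ℂ) c, hθ] at h
  exact h

open Classical in
/-- The regular norm of the principal block in terms of the rank. -/
theorem sum_regular_normSq_eq (hM : IsPModular p M) :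
    ∑ s ∈ univ.filter (fun s : H => ¬ p ∣ orderOf s),
        ∑ χ ∈ (principalBlock M H).toFinset, Complex.normSq ((χ : H → ℂ) s) =
      (Nat.card H : ℝ) * blockRank p (principalBlock M H) := by
  classical
  apply Complex.ofReal_injective
  push_cast
  rw [BrauerFeit.blockRank_eq_sum_regCoef hM (B := principalBlock M H) ⟨⟨_, Chars.isIrrCharacter_one⟩, rfl⟩,
    mul_sum, sum_comm]
  refine sum_congr rfl fun χ _ => ?_
  simp only [BrauerFeit.regCoef, classInner]
  rw [mul_inv_cancel_left₀ Chars.natCard_ne_zero, sum_filter]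
  refine sum_congr rfl fun g _ => ?_
  simp only [pRegularPart, IsPRegular, ← Complex.mul_conj, ite_mul, zero_mul]
  split_ifs <;> simp_all

/-- The rank of a principal block of defect one is at most the number of exceptional-free
nodes. -/
theorem blockRank_le {A B : Finset (IrrCharacter H)} {δ : IrrCharacter H → ℤ} {ε : ℤ}
    {b : Set (IrrCharacter H)} (hb : b = (A : Set (IrrCharacter H)) ∪ B) (hε : ε = 1 ∨ ε = -1)
    (hrel : ∀ θ ∈ B, ∀ g : H, ¬ p ∣ orderOf g →
      (ε : ℂ) * (θ : H → ℂ) g = ∑ χ ∈ A, (δ χ : ℂ) * (χ : H → ℂ) g) :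
    blockRank p b ≤ A.card := by
  classical
  refine le_trans (Submodule.finrank_mono (t := Submodule.span ℂ
    ((A.image fun χ : IrrCharacter H => pRegularPart p (χ : H → ℂ) : Finset (H → ℂ)) :
      Set (H → ℂ))) ?_) ((finrank_span_finset_le_card _).trans card_image_le)
  rw [Submodule.span_le, hb]
  rintro _ ⟨θ, (hθ | hθ), rfl⟩
  · exact Submodule.subset_span (mem_coe.2 (mem_image_of_mem _ hθ))
  · have he : pRegularPart p (θ : H → ℂ) =
        ∑ χ ∈ A, ((ε : ℂ) * δ χ) • pRegularPart p (χ : H → ℂ) := by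
      funext g
      simp only [Finset.sum_apply, Pi.smul_apply, smul_eq_mul, pRegularPart, IsPRegular]
      by_cases hg : p ∣ orderOf g
      · simp [hg]
      · simp only [hg, not_false_eq_true, if_true, mul_assoc, ← mul_sum, ← hrel θ hθ g hg]
        rcases hε with h | h <;> simp [h]
    show pRegularPart p (θ : H → ℂ) ∈ _
    rw [he]
    exact Submodule.sum_mem _ fun χ hχ =>
      Submodule.smul_mem _ _ (Submodule.subset_span (mem_coe.2 (mem_image_of_mem _ hχ)))

end Cfsg.Agent.Lib.Blocks.SmallCentralizer
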