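import Cfsg.Agent.S0970
import Cfsg.Agent.Lib.Blocks.CoverDegreeSums
import Cfsg.Agent.Lib.Blocks.DefectCard
import Cfsg.Agent.Lib.Blocks.DefectProps
import Mathlib

/-!
# A height zero character with large stabilizer in an invariant block of a normal subgroup
-/

set_option autoImplicit false
set_option linter.unusedSectionVars false

namespace Cfsg.Agent.Lib.Blocks.StableChar

open Cfsg
open Cfsg.Agent.Lib
open Cfsg.Agent.Lib.Clifford (conjFun resFun)

universe u

variable {G : Type u} [Group G] [Fintype G] {N : Subgroup G} [hN : N.Normal] [Fintype N]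

/-- The stabilizer of a function on a normal subgroup. -/
def inertia (θ : N → ℂ) : Subgroup G where
  carrier := {g | conjFun g θ = θ}
  one_mem' := Clifford.conjFun_one θ
  mul_mem' {g h} hg hh := by
    simp only [Set.mem_setOf_eq] at hg hh ⊢
    rw [Clifford.conjFun_mul, hg, hh]
  inv_mem' {g} hg := by
    simp only [Set.mem_setOf_eq] at hg ⊢
    conv_lhs => rw [← hg, ← Clifford.conjFun_mul, mul_inv_cancel, Clifford.conjFun_one]

theorem mem_inertia {θ : N → ℂ} {g : G} : g ∈ inertia θ ↔ conjFun g θ = θ := Iff.rfl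

theorem exists_height_zero_stable {p : ℕ} [Fact p.Prime] {M : Ideal AlgInt} [M.IsPrime]
    (hM : IsPModular p M) {b : Set (IrrCharacter N)} (hb : IsPBlock M b)
    (hinv : ∀ (g : G) (θ : IrrCharacter N), θ ∈ b → ∀ θ' : IrrCharacter N,
      (θ' : N → ℂ) = conjFun g (θ : N → ℂ) → θ' ∈ b) :
    ∃ θ ∈ b, blockHeight p b (θ : N → ℂ) = 0 ∧ ¬ p ∣ (inertia (θ : N → ℂ)).index := by
  classical
  have hp : p.Prime := Fact.out
  have hbc : Blocks.Covering.conjClosure b = b := by
    refine le_antisymm ?_ fun θ hθ => Blocks.Covering.mem_conjClosure_self hθ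
    rintro φ ⟨a, θ, hθ, ha⟩
    exact hinv a θ hθ φ ha.symm
  obtain ⟨θ₀, hθ₀⟩ := isPBlock_nonempty hb
  obtain ⟨χ₀, hχ₀⟩ : ∃ χ : IrrCharacter G,
      classInner (resFun N (χ : G → ℂ)) (θ₀ : N → ℂ) ≠ 0 := by
    by_contra! h
    have h1 := DegreeSums.sum_classInner_mul_degree (G := G) θ₀
    simp only [h, zero_mul, Finset.sum_const_zero] at h1
    exact mul_ne_zero (Nat.cast_ne_zero.2 Subgroup.index_ne_zero_of_finite)
      (Chars.irr_apply_one_ne_zero θ₀) h1.symm
  set A := Finset.univ.filter (fun χ : IrrCharacter G =>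
    ∃ θ ∈ b, classInner (resFun N (χ : G → ℂ)) (θ : N → ℂ) ≠ 0) with hA
  obtain ⟨χ₁, hχ₁, hmax⟩ := A.exists_max_image
    (fun χ => blockDefect p (blockOf M (χ : G → ℂ)))
    ⟨χ₀, Finset.mem_filter.2 ⟨Finset.mem_univ χ₀, θ₀, hθ₀, hχ₀⟩⟩
  obtain ⟨-, θ₁, hθ₁, hcon₁⟩ := Finset.mem_filter.1 hχ₁
  set B := blockOf M (χ₁ : G → ℂ) with hBdef
  have hB : IsPBlock M B := isPBlock_blockOf χ₁
  obtain ⟨P, hP⟩ := exists_isDefectGroup (p := p) hB
  have hd := (Cfsg.Agent.S0970.result p M hM N b hb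
    (fun g θ hθ θ' h => hinv g θ hθ θ' (funext h)) B hB
    ⟨χ₁, mem_blockOf_self χ₁, θ₁, hθ₁, hcon₁⟩
    (fun B' hB' hcov => by
      obtain ⟨χ', hχ', hcon⟩ := hcov
      rw [isPBlock_eq_of_mem hB' (isPBlock_blockOf χ') hχ' (mem_blockOf_self χ')]
      exact hmax χ' (Finset.mem_filter.2 ⟨Finset.mem_univ χ', hcon⟩)) P hP).2.2
  obtain ⟨χ, hχ, hχh⟩ := exists_height_zero (p := p) hB
  obtain ⟨θ, hθcon⟩ := Blocks.Covering.exists_constituent (N := N) χ
  have hθb : θ ∈ b := by
    rw [← hbc]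
    exact Blocks.Covering.constituent_mem_conjClosure hb
      (sameBlock_of_mem hB (mem_blockOf_self χ₁) hχ) hθ₁ hcon₁ hθcon
  obtain ⟨c, hc⟩ := Clifford.classInner_irr_nat
    (Chars.isCharacter_restrict N (Chars.irr_isCharacter χ)) θ.2
  have hdeg : charDegree (χ : G → ℂ) =
      c * ((inertia (θ : N → ℂ)).index * charDegree (θ : N → ℂ)) := by
    have h1 := Clifford.apply_one_eq χ.2 θ.2 hθcon (inertia (θ : N → ℂ)) fun g => mem_inertia
    rw [show classInner (resFun N (χ : G → ℂ)) (θ : N → ℂ) = (c : ℂ) from hc,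
      (Chars.charDegree_spec χ).2, (Chars.charDegree_spec θ).2] at h1
    exact_mod_cast h1
  have hc0 : c ≠ 0 := fun h => (Chars.charDegree_spec χ).1.ne' (by rw [hdeg, h, zero_mul])
  have hv := congrArg (fun m => m.factorization p) hdeg
  simp only [Nat.factorization_mul hc0
    (Nat.mul_ne_zero Subgroup.index_ne_zero_of_finite (Chars.charDegree_spec θ).1.ne'),
    Nat.factorization_mul (Subgroup.index_ne_zero_of_finite (H := inertia (θ : N → ℂ)))
      (Chars.charDegree_spec θ).1.ne', Finsupp.add_apply] at hv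
  have e1 := factorization_degree_add_blockDefect hM hB hχ
  have e2 := factorization_degree_add_blockDefect hM hb hθb
  have e3 := congrArg (fun m => m.factorization p) (Subgroup.card_mul_index N)
  simp only [Nat.factorization_mul Nat.card_pos.ne' (Subgroup.index_ne_zero_of_finite (H := N)),
    Finsupp.add_apply] at e3
  refine ⟨θ, hθb, by omega, fun hdvd => ?_⟩
  have := hp.factorization_pos_of_dvd Subgroup.index_ne_zero_of_finite hdvd
  omega

end Cfsg.Agent.Lib.Blocks.StableChar
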