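import Mathlib
import Cfsg.Agent.Lib.Blocks.PrincipalDegree
import Cfsg.Agent.Lib.Blocks.BlockOrth
import Cfsg.Agent.Lib.Chars.DefectZero
import Cfsg.Agent.Lib.Glauberman.Residue

/-!
# Centralizers of Sylow subgroups of prime order in simple groups with three prime divisors
-/

set_option autoImplicit false

namespace Cfsg.Agent.Lib.Blocks

open Cfsg
open scoped ComplexConjugate

universe u

variable {G : Type u} [Group G] [Finite G]

/-- In a nonabelian simple group of order `p ^ a * q ^ b * r` no element has order divisible by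
both `p` and `r`. -/
theorem false_of_dvd_orderOf_three_primes [IsSimpleGroup G] (hna : ∃ a b : G, a * b ≠ b * a)
    {p q r a b : ℕ} (hp : p.Prime) (hq : q.Prime) (hr : r.Prime) (hpr : p ≠ r) (hqr : q ≠ r)
    (hcard : Nat.card G = p ^ a * q ^ b * r) (z : G) (hzp : p ∣ orderOf z)
    (hzr : r ∣ orderOf z) : False := by
  classical
  cases nonempty_fintype G
  haveI : Fact p.Prime := ⟨hp⟩
  obtain ⟨M, hM⟩ := Glauberman.exists_isPModular hp
  haveI := hM.2.1.isPrime
  have hrco : r.Coprime (p ^ a * q ^ b) := Nat.Coprime.mul_right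
    (((Nat.coprime_primes hr hp).2 hpr.symm).pow_right a)
    (((Nat.coprime_primes hr hq).2 hqr.symm).pow_right b)
  let one : IrrCharacter G := ⟨fun _ => 1, Chars.isIrrCharacter_one⟩
  set B := principalBlock M G
  have hone : one ∈ B := mem_blockOf_self one
  have horth := weak_block_orth hM (isPBlock_blockOf one) (g := (1 : G)) (h := z)
    (by simpa using hp.ne_one) hzp
  rw [finsum_mem_eq_toFinset_sum, ← Finset.sum_erase_add _ _
    (show one ∈ (blockOf M (one : G → ℂ)).toFinset from Set.mem_toFinset.2 hone)] at horth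
  have hterm : ∀ χ ∈ (blockOf M (one : G → ℂ)).toFinset.erase one, ∃ t : ℂ, IsIntegral ℤ t ∧
      (χ : G → ℂ) 1 * conj ((χ : G → ℂ) z) = (q : ℂ) * t := by
    intro χ hχ
    obtain ⟨hne, hχB⟩ := Finset.mem_erase.1 hχ
    rw [Set.mem_toFinset] at hχB
    obtain ⟨d, hd0, hd, hdvd⟩ := Chars.irr_degree_dvd_card χ
    by_cases hrd : r ∣ d
    · refine ⟨0, isIntegral_zero, ?_⟩
      obtain ⟨n, ρ, hρ, hρχ⟩ := Chars.irr_exists_rep χ
      have hfin : Module.finrank ℂ (Fin n → ℂ) = d := by
        have h1 : ρ.character 1 = (χ : G → ℂ) 1 := by rw [hρχ]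
        rw [Representation.char_one, hd] at h1
        exact_mod_cast h1
      have hv := Chars.char_eq_zero_of_defect_zero ρ hr (n := 1)
        (by rw [pow_one, hcard]; exact dvd_mul_left _ _)
        (by
          intro h
          rw [hcard, pow_succ', pow_one] at h
          exact (hr.coprime_iff_not_dvd.1 hrco) (Nat.dvd_of_mul_dvd_mul_right hr.pos h))
        (by rw [pow_one, hfin]; exact hrd) z hzr
      rw [hρχ] at hv
      simp [hv]
    · have hdpq : d ∣ p ^ a * q ^ b :=
        ((hr.coprime_iff_not_dvd.2 hrd).symm).dvd_of_dvd_mul_right (hcard ▸ hdvd)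
      have hqd : q ∣ d := by
        by_contra h
        obtain ⟨k, -, hk⟩ := (Nat.dvd_prime_pow hp).1
          ((((hq.coprime_iff_not_dvd.2 h).symm).pow_right b).dvd_of_dvd_mul_right hdpq)
        exact hne (Subtype.ext (eq_one_of_principalBlock_of_degree hM hna χ hχB k
          (by rw [hd, hk]; push_cast; rfl)))
      obtain ⟨e, rfl⟩ := hqd
      refine ⟨(e : ℂ) * conj ((χ : G → ℂ) z),
        isIntegral_algebraMap.mul (Chars.isIntegral_conj (Chars.irr_isIntegral χ z)), ?_⟩
      rw [hd]
      push_cast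
      ring
  choose! t ht1 ht2 using hterm
  rw [Finset.sum_congr rfl ht2, ← Finset.mul_sum] at horth
  set T := ∑ χ ∈ (blockOf M (one : G → ℂ)).toFinset.erase one, t χ
  have hT : IsIntegral ℤ T := IsIntegral.sum _ fun χ hχ => ht1 χ hχ
  simp only [one, map_one, mul_one] at horth
  have h1 : IsIntegral ℤ (((1 : ℕ) : ℂ) / (q : ℕ)) := by
    have : ((1 : ℕ) : ℂ) / (q : ℕ) = -T := by
      have hq0 : (q : ℂ) ≠ 0 := by exact_mod_cast hq.ne_zero
      field_simp
      linear_combination horth
    rw [this]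
    exact hT.neg
  exact hq.ne_one (Nat.dvd_one.1 (Chars.dvd_of_isIntegral_div hq.ne_zero h1))

theorem centralizer_sylow_eq_three_primes [IsSimpleGroup G] {p q r a b : ℕ} (hp : p.Prime)
    (hq : q.Prime) [Fact r.Prime] (hpr : p ≠ r) (hqr : q ≠ r)
    (hcard : Nat.card G = p ^ a * q ^ b * r) (S : Sylow r G) :
    Subgroup.centralizer (S : Set G) = (S : Subgroup G) := by
  have hr : r.Prime := Fact.out
  have hrG : r ∣ Nat.card G := hcard ▸ dvd_mul_left _ _
  by_cases hna : ∃ a b : G, a * b ≠ b * a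
  swap
  · push Not at hna
    haveI : (S : Subgroup G).Normal := ⟨fun x hx y => by rwa [hna y x, mul_inv_cancel_right]⟩
    have htop : (S : Subgroup G) = ⊤ :=
      ((inferInstance : (S : Subgroup G).Normal).eq_bot_or_eq_top).resolve_left
        (S.ne_bot_of_dvd_card hrG)
    refine le_antisymm (htop ▸ le_top) fun x hx => ?_
    exact Subgroup.mem_centralizer_iff.2 fun y _ => hna y x
  have hfac : (Nat.card G).factorization r = 1 := by
    rw [hcard, Nat.factorization_mul
      (mul_ne_zero (pow_ne_zero _ hp.ne_zero) (pow_ne_zero _ hq.ne_zero)) hr.ne_zero,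
      Nat.factorization_mul (pow_ne_zero _ hp.ne_zero) (pow_ne_zero _ hq.ne_zero)]
    simp [Nat.Prime.factorization hp, Nat.Prime.factorization hq, Nat.Prime.factorization hr,
      Finsupp.single_apply, hpr, hqr]
  have hS : Nat.card (S : Subgroup G) = r := by rw [S.card_eq_multiplicity, hfac, pow_one]
  haveI : IsCyclic (S : Subgroup G) := isCyclic_of_prime_card hS
  have hle : (S : Subgroup G) ≤ Subgroup.centralizer (S : Set G) := fun x hx =>
    Subgroup.mem_centralizer_iff.2 fun y hy =>
      congrArg Subtype.val ((IsCyclic.isMulCommutative (α := (S : Subgroup G))).is_comm.comm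
        ⟨y, hy⟩ ⟨x, hx⟩)
  obtain ⟨m, hm⟩ := Subgroup.card_dvd_of_le hle
  rw [hS] at hm
  rcases eq_or_ne m 1 with rfl | hm1
  · exact (Subgroup.eq_of_le_of_card_ge hle (by rw [hm, hS, mul_one])).symm
  exfalso
  obtain ⟨l, hl, hlm⟩ := Nat.exists_prime_and_dvd hm1
  haveI : Fact l.Prime := ⟨hl⟩
  have hmdvd : m ∣ p ^ a * q ^ b := by
    have := (Subgroup.card_subgroup_dvd_card (Subgroup.centralizer (S : Set G)))
    rw [hm, hcard, mul_comm r m] at this
    exact Nat.dvd_of_mul_dvd_mul_right hr.pos this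
  have hlpq : l = p ∨ l = q := by
    rcases hl.dvd_mul.1 (hlm.trans hmdvd) with h | h
    · exact Or.inl ((Nat.prime_dvd_prime_iff_eq hl hp).1 (hl.dvd_of_dvd_pow h))
    · exact Or.inr ((Nat.prime_dvd_prime_iff_eq hl hq).1 (hl.dvd_of_dvd_pow h))
  have hlr : l ≠ r := by rcases hlpq with rfl | rfl <;> assumption
  obtain ⟨t, ht⟩ := exists_prime_orderOf_dvd_card' (G := Subgroup.centralizer (S : Set G)) l
    (hm ▸ hlm.mul_left r)
  obtain ⟨s, hs⟩ := exists_prime_orderOf_dvd_card' (G := (S : Subgroup G)) r (dvd_of_eq hS.symm)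
  have hcomm : Commute (t : G) (s : G) :=
    (Subgroup.mem_centralizer_iff.1 t.2 _ s.2).symm
  have hz : orderOf ((t : G) * (s : G)) = l * r := by
    rw [hcomm.orderOf_mul_eq_mul_orderOf_of_coprime (by
      rw [Subgroup.orderOf_coe, Subgroup.orderOf_coe, ht, hs]
      exact (Nat.coprime_primes hl hr).2 hlr), Subgroup.orderOf_coe, Subgroup.orderOf_coe, ht, hs]
  rcases hlpq with rfl | rfl
  · exact false_of_dvd_orderOf_three_primes hna hp hq hr hpr hqr hcard _
      (hz ▸ dvd_mul_right _ _) (hz ▸ dvd_mul_left _ _)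
  · exact false_of_dvd_orderOf_three_primes (a := b) (b := a) hna hq hp hr hqr hpr
      (hcard.trans (by ring)) _ (hz ▸ dvd_mul_right _ _) (hz ▸ dvd_mul_left _ _)

end Cfsg.Agent.Lib.Blocks
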